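import Cfsg.Agent.FusionTate.Yoshida
import Cfsg.Agent.FusionTate.TransferData
import Cfsg.Agent.LocalStructure.Yoshida
import Cfsg.Agent.WeakClosed.FusionTools

/-!
# A failure of focal control gives a maximal subgroup with independent conjugate homomorphisms

The transfer argument of Yoshida's theorem, stopping before the permutation representation.
-/

set_option autoImplicit false

universe u

namespace CfsgLib.FusionFive

open Cfsg Cfsg.FusionSystem CfsgLib.Fusion CfsgLib.LocalStructure CfsgLib.FusionTate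

variable {Ω : Type u} [Group Ω] {S : Subgroup Ω} {F : FusionSystem S} {p : ℕ} [Fact p.Prime]
  [Finite S]

/-- The configuration forced by an invariant homomorphism not killing the focal subgroup. -/
theorem exists_config (hS : IsPGroup p S) (hF : F.IsSaturated p)
    (lam : S →* Multiplicative (ZMod p)) (hinv : ∀ α ∈ F.autGroup S, ∀ x : S, lam (α x) = lam x)
    {x₀ : S} (hx₀ : (x₀ : Ω) ∈ F.focalSubgroup) (hx₀' : lam x₀ ≠ 1) :
    ∃ (M : Subgroup S) (_ : M.Normal) (_ : Fintype (S ⧸ M)) (ω : M →* Multiplicative (ZMod p))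
      (u : M) (s : S), s ∉ M ∧ M.index = p ∧ ∑ q, (Yoshida.conjVals ω u).toAdd q ≠ 0 := by
  classical
  obtain ⟨u, ⟨huf, hu⟩, humin⟩ := Set.exists_min_image
    {x : S | (x : Ω) ∈ F.focalSubgroup ∧ lam x ≠ 1} orderOf (Set.toFinite _) ⟨x₀, hx₀, hx₀'⟩
  -- images of proper powers are killed
  have hkill : ∀ (R : Subgroup Ω) (θ : R →* Ω) (hθ : θ ∈ F.Hom R) (y : S) (hy : (y : Ω) ∈ R),
      (y : Ω) ∈ F.focalSubgroup → orderOf y < orderOf u → lam ⟨θ ⟨y, hy⟩, apply_mem hθ _⟩ = 1 := by
    intro R θ hθ y hy hyf hlt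
    by_contra hne1
    refine absurd (humin ⟨θ ⟨y, hy⟩, apply_mem hθ _⟩ ⟨?_, hne1⟩) (not_le.2 ?_)
    · have h1 : (y : Ω)⁻¹ * θ ⟨y, hy⟩ ∈ F.focalSubgroup :=
        Subgroup.subset_closure ⟨R, θ, ⟨y, hy⟩, hθ, rfl⟩
      have h2 := F.focalSubgroup.mul_mem hyf h1
      rwa [mul_inv_cancel_left] at h2
    · refine lt_of_eq_of_lt ?_ hlt
      rw [← Subgroup.orderOf_coe, ← Subgroup.orderOf_coe y]
      show orderOf (θ ⟨y, hy⟩) = _
      rw [orderOf_injective θ (F.injective_of_mem hθ), Subgroup.orderOf_mk]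
  obtain ⟨d⟩ := exists_transferData hS hF lam
  -- the transfer of `u` is trivial
  have hfix_eq : ∀ (w : d.Q), (∀ v : S, v • w = w) → d.f u w = lam u := by
    intro w hw
    obtain ⟨R, θ, hθ, hv⟩ := d.local_eq w
    have hle : S ≤ R := fun z hz => (hv ⟨z, hz⟩ (hw _)).1
    have hθ' := Fusion.restrict_mem hθ hle
    obtain ⟨α, hα, hαv⟩ := exists_iso hθ' (eq_S_of_isConj ⟨_, hθ', rfl⟩)
    obtain ⟨h, he⟩ := hv u (hw u)
    rw [he, ← hinv α (IsIso.mem_autGroup hα) u]
    exact congrArg lam (Subtype.ext (hαv u).symm)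
  have hone : ∏ w, d.f 1 w = 1 := by
    refine Finset.prod_eq_one fun w _ => ?_
    have h := d.cocycle 1 1 w
    rw [one_smul, mul_one, right_eq_mul] at h
    exact h
  let t : S →* Multiplicative (ZMod p) := MonoidHom.mk' (fun v => ∏ w, d.f v w) fun a b => by
    simp only [d.cocycle, Finset.prod_mul_distrib]
    rw [Fintype.prod_bijective (fun w => b • w) (MulAction.bijective b) (fun w => d.f a (b • w))
      (d.f a) fun w => rfl]
  have htot : ∏ w, d.f u w = 1 := by
    have hker : F.focalSubgroup ≤ t.ker.map S.subtype := by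
      refine (Subgroup.closure_le _).2 ?_
      rintro _ ⟨P, φ, y, hφ, rfl⟩
      refine ⟨⟨y, le_left hφ y.2⟩⁻¹ * ⟨φ y, apply_mem hφ y⟩, ?_, rfl⟩
      rw [SetLike.mem_coe, MonoidHom.mem_ker, map_mul, map_inv, inv_mul_eq_one]
      exact (d.invariant P φ hφ y).symm
    obtain ⟨u', hu', he⟩ := hker huf
    exact (Subtype.ext he : u' = u) ▸ hu'
  -- some nontrivial orbit contributes
  let π : d.Q → MulAction.orbitRel.Quotient S d.Q := Quotient.mk _
  letI : Fintype (MulAction.orbitRel.Quotient S d.Q) := Fintype.ofFinite _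
  obtain ⟨w₀, hw₀, hprod⟩ : ∃ w₀ : d.Q, (¬ ∀ v : S, v • w₀ = w₀) ∧
      ∏ x : {x // π x = π w₀}, d.f u x.1 ≠ 1 := by
    by_contra hcon
    push Not at hcon
    let g : d.Q → Multiplicative (ZMod p) := fun w => if ∀ v : S, v • w = w then lam u else 1
    have hfib : ∀ o, ∏ x : {x // π x = o}, d.f u x.1 = ∏ x : {x // π x = o}, g x.1 := by
      intro o
      induction o using Quotient.inductionOn with
      | _ w₀ =>
        have hmem : ∀ x : {x // π x = π w₀}, ∃ s : S, s • w₀ = x.1 := fun x =>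
          MulAction.mem_orbit_iff.1 (MulAction.orbitRel_apply.1 (Quotient.exact x.2))
        by_cases hw : ∀ v : S, v • w₀ = w₀
        · refine Finset.prod_congr rfl fun x _ => ?_
          obtain ⟨s, hs⟩ := hmem x
          rw [show x.1 = w₀ from hs.symm.trans (hw s), hfix_eq w₀ hw]
          exact (if_pos hw).symm
        · rw [hcon w₀ (not_forall.1 hw)]
          refine (Finset.prod_eq_one fun x _ => if_neg fun hx => hw fun v => ?_).symm
          obtain ⟨s, hs⟩ := hmem x
          have hws : x.1 = w₀ := (hx s⁻¹).symm.trans (by rw [← hs, inv_smul_smul])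
          rw [← hws]
          exact hx v
    rw [← Fintype.prod_fiberwise π, Fintype.prod_congr _ _ hfib, Fintype.prod_fiberwise π g] at htot
    simp only [g, Finset.prod_ite, Finset.prod_const_one, mul_one, Finset.prod_const] at htot
    set n := (Finset.univ.filter fun w : d.Q => ∀ v : S, v • w = w).card with hn
    have hpn : ¬ p ∣ n := by
      have h := hS.card_modEq_card_fixedPoints d.Q
      have hcard : Nat.card (MulAction.fixedPoints S d.Q) = n := by
        rw [hn, ← Fintype.card_subtype, ← Nat.card_eq_fintype_card]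
        rfl
      rw [hcard] at h
      exact fun hd => d.not_dvd ((Nat.ModEq.dvd_iff h dvd_rfl).2 hd)
    have hp1 : lam u ^ p = 1 := by
      apply Multiplicative.toAdd.injective
      simp
    have h1 : orderOf (lam u) = 1 := Nat.eq_one_of_dvd_coprimes
      ((Fact.out : p.Prime).coprime_iff_not_dvd.2 hpn) (orderOf_dvd_of_pow_eq_one hp1)
      (orderOf_dvd_of_pow_eq_one htot)
    exact hu (orderOf_eq_one_iff.1 h1)
  -- the orbit as the cosets of a proper subgroup
  set D : Subgroup S := MulAction.stabilizer S w₀ with hD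
  let μ : D →* Multiplicative (ZMod p) := MonoidHom.mk' (fun a => d.f a w₀) fun a b => by
    show d.f ((a : S) * b) w₀ = _
    rw [d.cocycle, show (b : S) • w₀ = w₀ from b.2]
  obtain ⟨R, θ, hθ, hv⟩ := d.local_eq w₀
  have hkillμ : Yoshida.Kills μ u := by
    intro a k hk hdvd hmem
    obtain ⟨h, he⟩ := hv _ hmem
    show d.f _ w₀ = 1
    rw [he]
    refine hkill R θ hθ _ h ?_ ?_
    · have h1 : ((u ^ k : S) : Ω) ∈ F.focalSubgroup := by
        simpa using F.focalSubgroup.pow_mem huf k
      have h2 := commutator_le_focal (F := F)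
        (Subgroup.commutator_mem_commutator (S.inv_mem a.2) (u ^ k).2)
      have h3 := F.focalSubgroup.mul_mem h2 h1
      simpa [commutatorElement_def, mul_assoc] using h3
    · have h1 : orderOf (a⁻¹ * u ^ k * a) = orderOf u / k := by
        rw [← orderOf_pow_of_dvd (by omega) hdvd]
        simpa using ((SemiconjBy.conj_mk a⁻¹ (u ^ k)).orderOf_eq _).symm
      rw [h1]
      exact Nat.div_lt_self (orderOf_pos u) hk
  letI : Fintype (S ⧸ D) := Fintype.ofFinite _
  have hmemo : ∀ y : S ⧸ D, π (MulAction.ofQuotientStabilizer S w₀ y) = π w₀ := fun y =>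
    Quotient.sound (MulAction.ofQuotientStabilizer_mem_orbit S w₀ y)
  have hb : Function.Bijective fun y : S ⧸ D =>
      (⟨MulAction.ofQuotientStabilizer S w₀ y, hmemo y⟩ : {x // π x = π w₀}) := by
    refine ⟨fun a b e => MulAction.injective_ofQuotientStabilizer S w₀ (congrArg Subtype.val e),
      fun x => ?_⟩
    obtain ⟨s, hs⟩ := MulAction.mem_orbit_iff.1
      (MulAction.orbitRel_apply.1 (Quotient.exact x.2))
    exact ⟨(s : S ⧸ D), Subtype.ext hs⟩
  have hof : ∀ y : S ⧸ D, MulAction.ofQuotientStabilizer S w₀ y = (y.out : S) • w₀ := fun y => by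
    conv_lhs => rw [← QuotientGroup.out_eq' y]
    rfl
  have hprodS : ∏ y : S ⧸ D, Yoshida.fixTerm μ u y.out ≠ 1 := by
    rw [← Yoshida.transfer_eq_prod_fixTerm μ u hkillμ, transfer_eq_prod_out]
    refine fun e => hprod ?_
    rw [← Fintype.prod_bijective _ hb (fun y => d.f u ((y.out : S) • w₀)) _ fun y => by
      exact congrArg (d.f u) (hof y).symm]
    have hstep : ∀ y : S ⧸ D, d.f u ((y.out : S) • w₀) =
        d.f (u • y).out w₀ * (d.f y.out w₀)⁻¹ *
          μ ⟨(u • y).out⁻¹ * (u * y.out), QuotientGroup.eq.1 (by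
            rw [QuotientGroup.out_eq', ← smul_eq_mul, ← MulAction.Quotient.smul_coe,
              QuotientGroup.out_eq'])⟩ := by
      intro y
      have h1 := d.cocycle u y.out w₀
      have h2 := d.cocycle (u • y).out ((u • y).out⁻¹ * (u * y.out)) w₀
      have hmem : ((u • y).out⁻¹ * (u * y.out)) • w₀ = w₀ := QuotientGroup.eq.1 (by
        rw [QuotientGroup.out_eq', ← smul_eq_mul, ← MulAction.Quotient.smul_coe,
          QuotientGroup.out_eq'] : (((u • y).out : S) : S ⧸ D) = ((u * y.out : S) : S ⧸ D))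
      rw [mul_inv_cancel_left, hmem, h1] at h2
      rw [mul_right_comm]
      show _ = d.f (u • y).out w₀ * d.f _ w₀ * (d.f y.out w₀)⁻¹
      rw [← h2, mul_inv_cancel_right]
    rw [Finset.prod_congr rfl fun y _ => hstep y, Finset.prod_mul_distrib, e, mul_one,
      Finset.prod_mul_distrib,
      Fintype.prod_bijective (fun y => u • y) (MulAction.bijective u)
        (fun y : S ⧸ D => d.f (u • y).out w₀) (fun y => d.f y.out w₀) fun y => rfl,
      Finset.prod_inv_distrib, mul_inv_cancel]
  -- cut down to a maximal subgroup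
  have hDtop : D ≠ ⊤ := fun e => hw₀ fun v => (e ▸ Subgroup.mem_top v : v ∈ D)
  obtain ⟨M, hM, hDM⟩ := (eq_top_or_exists_le_coatom D).resolve_left hDtop
  haveI hMn : M.Normal := CfsgLib.Solvable.normal_of_coatom hS hM
  have hidx : M.index = p := CfsgLib.Solvable.index_coatom hS hM
  obtain ⟨s, hs⟩ : ∃ s : S, s ∉ M := by
    by_contra hcon
    push Not at hcon
    exact hM.1 (eq_top_iff.2 fun t _ => hcon t)
  letI : Fintype (S ⧸ M) := Fintype.ofFinite _
  letI : Fintype (↥M ⧸ D.subgroupOf M) := Fintype.ofFinite _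
  rw [Yoshida.prod_fixTerm_le hDM] at hprodS
  simp only [Yoshida.fixTerm_conj μ] at hprodS
  have huM : u ∈ M := by
    by_contra hn
    refine hprodS (Finset.prod_eq_one fun q _ => Yoshida.prod_fixTerm_eq_one hDM μ fun hh => hn ?_)
    have := hMn.conj_mem _ hh q.out
    simpa [mul_assoc] using this
  let ω := MonoidHom.transfer (Yoshida.restrictTo μ M)
  refine ⟨M, hMn, inferInstance, ω, ⟨u, huM⟩, s, hs, hidx, fun h0 => hprodS ?_⟩
  apply Multiplicative.toAdd.injective
  rw [toAdd_prod, toAdd_one, ← h0]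
  refine Finset.sum_congr rfl fun q _ => ?_
  have hq : q.out⁻¹ * u * q.out ∈ M := by simpa using hMn.conj_mem _ huM q.out⁻¹
  conv_rhs => rw [← QuotientGroup.out_eq' q, Yoshida.conjVals_apply ω ⟨u, huM⟩ q.out hq]
  congr 1
  rw [Yoshida.transfer_eq_prod_fixTerm _ _ (hkillμ.restrict q.out hq)]
  simp only [Yoshida.fixTerm_restrictTo]

end CfsgLib.FusionFive
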