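import Cfsg.Agent.FusionFive.Calc
import Cfsg.Agent.FusionFive.Config
import Cfsg.Agent.FusionPearl.Extend
import Cfsg.Agent.FusionPearl.Twist
import Cfsg.Agent.FusionExtraspecial.Small
import Cfsg.Agent.BlocksCharsC.PGroupCenter
import Cfsg.Agent.PMaxClass.Basic

/-!
# Small tools on saturated fusion systems

* `comm_mem_of_index`: a `p`-group centralises normal factors of order `p`.
* `exists_normal_between`: a normal subgroup of order `p` more.
* `exists_aut_extension`: automorphisms preserving a stabilised series extend to automorphisms of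
  the normalizer.
* `unipotent_fix`: automorphisms of `S` are not unipotent non-trivial on `Z(S)`.
* `config_of_fixed`: a fixed element of an elementary abelian quotient of `S` gives the transfer
  configuration.
-/

set_option autoImplicit false
set_option linter.style.haveILetI false

namespace CfsgLib.FusionFive

open Cfsg Cfsg.FusionSystem CfsgLib.Fusion
open scoped commutatorElement

variable {Ω : Type*} [Group Ω] {S : Subgroup Ω} {F : FusionSystem S} {p : ℕ}

theorem conj_mem {H : Subgroup Ω} (hH : S ≤ Subgroup.normalizer (H : Set Ω)) {s x : Ω}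
    (hs : s ∈ S) (hx : x ∈ H) : s * x * s⁻¹ ∈ H :=
  (Subgroup.mem_normalizer_iff.1 (hH hs) x).1 hx

theorem le_normalizer_of_conj [Finite S] {H : Subgroup Ω} (hHS : H ≤ S)
    (h : ∀ s ∈ S, ∀ x ∈ H, s * x * s⁻¹ ∈ H) : S ≤ Subgroup.normalizer (H : Set Ω) := fun s hs => by
  have := finite_of_le hHS
  exact Subgroup.mem_normalizer_fintype (h s hs)

theorem comm_mem_of_index [Finite S] [Fact p.Prime] (hS : IsPGroup p S) {W N : Subgroup Ω}
    (hWN : W ≤ N) (hNS : N ≤ S) (hW : S ≤ Subgroup.normalizer (W : Set Ω))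
    (hN : S ≤ Subgroup.normalizer (N : Set Ω)) (hcard : Nat.card N = Nat.card W * p)
    {s x : Ω} (hs : s ∈ S) (hx : x ∈ N) : ⁅s, x⁆ ∈ W := by
  obtain ⟨k, hk⟩ := hS ⟨s, hs⟩
  have hidx : (W.subgroupOf S).relIndex (N.subgroupOf S) = p := by
    rw [Subgroup.relIndex_subgroupOf hNS]
    have h := Subgroup.card_mul_index (W.subgroupOf N)
    rw [Nat.card_congr (Subgroup.subgroupOfEquivOfLe hWN).toEquiv, hcard] at h
    have : Finite W := finite_of_le (hWN.trans hNS)
    exact Nat.eq_of_mul_eq_mul_left Nat.card_pos h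
  haveI : ((W.subgroupOf S).subgroupOf (N.subgroupOf S)).Normal :=
    ⟨fun y hy g => conj_mem hW (show (g : S).1 ∈ S from (g : S).2) hy⟩
  have h := CfsgLib.FusionEssential.inv_mul_apply_mem_of_relIndex hidx
    (α := MulAut.conj (⟨s, hs⟩ : S)) (k := k) (by rw [← map_pow, hk, map_one])
    (fun y hy => conj_mem hN hs hy) (fun y hy => conj_mem hW hs hy) (x := ⟨x, hNS hx⟩) hx
  have h' : x⁻¹ * (s * x * s⁻¹) ∈ W := h
  have := conj_mem hW (hNS hx) h'
  rw [commutatorElement_def]
  simpa [mul_assoc] using this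

theorem exists_normal_between [Finite S] [Fact p.Prime] (hS : IsPGroup p S) {W N : Subgroup Ω}
    (hWN : W < N) (hNS : N ≤ S) (hW : S ≤ Subgroup.normalizer (W : Set Ω))
    (hN : S ≤ Subgroup.normalizer (N : Set Ω)) :
    ∃ A : Subgroup Ω, W ≤ A ∧ A ≤ N ∧ S ≤ Subgroup.normalizer (A : Set Ω) ∧
      Nat.card A = Nat.card W * p := by
  have hp : p.Prime := Fact.out
  have hWS := hWN.le.trans hNS
  haveI hWn : (W.subgroupOf S).Normal := (Subgroup.normal_subgroupOf_iff_le_normalizer hWS).2 hW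
  haveI hNn : (N.subgroupOf S).Normal := (Subgroup.normal_subgroupOf_iff_le_normalizer hNS).2 hN
  set q := QuotientGroup.mk' (W.subgroupOf S) with hq
  haveI : ((N.subgroupOf S).map q).Normal :=
    hNn.map q (QuotientGroup.mk'_surjective _)
  obtain ⟨n, hn, hnW⟩ := SetLike.exists_of_lt hWN
  haveI : Nontrivial ((N.subgroupOf S).map q) := by
    refine ⟨⟨⟨q ⟨n, hNS hn⟩, ⟨_, hn, rfl⟩⟩, 1, fun h => hnW ?_⟩⟩
    exact (QuotientGroup.eq_one_iff (N := W.subgroupOf S) _).1 (congrArg Subtype.val h)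
  have hQ := hS.to_quotient (W.subgroupOf S)
  obtain ⟨z, hz, hz1⟩ := CfsgLib.BlocksCharsC.exists_mem_ne_one
    (CfsgLib.BlocksCharsC.inf_center_ne_bot hQ ((N.subgroupOf S).map q))
  obtain ⟨k, hk⟩ := IsPGroup.iff_orderOf.1 hQ z
  have hk0 : k ≠ 0 := fun h => hz1 (orderOf_eq_one_iff.1 (by rw [hk, h, pow_zero]))
  set z₀ := z ^ p ^ (k - 1) with hz₀
  have hz₀ord : orderOf z₀ = p := by
    rw [hz₀, orderOf_pow' z (pow_ne_zero _ hp.ne_zero), hk,
      Nat.gcd_eq_right (pow_dvd_pow p (Nat.sub_le k 1)), Nat.pow_div (Nat.sub_le k 1) hp.pos,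
      show k - (k - 1) = 1 by omega, pow_one]
  haveI : (Subgroup.zpowers z₀).Normal := ⟨fun y hy g => by
    have hc : z₀ ∈ Subgroup.center _ := pow_mem (Subgroup.mem_inf.1 hz).2 _
    obtain ⟨i, rfl⟩ := hy
    have : Commute g (z₀ ^ i) := (Subgroup.mem_center_iff.1 (zpow_mem hc i) g : _)
    simpa only [this.eq, mul_inv_cancel_right] using zpow_mem (Subgroup.mem_zpowers z₀) i⟩
  set B := (Subgroup.zpowers z₀).comap q with hB
  have hqker : q.ker = W.subgroupOf S := QuotientGroup.ker_mk' _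
  refine ⟨B.map S.subtype, ?_, ?_, ?_, ?_⟩
  · intro w hw
    refine ⟨⟨w, hWS hw⟩, ?_, rfl⟩
    have h1 : q ⟨w, hWS hw⟩ = 1 := MonoidHom.mem_ker.1 (hqker.symm ▸ hw)
    show q ⟨w, hWS hw⟩ ∈ Subgroup.zpowers z₀
    rw [h1]
    exact one_mem _
  · rintro _ ⟨y, hy, rfl⟩
    have h1 : q y ∈ (N.subgroupOf S).map q :=
      (Subgroup.zpowers_le.2 (pow_mem (Subgroup.mem_inf.1 hz).1 _)) hy
    obtain ⟨m, hm, hmy⟩ := h1
    have h2 : m⁻¹ * y ∈ W.subgroupOf S := by
      rw [← hqker, MonoidHom.mem_ker, map_mul, map_inv, hmy, inv_mul_cancel]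
    have h3 := (N.subgroupOf S).mul_mem hm
      (show m⁻¹ * y ∈ N.subgroupOf S from hWN.le h2)
    rwa [mul_inv_cancel_left] at h3
  · refine le_normalizer_of_conj (Subgroup.map_subtype_le _) ?_
    rintro s hs _ ⟨y, hy, rfl⟩
    exact ⟨⟨s, hs⟩ * y * ⟨s, hs⟩⁻¹, (inferInstance : B.Normal).conj_mem y hy _, rfl⟩
  · rw [Subgroup.card_map_of_injective S.subtype_injective]
    have h1 : B.index = (Subgroup.zpowers z₀).index :=
      Subgroup.index_comap_of_surjective _ (QuotientGroup.mk'_surjective _)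
    have h2 := Subgroup.card_mul_index B
    have h3 := Subgroup.card_mul_index (Subgroup.zpowers z₀)
    have h4 := Subgroup.card_eq_card_quotient_mul_card_subgroup (W.subgroupOf S)
    rw [Nat.card_zpowers, hz₀ord] at h3
    rw [Nat.card_congr (Subgroup.subgroupOfEquivOfLe hWS).toEquiv, ← h3, ← h2, h1] at h4
    refine Nat.eq_of_mul_eq_mul_right (Nat.pos_of_ne_zero Subgroup.FiniteIndex.index_ne_zero :
      0 < (Subgroup.zpowers z₀).index) (h4.trans ?_)
    ring

/-- Automorphisms preserving a series stabilised by the normalizer extend to it. -/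
theorem exists_aut_extension [Finite S] [Fact p.Prime] (hS : IsPGroup p S) (hF : F.IsSaturated p)
    {Q : Subgroup Ω} (hQ : F.IsFullyNormalized Q) (D : ℕ → Subgroup Ω) (m : ℕ) (h0 : D 0 = Q)
    (hm : D m = ⊥) (hle : ∀ i, D i ≤ Q)
    (hN : ∀ i, normalizerIn S Q ≤ Subgroup.normalizer (D i : Set Ω))
    (hstab : ∀ g ∈ normalizerIn S Q, ∀ i, i < m → ∀ x ∈ D i, x⁻¹ * (g * x * g⁻¹) ∈ D (i + 1))
    {α : MulAut Q} (hα : α ∈ F.autGroup Q)
    (hαD : ∀ i, ∀ x : Q, (x : Ω) ∈ D i → (α x : Ω) ∈ D i) :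
    ∃ β : MulAut (normalizerIn S Q), β ∈ F.autGroup (normalizerIn S Q) ∧
      ∀ (x : Q) (x' : normalizerIn S Q), (x : Ω) = x' → (β x' : Ω) = α x := by
  obtain ⟨ψ, hψ, hψx⟩ := CfsgLib.FusionPearl.exists_extension_of_series hS hF hQ D m h0 hm hle hN
    hα hαD le_rfl hstab
  have hQT : Q ≤ normalizerIn S Q := le_normalizerIn hQ.1
  have himg := imgHom_eq_of_agree hQT hψx
  have hr : ψ.range = normalizerIn S Q := by
    have := finite_of_le (normalizerIn_le S Q)
    refine Subgroup.eq_of_le_of_card_ge ?_ ?_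
    · rintro _ ⟨g, rfl⟩
      refine ⟨apply_mem hψ g, ?_⟩
      have := map_mem_normalizer (ψ := ψ) hQT g.2.2
      rwa [himg] at this
    · rw [← Nat.card_congr (MonoidHom.ofInjective (F.injective_of_mem hψ)).toEquiv]
  obtain ⟨β, hβ, hβx⟩ := exists_iso hψ hr
  refine ⟨β, IsIso.mem_autGroup hβ, fun x x' e => ?_⟩
  rw [hβx, show x' = ⟨(x : Ω), hQT x.2⟩ from Subtype.ext e.symm, hψx]

/-- Automorphisms along an equality of subgroups. -/
theorem exists_aut_of_eq {T T' : Subgroup Ω} (h : T = T') {β : MulAut T} (hβ : β ∈ F.autGroup T) :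
    ∃ β' : MulAut T', β' ∈ F.autGroup T' ∧
      ∀ (x : T) (x' : T'), (x : Ω) = x' → (β' x' : Ω) = β x := by
  subst h
  exact ⟨β, hβ, fun x x' e => by rw [show x' = x from Subtype.ext e.symm]⟩

theorem isConj_conj {P : Subgroup Ω} (hP : P ≤ S) {g : Ω} (hg : g ∈ S) :
    F.IsConj P (P.map (MulAut.conj g).toMonoidHom) := by
  refine ⟨conjHom P g, F.conj_mem hP hg, ?_⟩
  rw [conjHom, MonoidHom.range_eq_map, ← Subgroup.map_map, ← MonoidHom.range_eq_map,
    Subgroup.range_subtype]

/-- A fully normalized subgroup that is not normal has no normal conjugate. -/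
theorem false_of_isConj_normal [Finite S] {E A : Subgroup Ω} (hE : F.IsFullyNormalized E)
    (hne : normalizerIn S E ≠ S) (hA : S ≤ Subgroup.normalizer (A : Set Ω)) (h : F.IsConj E A) :
    False := by
  have := finite_of_le (normalizerIn_le S A)
  exact hne (Subgroup.eq_of_le_of_card_ge (normalizerIn_le S E)
    ((Subgroup.card_le_of_le (show S ≤ normalizerIn S A from le_inf le_rfl hA)).trans (hE.2 A h)))

/-- An automorphism of `U` cannot send a normal subgroup onto a conjugate of `E`. -/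
theorem false_of_image_conj [Finite S] {E A U : Subgroup Ω} (hE : F.IsFullyNormalized E)
    (hne : normalizerIn S E ≠ S) (hA : S ≤ Subgroup.normalizer (A : Set Ω)) (hAU : A ≤ U)
    (hUS : U ≤ S) {β : MulAut U} (hβ : β ∈ F.autGroup U) (hcard : Nat.card A = Nat.card E) {g : Ω}
    (hg : g ∈ S) (himg : ∀ x : U, (x : Ω) ∈ A → (β x : Ω) ∈ E.map (MulAut.conj g).toMonoidHom) :
    False := by
  have hI : U.subtype.comp β.toMonoidHom ∈ F.Hom U := (mem_autGroup_iff hUS).1 hβ
  have hle : imgHom (U.subtype.comp β.toMonoidHom) A ≤ E.map (MulAut.conj g).toMonoidHom := by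
    intro y hy
    obtain ⟨x, hx, rfl⟩ := mem_imgHom.1 hy
    exact himg x hx
  have hEg := isConj_conj (F := F) hE.1 hg
  have := finite_of_le (le_of_isConj_right hEg)
  have heq : imgHom (U.subtype.comp β.toMonoidHom) A = E.map (MulAut.conj g).toMonoidHom :=
    Subgroup.eq_of_le_of_card_ge hle (by
      rw [card_imgHom (F.injective_of_mem hI) hAU, hcard,
        Subgroup.card_map_of_injective (MulEquiv.injective _)])
  exact false_of_isConj_normal hE hne hA
    (isConj_trans hEg (heq ▸ isConj_symm (isConj_restrict hI hAU)))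

/-- Automorphisms of `S` act on the centre without non-trivial unipotent part. -/
theorem unipotent_fix [Finite S] [Fact p.Prime] (hS : IsPGroup p S) (hF : F.IsSaturated p)
    {γ : MulAut S} (hγ : γ ∈ F.autGroup S) {u z : S} (hu : u ^ p = 1)
    (hzc : z ∈ Subgroup.center S) (hγu : γ u = u) {i : ℤ}
    (hγz : γ z = u ^ i * z) : u ^ i = 1 := by
  by_contra hi
  obtain ⟨m, hm, hmα⟩ := CfsgLib.FusionExtraspecial.exists_pow_mem_Inn hS hF
  have hit : ∀ n : ℕ, (γ ^ n) z = u ^ (i * n) * z := by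
    intro n
    induction n with
    | zero => simp
    | succ n ih =>
      rw [pow_succ', MulAut.mul_apply, ih, map_mul, map_zpow, hγu, hγz, ← mul_assoc, ← zpow_add]
      congr 2
      push_cast
      ring
  obtain ⟨g, hg⟩ := hmα γ hγ
  have h1 : (γ ^ m) z = z := by
    rw [← hg]
    show g * z * g⁻¹ = z
    rw [Subgroup.mem_center_iff.1 hzc g, mul_inv_cancel_right]
  rw [hit, mul_eq_right] at h1
  rcases eq_or_ne u 1 with hu1 | hu1
  · exact hi (by rw [hu1, one_zpow])
  rw [zpow_eq_one_iff hu hu1] at h1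
  rcases (Nat.prime_iff_prime_int.1 (Fact.out : p.Prime)).dvd_or_dvd h1 with h2 | h2
  · exact hi ((zpow_eq_one_iff hu hu1 i).2 h2)
  · exact hm (Int.natCast_dvd_natCast.1 h2)

/-- A fixed element of an elementary abelian quotient, outside of the kernel, gives the transfer
configuration. -/
theorem config_of_fixed [Finite S] [Fact p.Prime] (hS : IsPGroup p S) (hF : F.IsSaturated p)
    (hfoc : ∀ x : S, (x : Ω) ∈ F.focalSubgroup) (R : Subgroup S) [R.Normal]
    (hcomm : ∀ x y : S, ⁅x, y⁆ ∈ R) (hpow : ∀ x : S, x ^ p ∈ R)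
    (hinv : ∀ α ∈ F.autGroup S, ∀ x ∈ R, α x ∈ R) {c : S} (hc : c ∉ R)
    (hfix : ∀ α ∈ F.autGroup S, α c * c⁻¹ ∈ R) :
    ∃ (M : Subgroup S) (_ : M.Normal) (_ : Fintype (S ⧸ M)) (ω : M →* Multiplicative (ZMod p))
      (u : M) (s : S), s ∉ M ∧ M.index = p ∧
        ∑ q, (LocalStructure.Yoshida.conjVals ω u).toAdd q ≠ 0 := by
  classical
  have hp : p.Prime := Fact.out
  set q := QuotientGroup.mk' R with hq
  letI : CommGroup (S ⧸ R) := { (inferInstance : Group (S ⧸ R)) with
    mul_comm := fun a b => by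
      obtain ⟨x, rfl⟩ := QuotientGroup.mk'_surjective R a
      obtain ⟨y, rfl⟩ := QuotientGroup.mk'_surjective R b
      rw [← commutatorElement_eq_one_iff_mul_comm, ← map_commutatorElement]
      exact (QuotientGroup.eq_one_iff _).2 (hcomm x y) }
  have hmap : ∀ α ∈ F.autGroup S, R.map α.toMonoidHom = R := fun α hα => by
    refine le_antisymm ?_ fun x hx => ⟨α⁻¹ x, hinv _ (inv_mem hα) x hx, MulAut.apply_inv_self _ _ x⟩
    rintro _ ⟨x, hx, rfl⟩
    exact hinv α hα x hx
  have hq1 : ∀ α β : MulAut (S ⧸ R), (∀ x, α (q x) = β (q x)) → α = β := fun α β h =>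
    MulEquiv.ext fun y => by
      obtain ⟨x, rfl⟩ := QuotientGroup.mk'_surjective R y
      exact h x
  let f : F.autGroup S →* MulAut (S ⧸ R) := MonoidHom.mk'
    (fun α => QuotientGroup.congr R R (α : MulAut S) (hmap _ α.2))
    (fun α β => hq1 _ _ fun x => rfl)
  have hf : ∀ (α : F.autGroup S) x, f α (q x) = q ((α : MulAut S) x) := fun _ _ => rfl
  have : Finite (MulAut (S ⧸ R)) := Finite.of_injective (fun α => (α : S ⧸ R → S ⧸ R))
    DFunLike.coe_injective
  set X := f.range with hX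
  have hXp : ¬ p ∣ Nat.card X := by
    intro hd
    obtain ⟨⟨_, α, rfl⟩, hσ⟩ := exists_prime_orderOf_dvd_card' p hd
    obtain ⟨m, hm, hmα⟩ := CfsgLib.FusionExtraspecial.exists_pow_mem_Inn hS hF
    obtain ⟨g, hg⟩ := hmα _ α.2
    refine hm ?_
    rw [← hσ, orderOf_dvd_iff_pow_eq_one]
    refine Subtype.ext ?_
    show f α ^ m = 1
    rw [← map_pow]
    refine hq1 _ _ fun x => ?_
    rw [hf, Subgroup.coe_pow, ← hg]
    show q (g * x * g⁻¹) = q x
    rw [map_mul, map_mul, map_inv, mul_comm (q g), mul_inv_cancel_right]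
  letI : Fintype X := Fintype.ofFinite _
  let nm : (S ⧸ R) →* (S ⧸ R) := ∏ σ : X, ((σ : MulAut (S ⧸ R)) : (S ⧸ R) →* (S ⧸ R))
  have hnm : ∀ v, nm v = ∏ σ : X, (σ : MulAut (S ⧸ R)) v := fun v => by
    simp only [nm, MonoidHom.finsetProd_apply, MonoidHom.coe_coe]
  have hnc : nm (q c) ≠ 1 := by
    rw [hnm, Finset.prod_eq_pow_card (b := q c)]
    · intro h
      rw [Finset.card_univ, ← Nat.card_eq_fintype_card] at h
      have hqc : q c ^ p = 1 := by
        rw [← map_pow]; exact (QuotientGroup.eq_one_iff _).2 (hpow c)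
      have hne : q c ≠ 1 := fun e => hc ((QuotientGroup.eq_one_iff c).1 e)
      exact hXp (by rw [← orderOf_eq hqc hne]; exact orderOf_dvd_of_pow_eq_one h)
    · rintro ⟨_, α, rfl⟩ -
      show f α (q c) = q c
      rw [hf]
      exact mul_inv_eq_one.1 (by
        rw [← map_inv, ← map_mul]
        exact (QuotientGroup.eq_one_iff _).2 (hfix _ α.2))
  have hel : nm (q c) ∉ Transfer.elemResidual p (S ⧸ R) := by
    intro h
    refine hnc ?_
    have h2 := Transfer.elemResidual_le_ker (MonoidHom.id (S ⧸ R)) (fun a b => mul_comm a b)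
      (p := p) (fun a => by
        obtain ⟨x, rfl⟩ := QuotientGroup.mk'_surjective R a
        rw [← map_pow]; exact (QuotientGroup.eq_one_iff _).2 (hpow x)) h
    exact h2
  obtain ⟨g, hg⟩ := LocalStructure.Yoshida.exists_hom_ne_one hel
  refine exists_config hS hF (g.comp (nm.comp q)) (fun α hα x => ?_) (hfoc c) hg
  show g (nm (q (α x))) = g (nm (q x))
  rw [← hf ⟨α, hα⟩, hnm, hnm]
  congr 1
  exact Fintype.prod_bijective (fun σ : X => σ * ⟨f ⟨α, hα⟩, ⟨_, rfl⟩⟩)
    (Group.mulRight_bijective _) _ _ fun σ => rfl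

end CfsgLib.FusionFive
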