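import Mathlib.GroupTheory.Commutator.Basic
import Mathlib.GroupTheory.OrderOfElement
import Mathlib.GroupTheory.PGroup
import Mathlib.GroupTheory.Subgroup.Center
import Mathlib.Data.Nat.Choose.Dvd
import Mathlib.Algebra.Field.ZMod
import Mathlib.RingTheory.Int.Basic

/-!
# Commutator calculus with central values, and small facts on `p`-groups
-/

set_option autoImplicit false

namespace CfsgLib.FusionFive

open scoped commutatorElement

variable {G : Type*} [Group G] {p : ℕ}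

theorem conj_eq (a b : G) : a * b * a⁻¹ = ⁅a, b⁆ * b := by
  rw [commutatorElement_def]; group

theorem comm_mul_left {a b c : G} (h : ∀ z, Commute ⁅b, c⁆ z) :
    ⁅a * b, c⁆ = ⁅a, c⁆ * ⁅b, c⁆ := by
  have e : ⁅a * b, c⁆ = a * ⁅b, c⁆ * a⁻¹ * ⁅a, c⁆ := by simp only [commutatorElement_def]; group
  rw [e, ← (h a).eq, mul_inv_cancel_right]
  exact (h _).eq

theorem comm_mul_right {a b c : G} (h : ∀ z, Commute ⁅a, c⁆ z) :
    ⁅a, b * c⁆ = ⁅a, b⁆ * ⁅a, c⁆ := by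
  have e : ⁅a, b * c⁆ = ⁅a, b⁆ * (b * ⁅a, c⁆ * b⁻¹) := by simp only [commutatorElement_def]; group
  rw [e, ← (h b).eq, mul_inv_cancel_right]

theorem comm_zpow_left {a b : G} (h : ∀ z, Commute ⁅a, b⁆ z) (n : ℤ) :
    ⁅a ^ n, b⁆ = ⁅a, b⁆ ^ n := by
  have h1 : b * a * b⁻¹ = ⁅a, b⁆⁻¹ * a := by rw [commutatorElement_def]; group
  have h2 : b * a ^ n * b⁻¹ = (⁅a, b⁆⁻¹) ^ n * a ^ n := by
    rw [← conj_zpow, h1, ((h a).inv_left).mul_zpow]
  calc ⁅a ^ n, b⁆ = a ^ n * (b * a ^ n * b⁻¹)⁻¹ := by rw [commutatorElement_def]; group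
    _ = a ^ n * (a ^ n)⁻¹ * ⁅a, b⁆ ^ n := by rw [h2, mul_inv_rev, inv_zpow, inv_inv, mul_assoc]
    _ = ⁅a, b⁆ ^ n := by rw [mul_inv_cancel, one_mul]

theorem comm_zpow_right {a b : G} (h : ∀ z, Commute ⁅a, b⁆ z) (n : ℤ) :
    ⁅a, b ^ n⁆ = ⁅a, b⁆ ^ n := by
  have hb : ∀ z, Commute ⁅b, a⁆ z := fun z => by
    rw [← commutatorElement_inv]; exact (h z).inv_left
  rw [← commutatorElement_inv, comm_zpow_left hb, ← inv_zpow, commutatorElement_inv]

theorem comm_zpow_zpow {a b : G} (h : ∀ z, Commute ⁅a, b⁆ z) (m n : ℤ) :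
    ⁅a ^ m, b ^ n⁆ = ⁅a, b⁆ ^ (m * n) := by
  have h' : ∀ z, Commute ⁅a ^ m, b⁆ z := fun z => by
    rw [comm_zpow_left h]; exact (h z).zpow_left m
  rw [comm_zpow_right h', comm_zpow_left h, ← zpow_mul]

theorem comm_eq_one {a b : G} (h : Commute a b) : ⁅a, b⁆ = 1 :=
  commutatorElement_eq_one_iff_commute.2 h

theorem commute_one' (z : G) : Commute (1 : G) z := Commute.one_left z

theorem comm_mul_right_eq {a b c : G} (h : Commute a c) : ⁅a, b * c⁆ = ⁅a, b⁆ := by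
  rw [comm_mul_right (by rw [comm_eq_one h]; exact commute_one'), comm_eq_one h, mul_one]

theorem comm_mul_left_eq {a b c : G} (h : Commute b c) : ⁅a * b, c⁆ = ⁅a, c⁆ := by
  rw [comm_mul_left (by rw [comm_eq_one h]; exact commute_one'), comm_eq_one h, mul_one]

/-- Powers of a product with central commutator. -/
theorem mul_pow' {x y : G} (h : ∀ z, Commute ⁅y, x⁆ z) :
    ∀ n : ℕ, (x * y) ^ n = x ^ n * y ^ n * ⁅y, x⁆ ^ n.choose 2 := by
  intro n
  induction n with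
  | zero => simp
  | succ n ih =>
    have hyx : y ^ n * x = x * y ^ n * ⁅y, x⁆ ^ n := by
      have h1 := comm_zpow_left h (n : ℤ)
      rw [zpow_natCast, zpow_natCast] at h1
      rw [← h1]
      have e : y ^ n * x = ⁅y ^ n, x⁆ * (x * y ^ n) := by rw [commutatorElement_def]; group
      have h2 : Commute ⁅y ^ n, x⁆ (x * y ^ n) := by rw [h1]; exact (h _).pow_left n
      rw [e, h2.eq]
    have hc : ∀ (k : ℕ) (z : G), Commute (⁅y, x⁆ ^ k) z := fun k z => (h z).pow_left k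
    calc (x * y) ^ (n + 1) = x ^ n * y ^ n * ⁅y, x⁆ ^ n.choose 2 * (x * y) := by rw [pow_succ, ih]
      _ = x ^ n * (y ^ n * x) * y * ⁅y, x⁆ ^ n.choose 2 := by
        rw [mul_assoc (x ^ n * y ^ n), (hc _ (x * y)).eq]; group
      _ = x ^ n * (x * y ^ n) * (y * ⁅y, x⁆ ^ n) * ⁅y, x⁆ ^ n.choose 2 := by
        rw [hyx, ← (hc n y).eq]; group
      _ = x ^ (n + 1) * y ^ (n + 1) * ⁅y, x⁆ ^ (n + 1).choose 2 := by
        rw [show (n + 1).choose 2 = n + n.choose 2 by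
          rw [Nat.choose_succ_succ', Nat.choose_one_right], pow_add]
        simp only [pow_succ, pow_zero, one_mul, mul_assoc, ← pow_add]

/-- For odd `p` the `p`-th power is multiplicative on such products. -/
theorem mul_pow_prime {x y : G} (hp : p.Prime) (hp2 : p ≠ 2) (h : ∀ z, Commute ⁅y, x⁆ z)
    (hc : ⁅y, x⁆ ^ p = 1) : (x * y) ^ p = x ^ p * y ^ p := by
  obtain ⟨k, hk⟩ := hp.dvd_choose_self (k := 2) (by norm_num)
    (lt_of_le_of_ne hp.two_le (Ne.symm hp2))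
  rw [mul_pow' h, hk, pow_mul, hc, one_pow, mul_one]

section Prime

variable [Fact p.Prime] {u : G}

theorem orderOf_eq (hu : u ^ p = 1) (h1 : u ≠ 1) : orderOf u = p := orderOf_eq_prime hu h1

theorem zpow_eq_one_iff (hu : u ^ p = 1) (h1 : u ≠ 1) (i : ℤ) : u ^ i = 1 ↔ (p : ℤ) ∣ i := by
  rw [← orderOf_eq hu h1, orderOf_dvd_iff_zpow_eq_one]

theorem zpow_eq_zpow_iff (hu : u ^ p = 1) (h1 : u ≠ 1) (i j : ℤ) :
    u ^ i = u ^ j ↔ ((i : ZMod p) = (j : ZMod p)) := by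
  rw [← div_eq_one, div_eq_mul_inv, ← zpow_sub, zpow_eq_one_iff hu h1, ← ZMod.intCast_zmod_eq_zero_iff_dvd,
    Int.cast_sub, sub_eq_zero]

omit [Fact p.Prime] in
theorem not_dvd_of_zpow_ne (hu : u ^ p = 1) {i : ℤ} (h : u ^ i ≠ 1) : ¬ (p : ℤ) ∣ i := by
  rintro ⟨k, rfl⟩
  exact h (by rw [zpow_mul, zpow_natCast, hu, one_zpow])

/-- An element of `H` whose power prime to `p` lies in a subgroup lies there, for `u ^ p` there. -/
theorem mem_of_zpow_mem {H : Subgroup G} (hu : u ^ p ∈ H) {i : ℤ} (hi : ¬ (p : ℤ) ∣ i)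
    (h : u ^ i ∈ H) : u ∈ H := by
  have hco : IsCoprime (p : ℤ) i :=
    (Nat.prime_iff_prime_int.1 (Fact.out : p.Prime)).coprime_iff_not_dvd.2 hi
  obtain ⟨a, b, hab⟩ := hco
  rw [← zpow_one u, ← hab, zpow_add, mul_comm a, zpow_mul, mul_comm b, zpow_mul, zpow_natCast]
  exact H.mul_mem (H.zpow_mem hu a) (H.zpow_mem h b)

end Prime

end CfsgLib.FusionFive
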