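import Cfsg.Agent.FusionFive.Consequences
import Cfsg.Agent.FusionClosed.Invariant
import Cfsg.Agent.FusionExtraspecial.Small

/-!
# Case `l ≡ 0`: the line `⟨c⟩` is normal in the fusion system
-/

set_option autoImplicit false
set_option linter.style.haveILetI false
set_option linter.unusedSectionVars false
set_option maxHeartbeats 800000

namespace CfsgLib.FusionFive

open Cfsg Cfsg.FusionSystem CfsgLib.Fusion CfsgLib.FusionClosed
open scoped commutatorElement

attribute [local instance] CfsgLib.FusionClosed.commGroupOf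

variable {Ω : Type*} [Group Ω] {S : Subgroup Ω} {F : FusionSystem S} {p : ℕ}

theorem apply_mem_center {G : Type*} [Group G] (α : MulAut G) {x : G}
    (hx : x ∈ Subgroup.center G) : α x ∈ Subgroup.center G := by
  have h := (Subgroup.centerCharacteristic : (Subgroup.center G).Characteristic).fixed α
  exact (h.symm ▸ hx : x ∈ (Subgroup.center G).comap α.toMonoidHom)

theorem apply_mem_commutator {G : Type*} [Group G] (α : MulAut G) {x : G}
    (hx : x ∈ commutator G) : α x ∈ commutator G := by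
  have h := (Subgroup.commutator_characteristic ⊤ ⊤ : (commutator G).Characteristic).fixed α
  exact (h.symm ▸ hx : x ∈ (commutator G).comap α.toMonoidHom)

/-- A second transvection outside the given cyclic group. -/
theorem CubeCtx.exists_tau [Finite S] [Fact p.Prime] {E : Subgroup Ω} (h : CubeCtx F p E)
    {σ : MulAut E} (hσF : σ ∈ F.autGroup E) (hσ : haveI := h.comm; IsTransvection p σ)
    (hgen : autInducedBy S E = Subgroup.zpowers σ) :
    ∃ τ ∈ F.autGroup E, (haveI := h.comm; IsTransvection p τ) ∧ τ ∉ Subgroup.zpowers σ := by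
  haveI := h.comm
  have hσ1 : σ ≠ 1 := fun e => by
    have := hσ.order
    rw [e, orderOf_one] at this
    exact (Fact.out : p.Prime).one_lt.ne this
  obtain ⟨g, hg, hgσ⟩ := exists_conj_not_mem h.isP h.ess hgen hσ1
  exact ⟨g * σ * g⁻¹, mul_mem (mul_mem hg hσF) (inv_mem hg), hσ.conj g, hgσ⟩

/-- A subgroup of order `p ^ 4` is normal. -/
theorem le_normalizer_of_card [Finite S] [Fact p.Prime] (hS : IsPGroup p S)
    (hcard : Nat.card S = p ^ 5) {P : Subgroup Ω} (hPS : P ≤ S) (hP : Nat.card P = p ^ 4) :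
    S ≤ Subgroup.normalizer (P : Set Ω) := by
  have hp : p.Prime := Fact.out
  have hne : P ≠ S := fun e => by
    rw [e, hcard] at hP
    have := Nat.pow_right_injective hp.two_le hP
    omega
  haveI := finite_of_le (normalizerIn_le S P)
  have h1 := Set.Finite.card_lt_card (Set.toFinite (normalizerIn S P : Set Ω))
    (lt_normalizerIn hS (lt_of_le_of_ne hPS hne))
  obtain ⟨e, he⟩ := IsPGroup.iff_card.1 (hS.to_le (normalizerIn_le S P))
  rw [show Nat.card (P : Set Ω) = p ^ 4 from hP,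
    show Nat.card (normalizerIn S P : Set Ω) = p ^ e from he] at h1
  have he5 := (Nat.pow_lt_pow_iff_right hp.one_lt).1 h1
  exact (Subgroup.eq_of_le_of_card_ge (normalizerIn_le S P) (by
    rw [he, hcard]; exact Nat.pow_le_pow_right hp.pos he5)).ge.trans inf_le_right

namespace Frame

variable [Finite S] [Fact p.Prime] {N A W : Subgroup S} {u e c g s : S} {m q l v : ℤ}
  (h : Frame p N A W u e c g s m q l v) (ht : HasTorus F p N A u e c) (hp2 : p ≠ 2)
include h ht hp2

theorem center_inf_commutator {z : S} (hzc : z ∈ Subgroup.center S) (hzd : z ∈ commutator S) :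
    z ∈ Subgroup.zpowers u := by
  obtain ⟨i, j, rfl⟩ := h.decomp_W (h.center_le_W hzc)
  have hci : c ^ i ∈ commutator S := by
    have := mul_mem hzd (inv_mem (zpow_mem h.u_mem_commutator j))
    rwa [mul_inv_cancel_right] at this
  obtain ⟨i', rfl⟩ : (p : ℤ) ∣ i := by
    by_contra hc
    exact h.c_not_commutator ht hp2
      (mem_of_zpow_mem (by rw [h.c_pow]; exact one_mem _) hc hci)
  rw [zpow_mul, zpow_natCast, h.c_pow, one_zpow, one_mul]
  exact zpow_mem (Subgroup.mem_zpowers u) j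

theorem zpow_two_eq_one {i : ℤ} (hi : u ^ (-2 * i) = 1) : u ^ i = 1 := by
  rw [zpow_eq_one_iff h.u_pow h.u_ne] at hi ⊢
  rcases (Nat.prime_iff_prime_int.1 (Fact.out : p.Prime)).dvd_or_dvd hi with h1 | h1
  · refine absurd ?_ hp2
    rw [dvd_neg] at h1
    exact (Nat.prime_dvd_prime_iff_eq Fact.out Nat.prime_two).1 (Int.natCast_dvd_natCast.1 h1)
  · exact h1

variable (hS : IsPGroup p S) (hF : F.IsSaturated p) (hl : u ^ l = 1)
include hS hF hl

theorem aut_c {γ : MulAut S} (hγ : γ ∈ F.autGroup S) : γ c ∈ Subgroup.zpowers c := by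
  have hcc := h.c_mem_center hl
  have hW := h.center_eq hl
  obtain ⟨d, i, hdi⟩ := h.decomp_W (hW ▸ apply_mem_center γ hcc)
  obtain ⟨β, hβ, hβu, hβc, -⟩ := h.exists_neg ht hp2
  obtain ⟨δ, hδ⟩ := h.center_inf_commutator ht hp2
    (apply_mem_center γ (Subgroup.mem_center_iff.2 fun t => (h.u_cen t).eq.symm))
    (apply_mem_commutator γ h.u_mem_commutator)
  have hzc : γ c ∈ Subgroup.center S := apply_mem_center γ hcc
  set η : MulAut S := β * γ * β⁻¹ * γ⁻¹ with hη
  have hηm : η ∈ F.autGroup S := mul_mem (mul_mem (mul_mem hβ hγ) (inv_mem hβ)) (inv_mem hγ)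
  have hβiu : β⁻¹ u = u⁻¹ := β.injective (by rw [MulAut.apply_inv_self, map_inv, hβu, inv_inv])
  have hβic : β⁻¹ c = c := β.injective (by rw [MulAut.apply_inv_self, hβc])
  have hηu : η u = u := by
    have h1 : η (γ u) = γ u := by
      rw [hη, MulAut.mul_apply, MulAut.mul_apply, MulAut.mul_apply, MulAut.inv_apply_self, hβiu,
        map_inv, ← hδ]
      show β (u ^ δ)⁻¹ = u ^ δ
      rw [map_inv, map_zpow, hβu, inv_zpow, inv_inv]
    rw [← hδ] at h1
    have hδ0 : ¬ (p : ℤ) ∣ δ := by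
      intro hd
      refine h.u_ne (γ.injective ?_)
      rw [map_one, ← hδ]
      exact (zpow_eq_one_iff h.u_pow h.u_ne δ).2 hd
    obtain ⟨a, b, hab⟩ : IsCoprime δ (p : ℤ) :=
      ((Nat.prime_iff_prime_int.1 (Fact.out : p.Prime)).coprime_iff_not_dvd.2 hδ0).symm
    have h2 : u = (u ^ δ) ^ a := by
      rw [← zpow_mul, show δ * a = 1 + (p : ℤ) * -b by linear_combination hab, zpow_add, zpow_one,
        zpow_mul, zpow_natCast, h.u_pow, one_zpow, mul_one]
    conv_lhs => rw [h2, map_zpow, h1]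
    exact h2.symm
  have hηc : η (γ c) = u ^ (-2 * i) * γ c := by
    rw [hη, MulAut.mul_apply, MulAut.mul_apply, MulAut.mul_apply, MulAut.inv_apply_self, hβic, hdi,
      map_mul, map_zpow, map_zpow, hβu, hβc, inv_zpow]
    calc c ^ d * (u ^ i)⁻¹ = (u ^ i)⁻¹ * c ^ d :=
          (((h.u_cen c).zpow_zpow i d).inv_left).eq.symm
      _ = u ^ (-2 * i) * (c ^ d * u ^ i) := by
          rw [((h.u_cen c).zpow_zpow i d).eq.symm, ← mul_assoc, ← zpow_add, ← zpow_neg]
          congr 2
          ring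
  have h3 := h.zpow_two_eq_one ht hp2 (unipotent_fix hS hF hηm h.u_pow hzc hηu hηc)
  rw [hdi, h3, mul_one]
  exact ⟨d, rfl⟩

end Frame

/-- The case `l ≡ 0` contradicts a trivial core. -/
theorem CubeCtx.false_of_central [Finite S] [Fact p.Prime] {E : Subgroup Ω} (hE : CubeCtx F p E)
    (hcore : F.core = ⊥) {N A W : Subgroup S} {u e c g s : S} {m q l v : ℤ}
    (h : Frame p N A W u e c g s m q l v) (ht : HasTorus F p N A u e c) (hl : u ^ l = 1) : False := by
  have hp : p.Prime := Fact.out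
  have hS := hE.isP
  have hF := hE.sat
  have hp2 := hE.odd
  have hW := h.center_eq hl
  have hcc := h.c_mem_center hl
  have hc1 : c ≠ 1 := fun e' => h.cU (e' ▸ one_mem _)
  set T := (Subgroup.zpowers c).map S.subtype with hT
  have hTS : T ≤ S := Subgroup.map_subtype_le _
  have hTmem : ∀ z : Ω, z ∈ T → ∃ i : ℤ, z = (c : Ω) ^ i := by
    rintro _ ⟨_, ⟨i, rfl⟩, rfl⟩
    exact ⟨i, by simp⟩
  have hTc : ∀ i : ℤ, (c : Ω) ^ i ∈ T := fun i => ⟨c ^ i, ⟨i, rfl⟩, by simp⟩
  set WΩ := (Subgroup.center S).map S.subtype with hWΩ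
  have hWS : WΩ ≤ S := Subgroup.map_subtype_le _
  have hWP : ∀ P : Subgroup Ω, F.IsEssential p P → WΩ ≤ P := by
    rintro P hP _ ⟨z, hz, rfl⟩
    exact centralizerIn_le_of_centric hP.1 (mem_centralizerIn.2 ⟨z.2, fun y hy =>
      congrArg Subtype.val (Subgroup.mem_center_iff.1 hz ⟨y, hP.1.1 hy⟩)⟩)
  have hcWΩ : (c : Ω) ∈ WΩ := ⟨c, hcc, rfl⟩
  suffices hn : F.IsNormal T by
    have hbot : T = ⊥ := le_bot_iff.1 (hcore ▸ le_sSup hn)
    refine hc1 (Subtype.ext ?_)
    have := hTc 1
    rw [zpow_one, hbot, Subgroup.mem_bot] at this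
    exact this
  refine CfsgLib.FusionClosed.isNormal_of_invariant hS hF hTS (fun t ht' z hz => ?_)
    (fun P hP z hz => ?_) ?_
  · obtain ⟨i, rfl⟩ := hTmem z hz
    have h1 : Commute t (c : Ω) :=
      congrArg Subtype.val (Subgroup.mem_center_iff.1 hcc ⟨t, ht'⟩)
    rw [(h1.zpow_right i).eq, mul_inv_cancel_right]
    exact hTc i
  · obtain ⟨i, rfl⟩ := hTmem z hz
    exact zpow_mem (hWP P hP hcWΩ) i
  -- reduction to the image of `c`
  have hred : ∀ (P : Subgroup Ω) (hc : (c : Ω) ∈ P) (α : MulAut P),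
      (α ⟨c, hc⟩ : Ω) ∈ T → ∀ x : P, (x : Ω) ∈ T → (α x : Ω) ∈ T := by
    intro P hc α hα x hx
    obtain ⟨i, hi⟩ := hTmem _ hx
    rw [show x = (⟨c, hc⟩ : P) ^ i from Subtype.ext (by simpa using hi), map_zpow, Subgroup.coe_zpow]
    exact zpow_mem hα i
  rintro P (rfl | hP) α hα x hx
  · exact hred P c.2 α ⟨α c, h.aut_c ht hp2 hS hF hl hα, rfl⟩ x hx
  have hPS := hP.1.1
  haveI := finite_of_le hPS
  have hcP : (c : Ω) ∈ P := hWP P hP hcWΩ
  refine hred P hcP α ?_ x hx
  obtain ⟨k, hk⟩ := IsPGroup.iff_card.1 (hS.to_le hPS)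
  have hWcard : Nat.card WΩ = p ^ 2 := by
    rw [hWΩ, Subgroup.card_map_of_injective S.subtype_injective, hW, h.cardW]
  have hk2 : 2 ≤ k := (Nat.pow_le_pow_iff_right hp.one_lt).1
    (hWcard ▸ hk ▸ Subgroup.card_le_of_le (hWP P hP))
  have hlt : P < S := lt_of_le_of_ne hPS (CfsgLib.FusionExtraspecial.ne_self_of_essential hS hF hP)
  have hk4 : k ≤ 4 := by
    have h1 := Set.Finite.card_lt_card (Set.toFinite (S : Set Ω)) hlt
    rw [show Nat.card (P : Set Ω) = p ^ k from hk,
      show Nat.card (S : Set Ω) = p ^ 5 from hE.cardS] at h1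
    have := (Nat.pow_lt_pow_iff_right hp.one_lt).1 h1
    omega
  interval_cases k
  · -- `P = Z(S)` is not centric
    exfalso
    have heq : WΩ = P := Subgroup.eq_of_le_of_card_ge (hWP P hP) (by rw [hk, hWcard])
    refine hlt.not_ge fun t ht' => centralizerIn_le_of_centric hP.1 (mem_centralizerIn.2 ⟨ht',
      fun y hy => ?_⟩)
    rw [← heq] at hy
    obtain ⟨z, hz, rfl⟩ := hy
    exact congrArg Subtype.val (Subgroup.mem_center_iff.1 hz ⟨t, ht'⟩).symm
  · -- order `p ^ 3`
    have hPc : IsMulCommutative P := by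
      by_contra hna
      have h1 := (CfsgLib.FusionEssential.center_of_card_cube hk hna).1
      have hle : WΩ ≤ (Subgroup.center P).map P.subtype := fun z hz => by
        obtain ⟨z', hz', rfl⟩ := hz
        exact ⟨⟨z', hWP P hP ⟨z', hz', rfl⟩⟩, Subgroup.mem_center_iff.2 fun y => Subtype.ext
          (congrArg Subtype.val (Subgroup.mem_center_iff.1 hz' ⟨y, hPS y.2⟩) :), rfl⟩
      haveI : Finite ((Subgroup.center P).map P.subtype) :=
        finite_of_le ((Subgroup.map_subtype_le _).trans hPS)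
      have h2 := Subgroup.card_le_of_le hle
      rw [hWcard, Subgroup.card_map_of_injective P.subtype_injective, h1] at h2
      have := (Nat.pow_le_pow_iff_right hp.one_lt).1 (h2.trans_eq (pow_one p).symm)
      omega
    have h' : CubeCtx F p P := ⟨hS, hF, hp2, hE.cardS, hE.nonab, hP, hPc, hk⟩
    haveI := hPc
    obtain ⟨σ, y, hy, hyP, hσF, hσy, hσt, hσgen, hA'⟩ := h'.exists_sigma
    have key : ∀ τ ∈ F.autGroup P, IsTransvection p τ → τ ∉ Subgroup.zpowers σ →
        (σ ⟨c, hcP⟩ = ⟨c, hcP⟩ ∧ τ ⟨c, hcP⟩ = ⟨c, hcP⟩) ∧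
          ∀ z : P, σ z = z → τ z = z → (z : Ω) ∈ T := by
      intro τ hτF hτ hne
      obtain ⟨N', A', W', u', e', c', g', s', m', q', l', v', hf, htr, -, hfix, hmem⟩ :=
        h'.exists_frame_of_pair hy hyP hσy hσF hτF hσt hτ hne hA'
      have hu'U : u' ∈ Subgroup.zpowers u := h.center_inf_commutator ht hp2
        (Subgroup.mem_center_iff.2 fun t => (hf.u_cen t).eq.symm) hf.u_mem_commutator
      have hUU : Subgroup.zpowers u' = Subgroup.zpowers u :=
        Subgroup.eq_of_le_of_card_ge (Subgroup.zpowers_le.2 hu'U) (by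
          rw [Nat.card_zpowers, Nat.card_zpowers, orderOf_eq h.u_pow h.u_ne,
            orderOf_eq hf.u_pow hf.u_ne])
      have hc'c : c' ∈ Subgroup.center S := by
        refine hf.c_mem_center (by_contra fun hl' => ?_)
        have h1 : Nat.card (Subgroup.center S) = p := by
          rw [hf.center_eq' hl', Nat.card_zpowers, orderOf_eq hf.u_pow hf.u_ne]
        rw [hW, h.cardW] at h1
        have := Nat.pow_right_injective hp.two_le (h1.trans (pow_one p).symm)
        omega
      obtain ⟨d, i, hdi⟩ := h.decomp_W (hW ▸ hc'c)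
      obtain ⟨β, hβ, hβu', hβc', -⟩ := hf.exists_neg htr hp2
      obtain ⟨r, hr⟩ : u ∈ Subgroup.zpowers u' := hUU ▸ Subgroup.mem_zpowers u
      have hβu : β u = u⁻¹ := by
        rw [← hr]
        show β (u' ^ r) = (u' ^ r)⁻¹
        rw [map_zpow, hβu', inv_zpow]
      obtain ⟨d', hd'⟩ := h.aut_c ht hp2 hS hF hl hβ
      have h1 : c ^ d * u ^ i = c ^ (d' * d) * u ^ (-i) := by
        rw [← hdi, ← hβc', hdi, map_mul, map_zpow, map_zpow, hβu, inv_zpow, zpow_neg, zpow_mul,
          ← hd']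
      have h2 : c ^ (d - d' * d) = u ^ (-i - i) := by
        calc c ^ (d - d' * d) = (c ^ (d' * d))⁻¹ * (c ^ d * u ^ i) * (u ^ i)⁻¹ := by group
          _ = (c ^ (d' * d))⁻¹ * (c ^ (d' * d) * u ^ (-i)) * (u ^ i)⁻¹ := by rw [h1]
          _ = u ^ (-i - i) := by group
      obtain ⟨w, hw⟩ := h.ci_mem (h2 ▸ zpow_mem (Subgroup.mem_zpowers u) _)
      rw [hw, zpow_mul, zpow_natCast, h.c_pow, one_zpow] at h2
      have h3 := h.zpow_two_eq_one ht hp2 (i := i)
        (by rw [show -2 * i = -i - i by ring]; exact h2.symm)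
      rw [h3, mul_one] at hdi
      have hcT : Subgroup.zpowers c' = Subgroup.zpowers c := by
        refine Subgroup.eq_of_le_of_card_ge (Subgroup.zpowers_le.2 ⟨d, hdi.symm⟩) ?_
        rw [Nat.card_zpowers, Nat.card_zpowers, orderOf_eq h.c_pow hc1,
          orderOf_eq hf.c_pow (fun e'' => hf.cU (e'' ▸ one_mem _))]
      refine ⟨?_, fun z hσz hτz => ⟨_, hcT ▸ hmem z hσz hτz, rfl⟩⟩
      have hc'P : (c' : Ω) ∈ P := hWP P hP ⟨c', hc'c, rfl⟩
      obtain ⟨w', hw'⟩ : c ∈ Subgroup.zpowers c' := hcT ▸ Subgroup.mem_zpowers c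
      have hcP' : (⟨c, hcP⟩ : P) = (⟨c', hc'P⟩ : P) ^ w' :=
        Subtype.ext (by simpa using (congrArg Subtype.val hw').symm)
      obtain ⟨h4, h5⟩ := hfix ⟨c', hc'P⟩ rfl
      rw [hcP', map_zpow, map_zpow, h4, h5]
      exact ⟨rfl, rfl⟩
    obtain ⟨τ, hτF, hτ, hne⟩ := h'.exists_tau hσF hσt hσgen
    obtain ⟨⟨hσc, -⟩, hfixT⟩ := key τ hτF hτ hne
    have hall : ∀ ρ ∈ F.autGroup P, IsTransvection p ρ → ρ ⟨c, hcP⟩ = ⟨c, hcP⟩ := by
      intro ρ hρF hρ
      by_cases hρσ : ρ ∈ Subgroup.zpowers σ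
      · have hle : Subgroup.zpowers σ ≤ MulAction.stabilizer (MulAut P) (⟨c, hcP⟩ : P) :=
          Subgroup.zpowers_le.2 hσc
        exact hle hρσ
      · exact (key ρ hρF hρ hρσ).1.2
    have hfixα : ∀ ρ ∈ F.autGroup P, IsTransvection p ρ → ρ (α ⟨c, hcP⟩) = α ⟨c, hcP⟩ := by
      intro ρ hρF hρ
      have h1 := hall (α⁻¹ * ρ * α) (mul_mem (mul_mem (inv_mem hα) hρF) hα)
        (by simpa using hρ.conj α⁻¹)
      have h2 := congrArg α h1
      simpa using h2
    exact hfixT _ (hfixα σ hσF hσt) (hfixα τ hτF hτ)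
  · -- order `p ^ 4`
    have hPn := le_normalizer_of_card hS hE.cardS hPS hk
    have hNP : normalizerIn S P = S := inf_eq_left.2 hPn
    set ZP := (Subgroup.center P).map P.subtype with hZP
    haveI : Finite ZP := finite_of_le ((Subgroup.map_subtype_le _).trans hPS)
    have hle : WΩ ≤ ZP := fun z hz => by
      obtain ⟨z', hz', rfl⟩ := hz
      exact ⟨⟨z', hWP P hP ⟨z', hz', rfl⟩⟩, Subgroup.mem_center_iff.2 fun y => Subtype.ext
        (congrArg Subtype.val (Subgroup.mem_center_iff.1 hz' ⟨y, hPS y.2⟩) :), rfl⟩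
    have heq : WΩ = ZP := by
      refine Subgroup.eq_of_le_of_card_ge hle ?_
      rw [hWcard, hZP, Subgroup.card_map_of_injective P.subtype_injective]
      obtain ⟨b, hb⟩ := IsPGroup.iff_card.1 ((hS.to_le hPS).to_subgroup (Subgroup.center P))
      obtain ⟨j, hj⟩ := (hS.to_le hPS).index (Subgroup.center P)
      have hj2 : 2 ≤ j := by
        by_contra hj2
        refine hE.nonab P hPS ?_ hk
        have hq : Nat.card (P ⧸ Subgroup.center P) = p ^ j := by
          rw [← Subgroup.index_eq_card, hj]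
        have hcyc : IsCyclic (P ⧸ Subgroup.center P) := by
          interval_cases j
          · have := (Nat.card_eq_one_iff_unique.1 (hq.trans (pow_zero p))).1
            exact isCyclic_of_subsingleton
          · exact isCyclic_of_prime_card (p := p) (hq.trans (pow_one p))
        exact MonoidHom.isMulCommutative_of_isCyclic_of_ker_le_center
          (QuotientGroup.mk' (Subgroup.center P)) (QuotientGroup.ker_mk' _).le
      have hbj : b + j = 4 := Nat.pow_right_injective hp.two_le (by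
        show p ^ (b + j) = p ^ 4
        rw [pow_add, ← hb, ← hj, ← hk, Subgroup.card_mul_index])
      rw [hb]
      exact Nat.pow_le_pow_right hp.pos (by omega)
    have hWinv : ∀ β : MulAut P, ∀ w : P, (w : Ω) ∈ WΩ → (β w : Ω) ∈ WΩ := by
      intro β w hw
      rw [heq] at hw ⊢
      obtain ⟨w', hw', hww⟩ := hw
      rw [show w' = w from Subtype.ext hww] at hw'
      exact ⟨β w, apply_mem_center β hw', rfl⟩
    let K : Subgroup (F.autGroup P) :=
      { carrier := {β | ∀ w : P, (w : Ω) ∈ WΩ → (β : MulAut P) w = w}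
        one_mem' := fun w _ => rfl
        mul_mem' := fun {a b} ha hb w hw => by
          show (a : MulAut P) ((b : MulAut P) w) = w
          rw [hb w hw, ha w hw]
        inv_mem' := fun {a} ha w hw => by
          show (a : MulAut P)⁻¹ w = w
          conv_lhs => rw [← ha w hw]
          exact MulAut.inv_apply_self _ _ w }
    haveI hKn : K.Normal := ⟨fun β hβ γ w hw => by
      show (γ : MulAut P) ((β : MulAut P) ((γ : MulAut P)⁻¹ w)) = w
      rw [hβ _ (hWinv _ w hw)]
      exact MulAut.apply_inv_self _ _ w⟩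
    obtain ⟨hPa, hPr⟩ := automized_receptive hS hF hP.2.1
    obtain ⟨-, R, hR⟩ := hPa
    haveI : Finite (MulAut P) := Finite.of_injective (fun α => (α : P → P)) DFunLike.coe_injective
    have hRK : (R : Subgroup (F.autGroup P)) ≤ K := fun β hβ w hw => by
      rw [hR, Subgroup.mem_subgroupOf] at hβ
      obtain ⟨t, htS, -, hv⟩ := mem_autInducedBy_iff.1 hβ
      refine Subtype.ext ?_
      rw [hv w]
      obtain ⟨z, hz, hzw⟩ := hw
      have h1 : Commute t (w : Ω) := by
        rw [← hzw]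
        exact congrArg Subtype.val (Subgroup.mem_center_iff.1 hz ⟨t, htS⟩)
      rw [h1.eq, mul_inv_cancel_right]
    have hfr := Sylow.normalizer_sup_eq_top (R.subtype hRK)
    rw [Sylow.coe_subtype, Subgroup.map_subgroupOf_eq_of_le hRK] at hfr
    have hαtop : (⟨α, hα⟩ : F.autGroup P) ∈
        Subgroup.normalizer ((R : Subgroup (F.autGroup P)) : Set (F.autGroup P)) ⊔ K := by
      rw [hfr]
      exact Subgroup.mem_top _
    obtain ⟨n, hn, κ, hκ, hnκ⟩ := Subgroup.mem_sup_of_normal_right.1 hαtop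
    have hαc : α ⟨c, hcP⟩ = (n : MulAut P) ⟨c, hcP⟩ := by
      rw [show α = (n : MulAut P) * (κ : MulAut P) from (congrArg Subtype.val hnκ).symm,
        MulAut.mul_apply, hκ ⟨c, hcP⟩ hcWΩ]
    have hIn : IsIso F (n : MulAut P) := (mem_autGroup_iff hPS).1 n.2
    have hle' : S ≤ extender S P (P.subtype.comp (n : MulAut P).toMonoidHom) := by
      intro t htS
      set β : MulAut P := P.normalizerMonoidHom ⟨t, hPn htS⟩
      refine mem_extender_of_congr (hNP.symm ▸ htS) (α := β) (fun _ => rfl) ?_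
      rw [congr_self_eq]
      have hβA : β ∈ autInducedBy S P := mem_autInducedBy_iff.2 ⟨t, htS, hPn htS, fun _ => rfl⟩
      have hβF : β ∈ F.autGroup P := autInducedBy_le_autGroup hPS hβA
      have hmem : (⟨β, hβF⟩ : F.autGroup P) ∈ (R : Subgroup (F.autGroup P)) := by
        rw [hR]; exact hβA
      have h1 := (Subgroup.mem_normalizer_iff.1 hn ⟨β, hβF⟩).1 hmem
      rw [hR] at h1
      exact h1
    obtain ⟨ψ, hψ, hψx⟩ := exists_extension hPr hIn le_rfl
    have hψ' := restrict_mem hψ hle'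
    have hrange : (restrictHom ψ hle').range = S := by
      refine Subgroup.eq_of_le_of_card_ge (range_le hψ') ?_
      exact (Nat.card_congr
        (MonoidHom.ofInjective (F.injective_of_mem hψ')).toEquiv).le
    obtain ⟨γ, hγ, hγx⟩ := exists_iso hψ' hrange
    obtain ⟨i, hi⟩ := h.aut_c ht hp2 hS hF hl (IsIso.mem_autGroup hγ)
    refine ⟨γ c, ⟨i, hi⟩, ?_⟩
    show ((γ c : S) : Ω) = _
    rw [hγx, restrictHom_apply]
    exact (hψx ⟨c, hcP⟩ (hle' c.2)).trans (congrArg Subtype.val hαc.symm)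

end CfsgLib.FusionFive
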