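import Cfsg.Agent.FusionFive.Frame

/-!
# Consequences of the torus on the commutation constants

`v ≡ 0`; `l ≡ 0` or `p = 3`; `G / G'` has exponent `p`.
-/

set_option autoImplicit false
set_option linter.style.haveILetI false
set_option linter.unusedSectionVars false

namespace CfsgLib.FusionFive

open Cfsg Cfsg.FusionSystem CfsgLib.Fusion
open scoped commutatorElement

variable {Ω : Type*} [Group Ω] {S : Subgroup Ω} {F : FusionSystem S} {p : ℕ}

namespace Frame

variable [Finite S] [Fact p.Prime] {N A W : Subgroup S} {u e c g s : S} {m q l v : ℤ}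
  (h : Frame p N A W u e c g s m q l v) (ht : HasTorus F p N A u e c) (hp2 : p ≠ 2)
include h ht hp2

theorem two_ne : (2 : ZMod p) ≠ 0 := fun e => hp2 ((Nat.prime_dvd_prime_iff_eq Fact.out
  Nat.prime_two).1 ((ZMod.natCast_eq_zero_iff 2 p).1 (by simpa using e)))

/-- The inverting element. -/
theorem exists_neg : ∃ β ∈ F.autGroup S, β u = u⁻¹ ∧ β c = c ∧
    ∃ (k : ℤ) (n : S), n ∈ N ∧ β s = s ^ k * n ∧ (k : ZMod p) = -1 ∧ c ^ v = 1 := by
  obtain ⟨β, hβ, hu, he, hc, hN, hA⟩ := ht (-1) (-1) (by norm_num)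
  obtain ⟨k, r, n, hn, hs, h1, h2, -, h4⟩ := h.weights β hu he hc hN hA
  push_cast at h1 h2
  have hr : (r : ZMod p) = 1 := by linear_combination -h1
  have hk : (k : ZMod p) = -1 := by rw [hr] at h2; linear_combination -h2
  refine ⟨β, hβ, by rw [hu, zpow_neg_one], hc, k, n, hn, hs, hk, ?_⟩
  rw [hk, hr] at h4
  have hv : (v : ZMod p) = 0 := (mul_eq_zero.1 h4).resolve_right fun e' =>
    h.two_ne ht hp2 (by linear_combination -e')
  obtain ⟨w, rfl⟩ := (ZMod.intCast_zmod_eq_zero_iff_dvd v p).1 hv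
  rw [zpow_mul, zpow_natCast, h.c_pow, one_zpow]

theorem c_pow_v : c ^ v = 1 := by
  obtain ⟨β, -, -, -, k, n, -, -, -, hv⟩ := h.exists_neg ht hp2
  exact hv

theorem l_or_three : u ^ l = 1 ∨ p = 3 := by
  rw [zpow_eq_one_iff h.u_pow h.u_ne, ← ZMod.intCast_zmod_eq_zero_iff_dvd]
  have h2' := h.two_ne ht hp2
  set b : ℤ := (((2 : ZMod p)⁻¹).val : ℤ) with hb
  have hbz : (b : ZMod p) = (2 : ZMod p)⁻¹ := by
    rw [hb, Int.cast_natCast, ZMod.natCast_zmod_val]
  have hab : (p : ℤ) ∣ 2 * b - 1 := by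
    rw [← ZMod.intCast_zmod_eq_zero_iff_dvd]
    push_cast
    rw [hbz, mul_inv_cancel₀ h2', sub_self]
  obtain ⟨β, -, hu, he, hc, hN, hA⟩ := ht 2 b hab
  obtain ⟨k, r, n, -, -, h1, h2, h3, -⟩ := h.weights β hu he hc hN hA
  push_cast at h1 h2 h3
  rw [hbz] at h1 h2
  have hr : (r : ZMod p) = 4 := by
    calc (r : ZMod p) = (r * (2 : ZMod p)⁻¹) * 2 := by rw [mul_assoc, inv_mul_cancel₀ h2', mul_one]
      _ = 4 := by rw [h1]; norm_num
  have hk : (k : ZMod p) = 8 := by
    calc (k : ZMod p) = (k * (2 : ZMod p)⁻¹) * 2 := by rw [mul_assoc, inv_mul_cancel₀ h2', mul_one]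
      _ = 8 := by rw [h2, hr]; norm_num
  rw [hk] at h3
  rcases mul_eq_zero.1 h3 with h5 | h5
  · exact Or.inl h5
  · refine Or.inr ?_
    have h6 : ((6 : ℕ) : ZMod p) = 0 := by
      push_cast
      linear_combination h5
    have hp : p.Prime := Fact.out
    rw [ZMod.natCast_eq_zero_iff, show 6 = 2 * 3 from rfl, hp.dvd_mul] at h6
    rcases h6 with h6 | h6
    · exact absurd ((Nat.prime_dvd_prime_iff_eq hp Nat.prime_two).1 h6) hp2
    · exact (Nat.prime_dvd_prime_iff_eq hp Nat.prime_three).1 h6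

theorem c_not_commutator : c ∉ commutator S := by
  intro hc
  obtain ⟨i, j, hij⟩ := (h.mem_commutator (h.c_pow_v ht hp2)).1 hc
  have hgi : g ^ i ∈ W := by
    have := mul_mem h.cW (inv_mem (zpow_mem h.uW j))
    rwa [hij, mul_inv_cancel_right] at this
  obtain ⟨i', rfl⟩ := h.gi_mem hgi
  rw [zpow_mul, zpow_natCast, h.g_pow, one_zpow, one_mul] at hij
  exact h.cU ⟨j, hij.symm⟩

theorem pow_mem_commutator (x : S) : x ^ p ∈ commutator S := by
  set π := Abelianization.of (G := S) with hπ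
  have hker : ∀ {z : S}, z ∈ commutator S ↔ π z = 1 := fun {z} => by
    rw [← Abelianization.ker_of, MonoidHom.mem_ker]
  have hN : ∀ n ∈ N, π n ^ p = 1 := fun n hn => by
    rw [← map_pow, h.N_pow hn hp2, map_one]
  suffices hs : π s ^ p = 1 by
    obtain ⟨k, n, hn, rfl⟩ := h.decomp x
    rw [hker, map_pow, map_mul, mul_pow, hN n hn, mul_one, map_zpow, ← zpow_natCast, ← zpow_mul,
      mul_comm, zpow_mul, zpow_natCast, hs, one_zpow]
  haveI := h.Wn
  obtain ⟨j, a, ha, hja⟩ := h.decomp_N h.s_pow_N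
  obtain ⟨i, w, hw, rfl⟩ := h.decomp_A ha
  obtain ⟨x, y, rfl⟩ := h.decomp_W hw
  have hj : (p : ℤ) ∣ j := by
    refine h.gi_mem ((QuotientGroup.eq_one_iff _).1 ?_)
    have hse : ⁅QuotientGroup.mk' W s, QuotientGroup.mk' W e⁆ = QuotientGroup.mk' W g := by
      rw [← map_commutatorElement, h.se]
    have hgc : ∀ z, Commute ⁅QuotientGroup.mk' W s, QuotientGroup.mk' W e⁆ z := fun z => by
      obtain ⟨z, rfl⟩ := QuotientGroup.mk'_surjective W z
      rw [hse]
      exact commute_mk_of_mem (h.g_cen_mod z)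
    have h1 := congrArg (QuotientGroup.mk' W) (comm_eq_one ((Commute.refl s).pow_right p))
    rw [hja, map_commutatorElement, map_mul, map_mul, map_zpow, map_zpow, map_one,
      show QuotientGroup.mk' W (c ^ x * u ^ y) = 1 from (QuotientGroup.eq_one_iff _).2 hw, mul_one,
      comm_mul_right_eq (((commute_mk_of_mem (h.g_cen_mod s)).symm).zpow_right i),
      comm_zpow_right hgc, hse] at h1
    show QuotientGroup.mk' W (g ^ j) = 1
    rw [map_zpow]
    exact h1
  obtain ⟨j', rfl⟩ := hj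
  rw [zpow_mul, zpow_natCast, h.e_pow, one_zpow, one_mul] at hja
  have hπg : π g = 1 := hker.1 h.g_mem_commutator
  have hπu : π u = 1 := hker.1 h.u_mem_commutator
  have hπs : π s ^ p = π c ^ x := by
    rw [← map_pow, hja, map_mul, map_mul, map_zpow, map_zpow, map_zpow, hπg, hπu, one_zpow,
      one_zpow, one_mul, mul_one]
  obtain ⟨β, -, -, hβc, k, n, hn, hβs, hk, -⟩ := h.exists_neg ht hp2
  have hcp : π c ^ p = 1 := by rw [← map_pow, h.c_pow, map_one]
  have h2 : π c ^ x = π c ^ (x * k) := by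
    have hL : π (β (s ^ p)) = π c ^ x := by
      rw [hja, map_mul β, map_mul β, map_mul π, map_mul π, map_zpow β, map_zpow β, map_zpow β, hβc,
        map_zpow π c, map_zpow π, map_zpow π,
        show π (β g) = 1 from hker.1 (by
          rw [← h.se, map_commutatorElement]
          exact Subgroup.commutator_mem_commutator (Subgroup.mem_top _) (Subgroup.mem_top _)),
        show π (β u) = 1 from hker.1 (by
          have h3 := (Subgroup.commutator_characteristic ⊤ ⊤ : (commutator S).Characteristic).fixed β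
          exact (h3.symm ▸ h.u_mem_commutator : u ∈ (commutator S).comap β.toMonoidHom)),
        one_zpow, one_zpow, one_mul, mul_one]
    have hR : π (β (s ^ p)) = π c ^ (x * k) := by
      rw [map_pow, hβs, map_pow, map_mul, mul_pow, hN n hn, mul_one, map_zpow, ← zpow_natCast,
        ← zpow_mul, mul_comm, zpow_mul, zpow_natCast, hπs, ← zpow_mul]
    rw [← hL, hR]
  rw [hπs]
  rw [zpow_eq_zpow_iff hcp (fun e => h.c_not_commutator ht hp2 (hker.2 e))] at h2
  push_cast at h2
  rw [hk] at h2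
  have h4 : (x : ZMod p) = 0 := by
    have : (2 : ZMod p) * x = 0 := by linear_combination h2
    exact (mul_eq_zero.1 this).resolve_left (h.two_ne ht hp2)
  obtain ⟨x', rfl⟩ := (ZMod.intCast_zmod_eq_zero_iff_dvd x p).1 h4
  rw [zpow_mul, zpow_natCast, hcp, one_zpow]

end Frame

end CfsgLib.FusionFive
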