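import Cfsg.Agent.FusionFive.Calc
import Cfsg.Agent.FusionPearl.Basics
import Mathlib.GroupTheory.Nilpotent

/-!
# Groups of order `p ^ 5` with a self-centralizing elementary abelian subgroup of order `p ^ 3`

`Frame`: `G = ⟨s, e, c, g, u⟩` with `⁅s, e⁆ = g`, `⁅g, e⁆ = u ^ m`, `⁅s, g⁆ = u ^ q * c ^ v`,
`⁅s, c⁆ = u ^ l`, along a normal series `1 < U < W < A < N < G` with factors of order `p`.

* `Frame.weights`: congruences for an automorphism acting diagonally on `u, e, c`.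
* `Frame.mem_center`, `Frame.mem_commutator`.
-/

set_option autoImplicit false
set_option linter.style.haveILetI false
set_option linter.unusedSectionVars false

namespace CfsgLib.FusionFive

open Subgroup
open scoped commutatorElement

variable {G : Type*} [Group G] {p : ℕ}

/-- The standing data. -/
structure Frame (p : ℕ) (N A W : Subgroup G) (u e c g s : G) (m q l v : ℤ) : Prop where
  fin : Finite G
  pG : IsPGroup p G
  cardG : Nat.card G = p ^ 5
  Nn : N.Normal
  An : A.Normal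
  Wn : W.Normal
  cardN : Nat.card N = p ^ 4
  cardA : Nat.card A = p ^ 3
  cardW : Nat.card W = p ^ 2
  hWA : W ≤ A
  hAN : A ≤ N
  uW : u ∈ W
  cW : c ∈ W
  gA : g ∈ A
  gW : g ∉ W
  eN : e ∈ N
  eA : e ∉ A
  sN : s ∉ N
  cU : c ∉ zpowers u
  u_ne : u ≠ 1
  u_pow : u ^ p = 1
  c_pow : c ^ p = 1
  g_pow : g ^ p = 1
  e_pow : e ^ p = 1
  u_cen : ∀ z, Commute u z
  WN : ∀ w ∈ W, ∀ n ∈ N, Commute w n
  NN : ∀ a ∈ N, ∀ b ∈ N, ⁅a, b⁆ ∈ zpowers u
  ge : ⁅g, e⁆ = u ^ m
  hm : ¬ (p : ℤ) ∣ m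
  se : ⁅s, e⁆ = g
  sg : ⁅s, g⁆ = u ^ q * c ^ v
  sc : ⁅s, c⁆ = u ^ l

/-- The image in a quotient commutes when the commutator lies in the kernel. -/
theorem commute_mk_of_mem {K : Subgroup G} [K.Normal] {a b : G} (h : ⁅a, b⁆ ∈ K) :
    Commute (QuotientGroup.mk' K a) (QuotientGroup.mk' K b) := by
  rw [← commutatorElement_eq_one_iff_commute, ← map_commutatorElement]
  exact (QuotientGroup.eq_one_iff _).2 h

theorem mk_pow_eq_one {K : Subgroup G} [K.Normal] {a : G} (n : ℕ) (h : a ^ n ∈ K) :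
    QuotientGroup.mk' K a ^ n = 1 := by
  rw [← map_pow]
  exact (QuotientGroup.eq_one_iff _).2 h

namespace Frame

variable [Fact p.Prime] {N A W : Subgroup G} {u e c g s : G} {m q l v : ℤ}
  (h : Frame p N A W u e c g s m q l v)
include h

theorem decomp (x : G) : ∃ (k : ℤ) (n : G), n ∈ N ∧ x = s ^ k * n := by
  haveI := h.fin
  exact CfsgLib.FusionPearl.exists_pow_mul_of_index h.pG le_top
    (by rw [card_top, h.cardG, h.cardN]; ring) (mem_top s) h.sN (mem_top x)

theorem decomp_N {x : G} (hx : x ∈ N) : ∃ (j : ℤ) (a : G), a ∈ A ∧ x = e ^ j * a := by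
  haveI := h.fin
  exact CfsgLib.FusionPearl.exists_pow_mul_of_index h.pG h.hAN
    (by rw [h.cardN, h.cardA]; ring) h.eN h.eA hx

theorem decomp_A {x : G} (hx : x ∈ A) : ∃ (i : ℤ) (w : G), w ∈ W ∧ x = g ^ i * w := by
  haveI := h.fin
  exact CfsgLib.FusionPearl.exists_pow_mul_of_index h.pG h.hWA
    (by rw [h.cardA, h.cardW]; ring) h.gA h.gW hx

theorem decomp_W {x : G} (hx : x ∈ W) : ∃ i j : ℤ, x = c ^ i * u ^ j := by
  haveI := h.fin
  obtain ⟨i, w, ⟨j, hj⟩, rfl⟩ := CfsgLib.FusionPearl.exists_pow_mul_of_index h.pG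
    (zpowers_le.2 h.uW) (by rw [h.cardW, Nat.card_zpowers, orderOf_eq h.u_pow h.u_ne]; ring)
    h.cW h.cU hx
  exact ⟨i, j, by rw [← hj]⟩

theorem U_normal : (zpowers u).Normal := ⟨fun n hn t => by
  obtain ⟨i, rfl⟩ := hn
  rw [((h.u_cen t).symm.zpow_right i).eq, mul_inv_cancel_right]
  exact zpow_mem (mem_zpowers u) i⟩

theorem c_cen_mod (z : G) : ⁅c, z⁆ ∈ zpowers u := by
  haveI := h.U_normal
  obtain ⟨k, n, hn, rfl⟩ := h.decomp z
  have h1 : Commute (QuotientGroup.mk' (zpowers u) c) (QuotientGroup.mk' (zpowers u) (s ^ k * n)) := by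
    rw [map_mul, map_zpow]
    refine (((commute_mk_of_mem ?_).symm).zpow_right k).mul_right (commute_mk_of_mem ?_)
    · rw [h.sc]; exact zpow_mem (mem_zpowers u) l
    · exact h.NN c (h.hAN (h.hWA h.cW)) n hn
  rw [← QuotientGroup.eq_one_iff, ← QuotientGroup.mk'_apply, map_commutatorElement]
  exact comm_eq_one h1

theorem g_cen_mod (z : G) : ⁅g, z⁆ ∈ W := by
  haveI := h.Wn
  obtain ⟨k, n, hn, rfl⟩ := h.decomp z
  have h1 : Commute (QuotientGroup.mk' W g) (QuotientGroup.mk' W (s ^ k * n)) := by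
    rw [map_mul, map_zpow]
    refine (((commute_mk_of_mem ?_).symm).zpow_right k).mul_right (commute_mk_of_mem ?_)
    · rw [h.sg]; exact mul_mem (zpow_mem h.uW q) (zpow_mem h.cW v)
    · exact zpowers_le.2 h.uW (h.NN g (h.hAN h.gA) n hn)
  rw [← QuotientGroup.eq_one_iff, ← QuotientGroup.mk'_apply, map_commutatorElement]
  exact comm_eq_one h1

theorem N_pow {n : G} (hn : n ∈ N) : ∀ hp2 : p ≠ 2, n ^ p = 1 := fun hp2 => by
  obtain ⟨j, a, ha, rfl⟩ := h.decomp_N hn
  obtain ⟨i, w, hw, rfl⟩ := h.decomp_A ha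
  obtain ⟨x, y, rfl⟩ := h.decomp_W hw
  have hz : ∀ {t : G} (k : ℤ), t ^ p = 1 → (t ^ k) ^ p = 1 := fun k ht => by
    rw [← zpow_natCast, ← zpow_mul, mul_comm, zpow_mul, zpow_natCast, ht, one_zpow]
  have hw1 : (c ^ x * u ^ y) ^ p = 1 := by
    rw [(((h.u_cen c).zpow_zpow y x).symm).mul_pow, hz x h.c_pow, hz y h.u_pow, one_mul]
  have h1 : (g ^ i * (c ^ x * u ^ y)) ^ p = 1 := by
    rw [((h.WN _ hw _ (h.hAN (zpow_mem h.gA i))).symm).mul_pow, hz i h.g_pow, hw1, one_mul]
  have hcomm : ∀ {a b : G}, a ∈ N → b ∈ N → ∀ z, Commute ⁅a, b⁆ z := fun ha hb z => by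
    obtain ⟨k, hk⟩ := h.NN _ ha _ hb
    rw [← hk]
    exact (h.u_cen z).zpow_left k
  have hpow : ∀ {a b : G}, a ∈ N → b ∈ N → ⁅a, b⁆ ^ p = 1 := fun ha hb => by
    obtain ⟨k, hk⟩ := h.NN _ ha _ hb
    rw [← hk]
    exact hz k h.u_pow
  rw [mul_pow_prime Fact.out hp2 (hcomm (h.hAN ha) (zpow_mem h.eN j))
    (hpow (h.hAN ha) (zpow_mem h.eN j)), hz j h.e_pow, h1, one_mul]

/-- `s ^ k` moves `e ^ j` to `g ^ (k * j) * e ^ j` modulo `W`. -/
theorem exists_conj {j : ℤ} (hj : ¬ (p : ℤ) ∣ j) (i : ℤ) :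
    ∃ t : G, e ^ j * g ^ i * (t * e ^ j * t⁻¹)⁻¹ ∈ W := by
  haveI := h.Wn
  obtain ⟨a, b, hab⟩ : IsCoprime j (p : ℤ) :=
    ((Nat.prime_iff_prime_int.1 (Fact.out : p.Prime)).coprime_iff_not_dvd.2 hj).symm
  refine ⟨s ^ (i * a), ?_⟩
  set π := QuotientGroup.mk' W
  have hse : ⁅π s, π e⁆ = π g := by rw [← map_commutatorElement, h.se]
  have hgc : ∀ z, Commute ⁅π s, π e⁆ z := fun z => by
    obtain ⟨z, rfl⟩ := QuotientGroup.mk'_surjective W z
    rw [hse]
    exact commute_mk_of_mem (h.g_cen_mod z)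
  refine (QuotientGroup.eq_one_iff _).1 ?_
  show π _ = 1
  rw [map_mul, map_inv, conj_eq, map_mul, map_mul, map_commutatorElement, map_zpow, map_zpow,
    map_zpow, comm_zpow_zpow hgc, hse, mul_inv_eq_one,
    ((commute_mk_of_mem (h.g_cen_mod e)).zpow_zpow i j).eq.symm]
  congr 1
  have hgp : π g ^ p = 1 := mk_pow_eq_one p (by rw [h.g_pow]; exact one_mem _)
  conv_lhs => rw [show i = i * a * j + (p : ℤ) * (i * b) by linear_combination (-i) * hab,
    zpow_add, zpow_mul _ (p : ℤ), zpow_natCast, hgp, one_zpow, mul_one]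

theorem gi_mem {i : ℤ} (hi : g ^ i ∈ W) : (p : ℤ) ∣ i := by
  by_contra hc
  exact h.gW (mem_of_zpow_mem (by rw [h.g_pow]; exact one_mem _) hc hi)

theorem ei_mem {i : ℤ} (hi : e ^ i ∈ A) : (p : ℤ) ∣ i := by
  by_contra hc
  exact h.eA (mem_of_zpow_mem (by rw [h.e_pow]; exact one_mem _) hc hi)

theorem ci_mem {i : ℤ} (hi : c ^ i ∈ zpowers u) : (p : ℤ) ∣ i := by
  by_contra hc
  exact h.cU (mem_of_zpow_mem (by rw [h.c_pow]; exact one_mem _) hc hi)

theorem s_pow_N : s ^ p ∈ N := by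
  haveI := h.fin
  haveI := h.Nn
  have h1 := card_mul_index N
  rw [h.cardN, h.cardG] at h1
  have h2 : N.index = p :=
    Nat.eq_of_mul_eq_mul_left (pow_pos (Fact.out : p.Prime).pos 4) (h1.trans (pow_succ p 4))
  have := pow_index_mem N s
  rwa [h2] at this

/-- Congruences for an automorphism with diagonal action on `u, e, c`. -/
theorem weights (γ : MulAut G) {a b : ℤ} (hu : γ u = u ^ a) (he : γ e = e ^ b) (hc : γ c = c)
    (hN : ∀ x ∈ N, γ x ∈ N) (hA : ∀ x ∈ A, γ x ∈ A) :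
    ∃ (k r : ℤ) (n : G), n ∈ N ∧ γ s = s ^ k * n ∧
      (r : ZMod p) * b = a ∧ (k : ZMod p) * b = r ∧
      (l : ZMod p) * (k - a) = 0 ∧ (v : ZMod p) * (k * r - 1) = 0 := by
  haveI := h.U_normal
  haveI := h.Wn
  obtain ⟨k, n, hn, hs⟩ := h.decomp (γ s)
  obtain ⟨r, w, hw, hg⟩ := h.decomp_A (hA g h.gA)
  have hWc : ∀ z, Commute ⁅g, e⁆ z := fun z => by rw [h.ge]; exact (h.u_cen z).zpow_left m
  refine ⟨k, r, n, hn, hs, ?_, ?_, ?_, ?_⟩
  · have h1 : γ ⁅g, e⁆ = ⁅g, e⁆ ^ (r * b) := by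
      rw [map_commutatorElement, hg, he, comm_mul_left_eq (h.WN w hw _ (zpow_mem h.eN b)),
        comm_zpow_zpow hWc]
    rw [h.ge, map_zpow, hu, ← zpow_mul, ← zpow_mul, zpow_eq_zpow_iff h.u_pow h.u_ne] at h1
    push_cast at h1
    have hm0 : (m : ZMod p) ≠ 0 := fun e => h.hm ((ZMod.intCast_zmod_eq_zero_iff_dvd m p).1 e)
    exact mul_left_cancel₀ hm0 (by linear_combination -h1)
  · set π := QuotientGroup.mk' W
    have hse : ⁅π s, π e⁆ = π g := by rw [← map_commutatorElement, h.se]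
    have hgc : ∀ z, Commute ⁅π s, π e⁆ z := fun z => by
      obtain ⟨z, rfl⟩ := QuotientGroup.mk'_surjective W z
      rw [hse]
      exact commute_mk_of_mem (h.g_cen_mod z)
    have h1 : π (γ g) = π g ^ (k * b) := by
      rw [← hse, ← comm_zpow_zpow hgc, ← h.se, map_commutatorElement, hs, he,
        map_commutatorElement, map_mul, map_zpow, map_zpow,
        comm_mul_left_eq ((commute_mk_of_mem (zpowers_le.2 h.uW
          (h.NN n hn e h.eN))).zpow_right b)]
    rw [hg, map_mul, map_zpow, show π w = 1 from (QuotientGroup.eq_one_iff w).2 hw, mul_one,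
      zpow_eq_zpow_iff (mk_pow_eq_one p (by rw [h.g_pow]; exact one_mem _))
        (fun e => h.gW ((QuotientGroup.eq_one_iff g).1 e))] at h1
    push_cast at h1
    exact h1.symm
  · have hscc : ∀ z, Commute ⁅s, c⁆ z := fun z => by rw [h.sc]; exact (h.u_cen z).zpow_left l
    have h1 : γ ⁅s, c⁆ = ⁅s, c⁆ ^ k := by
      rw [map_commutatorElement, hs, hc, comm_mul_left_eq (h.WN c h.cW n hn).symm,
        comm_zpow_left hscc]
    rw [h.sc, map_zpow, hu, ← zpow_mul, ← zpow_mul, zpow_eq_zpow_iff h.u_pow h.u_ne] at h1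
    push_cast at h1
    linear_combination -h1
  · set π := QuotientGroup.mk' (zpowers u)
    have hsgc : ∀ z, Commute ⁅π s, π g⁆ z := fun z => by
      obtain ⟨z, rfl⟩ := QuotientGroup.mk'_surjective (zpowers u) z
      rw [← map_commutatorElement, h.sg, map_mul,
        show π (u ^ q) = 1 from (QuotientGroup.eq_one_iff _).2 (zpow_mem (mem_zpowers u) q), one_mul,
        map_zpow]
      exact (commute_mk_of_mem (h.c_cen_mod z)).zpow_left v
    have hπu : π u = 1 := (QuotientGroup.eq_one_iff _).2 (mem_zpowers u)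
    have hsg : ⁅π s, π g⁆ = π c ^ v := by
      rw [← map_commutatorElement, h.sg, map_mul, map_zpow, map_zpow, hπu, one_zpow, one_mul]
    have h1 : π (γ ⁅s, g⁆) = ⁅π s, π g⁆ ^ (k * r) := by
      have hn' : Commute (π n) (π g ^ r) := by
        rw [← map_zpow]
        exact commute_mk_of_mem (h.NN n hn _ (h.hAN (zpow_mem h.gA r)))
      have hw' : Commute (π s ^ k * π n) (π w) := by
        obtain ⟨x, y, rfl⟩ := h.decomp_W hw
        rw [map_mul, map_zpow, map_zpow, hπu, one_zpow, mul_one, ← map_zpow, ← map_mul]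
        exact ((commute_mk_of_mem (h.c_cen_mod _)).symm).zpow_right x
      rw [map_commutatorElement, hs, hg, map_commutatorElement, map_mul, map_mul, map_zpow,
        map_zpow, comm_mul_right_eq hw', comm_mul_left_eq hn', comm_zpow_zpow hsgc]
    rw [h.sg, map_mul, map_mul, map_zpow γ, map_zpow γ, hu, hc, map_zpow, map_zpow, map_zpow, hπu,
      one_zpow, one_zpow, one_mul, hsg, ← zpow_mul,
      zpow_eq_zpow_iff (mk_pow_eq_one p (by rw [h.c_pow]; exact one_mem _))
        (fun e => h.cU ((QuotientGroup.eq_one_iff c).1 e))] at h1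
    push_cast at h1
    linear_combination -h1

/-- With `v ≡ 0` the commutators span `⟨u, g⟩`. -/
theorem commutator_le (hv : c ^ v = 1) :
    (closure {u, g} : Subgroup G).Normal ∧ commutator G ≤ closure {u, g} := by
  haveI := h.fin
  set R : Subgroup G := closure {u, g}
  have huR : u ∈ R := subset_closure (Or.inl rfl)
  have hgR : g ∈ R := subset_closure (Or.inr rfl)
  have hgs : ∀ t, t = s ∨ t ∈ N → ⁅t, g⁆ ∈ zpowers u := by
    rintro t (rfl | ht)
    · rw [h.sg, hv, mul_one]; exact zpow_mem (mem_zpowers u) q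
    · exact h.NN t ht g (h.hAN h.gA)
  have hRn : R.Normal := by
    rw [← normalizer_eq_top_iff, eq_top_iff]
    intro x _
    obtain ⟨k, n, hn, rfl⟩ := h.decomp x
    have hkey : ∀ t, (t = s ∨ t ∈ N) → t ∈ normalizer (R : Set G) := fun t ht => by
      refine mem_normalizer_fintype fun z hz => ?_
      rw [SetLike.mem_coe] at hz ⊢
      have hle : R ≤ R.comap (MulAut.conj t).toMonoidHom := (closure_le _).2 fun r hr => by
        rw [SetLike.mem_coe, mem_comap]
        show t * r * t⁻¹ ∈ R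
        rw [conj_eq]
        rcases hr with rfl | rfl
        · rw [comm_eq_one (h.u_cen t).symm, one_mul]; exact huR
        · exact mul_mem (zpowers_le.2 huR (hgs t ht)) hgR
      exact hle hz
    exact mul_mem (zpow_mem (hkey s (Or.inl rfl)) k) (hkey n (Or.inr hn))
  refine ⟨hRn, ?_⟩
  set π := QuotientGroup.mk' R
  have h1 : ∀ a ∈ N, ∀ b ∈ N, Commute (π a) (π b) := fun a ha b hb =>
    commute_mk_of_mem (zpowers_le.2 huR (h.NN a ha b hb))
  have h2 : ∀ b ∈ N, Commute (π s) (π b) := by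
    intro b hb
    obtain ⟨j, a, ha, rfl⟩ := h.decomp_N hb
    obtain ⟨i, w, hw, rfl⟩ := h.decomp_A ha
    obtain ⟨x, y, rfl⟩ := h.decomp_W hw
    rw [map_mul, map_mul, map_mul, map_zpow, map_zpow, map_zpow, map_zpow]
    exact ((commute_mk_of_mem (by rw [h.se]; exact hgR)).zpow_right j).mul_right
      (((commute_mk_of_mem (zpowers_le.2 huR (hgs s (Or.inl rfl)))).zpow_right i).mul_right
        (((commute_mk_of_mem (by rw [h.sc]; exact zpow_mem huR l)).zpow_right x).mul_right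
          ((commute_mk_of_mem (by rw [comm_eq_one (h.u_cen s).symm]; exact one_mem _)).zpow_right y)))
  rw [commutator_def, Subgroup.commutator_le]
  intro a _ b _
  obtain ⟨i, m', hm', rfl⟩ := h.decomp a
  obtain ⟨j, n, hn, rfl⟩ := h.decomp b
  rw [← QuotientGroup.eq_one_iff, ← QuotientGroup.mk'_apply, map_commutatorElement,
    commutatorElement_eq_one_iff_commute, map_mul, map_mul, map_zpow, map_zpow]
  exact (((Commute.refl (π s)).zpow_zpow i j).mul_right ((h2 n hn).zpow_left i)).mul_left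
    (((h2 m' hm').symm.zpow_right j).mul_right (h1 m' hm' n hn))

theorem u_mem_commutator : u ∈ commutator G := by
  refine mem_of_zpow_mem (p := p) (by rw [h.u_pow]; exact one_mem _) h.hm ?_
  rw [← h.ge]
  exact commutator_mem_commutator (mem_top g) (mem_top e)

theorem g_mem_commutator : g ∈ commutator G := by
  rw [← h.se]
  exact commutator_mem_commutator (mem_top s) (mem_top e)

theorem mem_commutator (hv : c ^ v = 1) {x : G} :
    x ∈ commutator G ↔ ∃ i j : ℤ, x = g ^ i * u ^ j := by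
  constructor
  · intro hx
    have h1 := (h.commutator_le hv).2 hx
    rw [show ({u, g} : Set G) = {u} ∪ {g} from rfl, Subgroup.closure_union,
      ← zpowers_eq_closure, ← zpowers_eq_closure, sup_comm] at h1
    haveI := h.U_normal
    rw [← SetLike.mem_coe, Subgroup.mul_normal] at h1
    obtain ⟨_, ⟨i, rfl⟩, _, ⟨j, rfl⟩, rfl⟩ := h1
    exact ⟨i, j, rfl⟩
  · rintro ⟨i, j, rfl⟩
    exact mul_mem (zpow_mem h.g_mem_commutator i) (zpow_mem h.u_mem_commutator j)

theorem center_le_W : center G ≤ W := by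
  intro z hz
  haveI := h.Wn
  haveI := h.An
  haveI := h.U_normal
  obtain ⟨k, n, hn, rfl⟩ := h.decomp z
  set π := QuotientGroup.mk' W
  have hse : ⁅π s, π e⁆ = π g := by rw [← map_commutatorElement, h.se]
  have hgc : ∀ z, Commute ⁅π s, π e⁆ z := fun z => by
    obtain ⟨z, rfl⟩ := QuotientGroup.mk'_surjective W z
    rw [hse]
    exact commute_mk_of_mem (h.g_cen_mod z)
  have hk : (p : ℤ) ∣ k := by
    refine h.gi_mem ((QuotientGroup.eq_one_iff _).1 ?_)
    show π (g ^ k) = 1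
    have h1 := congrArg π (comm_eq_one (show Commute (s ^ k * n) e from
      (Subgroup.mem_center_iff.1 hz e).symm))
    rw [map_commutatorElement, map_mul, map_zpow, map_one,
      comm_mul_left_eq (commute_mk_of_mem (zpowers_le.2 h.uW (h.NN n hn e h.eN))),
      comm_zpow_left hgc, hse] at h1
    rw [map_zpow]
    exact h1
  obtain ⟨i, rfl⟩ := hk
  haveI := h.fin
  have hzN : s ^ ((p : ℤ) * i) * n ∈ N := by
    rw [zpow_mul, zpow_natCast]; exact mul_mem (zpow_mem h.s_pow_N i) hn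
  obtain ⟨j, a, ha, hja⟩ := h.decomp_N hzN
  rw [hja] at hz ⊢
  have hj : (p : ℤ) ∣ j := by
    refine h.gi_mem ((QuotientGroup.eq_one_iff _).1 ?_)
    show π (g ^ j) = 1
    have h1 := congrArg π (comm_eq_one (show Commute s (e ^ j * a) from
      Subgroup.mem_center_iff.1 hz s))
    obtain ⟨r, w, hw, rfl⟩ := h.decomp_A ha
    rw [map_commutatorElement, map_mul, map_mul, map_zpow, map_zpow, map_one,
      show π w = 1 from (QuotientGroup.eq_one_iff w).2 hw, mul_one,
      comm_mul_right_eq (((commute_mk_of_mem (h.g_cen_mod s)).symm).zpow_right r),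
      comm_zpow_right hgc, hse] at h1
    rw [map_zpow]
    exact h1
  obtain ⟨j', rfl⟩ := hj
  rw [zpow_mul, zpow_natCast, h.e_pow, one_zpow, one_mul] at hz ⊢
  obtain ⟨r, w, hw, rfl⟩ := h.decomp_A ha
  have hr : (p : ℤ) ∣ r := by
    have h1 := comm_eq_one (show Commute (g ^ r * w) e from (Subgroup.mem_center_iff.1 hz e).symm)
    rw [comm_mul_left_eq (h.WN w hw e h.eN),
      comm_zpow_left (fun z => by rw [h.ge]; exact (h.u_cen z).zpow_left m), h.ge, ← zpow_mul,
      zpow_eq_one_iff h.u_pow h.u_ne] at h1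
    exact ((Nat.prime_iff_prime_int.1 (Fact.out : p.Prime)).dvd_or_dvd h1).resolve_left h.hm
  obtain ⟨r', rfl⟩ := hr
  rw [zpow_mul, zpow_natCast, h.g_pow, one_zpow, one_mul]
  exact hw

theorem c_mem_center (hl : u ^ l = 1) : c ∈ center G :=
  Subgroup.mem_center_iff.2 fun z => by
    obtain ⟨k, n, hn, rfl⟩ := h.decomp z
    have h1 : Commute s c := by rw [← commutatorElement_eq_one_iff_commute, h.sc, hl]
    exact ((h1.zpow_left k).mul_left (h.WN c h.cW n hn).symm).eq

theorem center_eq (hl : u ^ l = 1) : center G = W := by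
  refine le_antisymm h.center_le_W fun z hz => ?_
  obtain ⟨i, j, rfl⟩ := h.decomp_W hz
  exact mul_mem (zpow_mem (h.c_mem_center hl) i)
    (zpow_mem (Subgroup.mem_center_iff.2 fun t => (h.u_cen t).eq.symm) j)

theorem center_eq' (hl : u ^ l ≠ 1) : center G = zpowers u := by
  refine le_antisymm (fun z hz => ?_)
    (zpowers_le.2 (Subgroup.mem_center_iff.2 fun t => (h.u_cen t).eq.symm))
  obtain ⟨i, j, rfl⟩ := h.decomp_W (h.center_le_W hz)
  have h1 : ⁅s, c ^ i * u ^ j⁆ = 1 := comm_eq_one (Subgroup.mem_center_iff.1 hz s)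
  rw [comm_mul_right_eq ((h.u_cen s).symm.zpow_right j),
    comm_zpow_right (fun z => by rw [h.sc]; exact (h.u_cen z).zpow_left l), h.sc, ← zpow_mul,
    zpow_eq_one_iff h.u_pow h.u_ne] at h1
  obtain ⟨i', rfl⟩ : (p : ℤ) ∣ i :=
    ((Nat.prime_iff_prime_int.1 (Fact.out : p.Prime)).dvd_or_dvd h1).resolve_left fun hd => hl <| by
      rw [zpow_eq_one_iff h.u_pow h.u_ne]; exact hd
  rw [zpow_mul, zpow_natCast, h.c_pow, one_zpow, one_mul]
  exact zpow_mem (mem_zpowers u) j

end Frame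

end CfsgLib.FusionFive
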