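import Cfsg.Agent.LocalStructure.Yoshida
import Cfsg.Agent.BlocksCharsC.PGroupCenter

/-!
# The kernel of the conjugate homomorphisms for `|G| = 3 ^ 5`

`exists_kernel`: from a transfer configuration a normal subgroup of order `p` modulo which `M` is
elementary abelian and which `ω` kills.
-/

set_option autoImplicit false
set_option linter.style.haveILetI false

namespace CfsgLib.FusionFive

open CfsgLib.LocalStructure
open scoped commutatorElement

variable {G : Type*} [Group G] [Finite G] {p : ℕ} [Fact p.Prime]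

/-- A normal subgroup of order `p` of a `p`-group is central. -/
theorem le_center_of_card (hG : IsPGroup p G) {K : Subgroup G} [K.Normal]
    (hK : Nat.card K = p) : K ≤ Subgroup.center G := by
  have hp : p.Prime := Fact.out
  haveI : Nontrivial K := Finite.one_lt_card_iff_nontrivial.1 (hK ▸ hp.one_lt)
  obtain ⟨z, hz, hz1⟩ := CfsgLib.BlocksCharsC.exists_mem_ne_one
    (CfsgLib.BlocksCharsC.inf_center_ne_bot hG K)
  obtain ⟨hzK, hzC⟩ := Subgroup.mem_inf.1 hz
  intro k hk
  obtain ⟨n, hn⟩ := mem_zpowers_of_prime_card (p := p) (g := (⟨z, hzK⟩ : K)) (g' := ⟨k, hk⟩) hK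
    (fun e => hz1 (congrArg Subtype.val e))
  have h1 : z ^ n = k := congrArg Subtype.val hn
  exact h1 ▸ Subgroup.zpow_mem _ hzC n

theorem exists_kernel (hp3 : p = 3) (hcard : Nat.card G = p ^ 5) {M : Subgroup G} [M.Normal]
    [Fintype (G ⧸ M)] (ω : M →* Multiplicative (ZMod p)) (u : M) {s : G} (hs : s ∉ M)
    (hidx : M.index = p) (hu : ∑ q, (Yoshida.conjVals ω u).toAdd q ≠ 0) :
    ∃ K : Subgroup G, K.Normal ∧ Nat.card K = p ∧ K ≤ M ∧ (∀ a ∈ M, ∀ b ∈ M, ⁅a, b⁆ ∈ K) ∧
      (∀ a ∈ M, a ^ p ∈ K) ∧ ∀ (k : G) (hk : k ∈ M), k ∈ K → ω ⟨k, hk⟩ = 1 := by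
  have hp : p.Prime := Fact.out
  set f := Yoshida.conjVals ω with hf
  have hsurj := Yoshida.conjVals_surjective ω s hs hidx u hu
  have hmemM : ∀ (g : G) {v : G}, v ∈ M → g⁻¹ * v * g ∈ M := fun g v hv => by
    simpa using (inferInstance : M.Normal).conj_mem v hv g⁻¹
  have hker : ∀ v : M, v ∈ f.ker ↔ ∀ g : G, ω ⟨g⁻¹ * v * g, hmemM g v.2⟩ = 1 := by
    intro v
    rw [MonoidHom.mem_ker]
    constructor
    · intro h g
      apply Multiplicative.toAdd.injective
      rw [← Yoshida.conjVals_apply ω v g (hmemM g v.2), ← hf, h]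
      rfl
    · intro h
      apply Multiplicative.toAdd.injective
      funext q
      rw [← QuotientGroup.out_eq' q, hf, Yoshida.conjVals_apply ω v q.out (hmemM _ v.2), h]
      rfl
  refine ⟨f.ker.map M.subtype, ⟨?_⟩, ?_, Subgroup.map_subtype_le _, ?_, ?_, ?_⟩
  · rintro _ ⟨v, hv, rfl⟩ t
    refine ⟨⟨t * v * t⁻¹, (inferInstance : M.Normal).conj_mem _ v.2 t⟩, ?_, rfl⟩
    refine (hker _).2 fun g => ?_
    refine Eq.trans (congrArg ω (Subtype.ext ?_)) ((hker v).1 hv (t⁻¹ * g))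
    show g⁻¹ * (t * (v : G) * t⁻¹) * g = (t⁻¹ * g)⁻¹ * v * (t⁻¹ * g)
    group
  · rw [Subgroup.card_map_of_injective M.subtype_injective]
    have h1 := Subgroup.card_mul_index f.ker
    have h2 := Subgroup.card_mul_index M
    rw [Subgroup.index_ker, Nat.card_congr (Subgroup.topEquiv.toEquiv.symm.trans
      (Equiv.cast (congrArg (fun H : Subgroup _ => ↥H) (MonoidHom.range_eq_top.2 hsurj).symm))).symm,
      Nat.card_congr Multiplicative.toAdd, Nat.card_fun, Nat.card_zmod, ← Subgroup.index_eq_card,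
      hidx] at h1
    rw [hidx, hcard] at h2
    have h3 : Nat.card M = p ^ 4 := Nat.eq_of_mul_eq_mul_right hp.pos (h2.trans (by ring))
    subst hp3
    rw [h3] at h1
    exact Nat.eq_of_mul_eq_mul_right (by norm_num : 0 < 3 ^ 3) (h1.trans (by norm_num))
  · intro a ha b hb
    refine ⟨⁅(⟨a, ha⟩ : M), (⟨b, hb⟩ : M)⁆, ?_, rfl⟩
    rw [SetLike.mem_coe, MonoidHom.mem_ker, map_commutatorElement,
      commutatorElement_eq_one_iff_mul_comm]
    exact mul_comm _ _
  · intro a ha
    refine ⟨(⟨a, ha⟩ : M) ^ p, ?_, rfl⟩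
    rw [SetLike.mem_coe, MonoidHom.mem_ker, map_pow]
    apply Multiplicative.toAdd.injective
    funext q
    simp
  · rintro k hk ⟨v, hv, hvk⟩
    refine Eq.trans (congrArg ω (Subtype.ext ?_)) ((hker v).1 hv 1)
    show k = (1 : G)⁻¹ * (v : G) * 1
    rw [inv_one, one_mul, mul_one]
    exact hvk.symm

end CfsgLib.FusionFive
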