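import Cfsg.Agent.FusionFive.Basic
import Cfsg.Agent.FusionFive.Kernel
import Cfsg.Agent.FusionFive.FrameGroup
import Cfsg.Agent.FusionPearl.Soft

/-!
# An abelian essential subgroup of order `p ^ 3` in a group of order `p ^ 5`

`exists_frame_of_pair`: two transvections give a `Frame` of `S` whose diagonal automorphisms
`(a, b, 1)`, `a * b ≡ 1`, extend to `S`.
-/

set_option autoImplicit false
set_option linter.style.haveILetI false
set_option linter.unusedSectionVars false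
set_option maxHeartbeats 800000

namespace CfsgLib.FusionFive

open Cfsg Cfsg.FusionSystem CfsgLib.Fusion CfsgLib.FusionClosed CfsgLib.FusionPearl
open scoped commutatorElement

attribute [local instance] CfsgLib.FusionClosed.commGroupOf

variable {Ω : Type*} [Group Ω] {S : Subgroup Ω} {F : FusionSystem S} {p : ℕ}

/-- The diagonal automorphisms are in the system. -/
def HasTorus (F : FusionSystem S) (p : ℕ) (N A : Subgroup S) (u e c : S) : Prop :=
  ∀ a b : ℤ, (p : ℤ) ∣ a * b - 1 → ∃ β ∈ F.autGroup S,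
    β u = u ^ a ∧ β e = e ^ b ∧ β c = c ∧ (∀ x ∈ N, β x ∈ N) ∧ (∀ x ∈ A, β x ∈ A)

/-- An abelian essential subgroup of order `p ^ 3`. -/
structure CubeCtx (F : FusionSystem S) (p : ℕ) (E : Subgroup Ω) : Prop where
  isP : IsPGroup p S
  sat : F.IsSaturated p
  odd : p ≠ 2
  cardS : Nat.card S = p ^ 5
  nonab : ∀ A ≤ S, IsMulCommutative A → Nat.card A ≠ p ^ 4
  ess : F.IsEssential p E
  comm : IsMulCommutative E
  cardE : Nat.card E = p ^ 3

namespace CubeCtx

variable [Finite S] [Fact p.Prime] {E : Subgroup Ω} (h : CubeCtx F p E)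
include h

theorem elem : IsElementaryAbelian p E := by
  rcases CfsgLib.FusionEssential.essential_card_cube h.isP h.ess h.cardE with h1 | ⟨-, h1, -⟩ | ⟨h1, -⟩
  · exact h1
  · exfalso
    have hp : p.Prime := Fact.out
    haveI := h.comm
    have h2 : Subgroup.center E = ⊤ :=
      eq_top_iff.2 fun x _ => Subgroup.mem_center_iff.2 fun y => mul_comm' y x
    have h3 := h1.2
    rw [h2, Subgroup.card_top, h.cardE] at h3
    have := Nat.pow_right_injective hp.two_le (h3.trans (pow_one p).symm)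
    omega
  · exact absurd h1 h.odd

theorem soft : Soft p F E := soft_of_essential h.ess h.elem h.cardE

theorem card_ne : Nat.card S ≠ p ^ 3 := fun e => by
  have := Nat.pow_right_injective (Fact.out : p.Prime).two_le (h.cardS.symm.trans e)
  omega

theorem card_N : Nat.card (normalizerIn S E) = p ^ 4 := h.soft.card_normalizer h.isP h.card_ne

theorem N_ne : normalizerIn S E ≠ S := fun e => by
  have h1 := h.card_N
  rw [e, h.cardS] at h1
  have := Nat.pow_right_injective (Fact.out : p.Prime).two_le h1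
  omega

theorem N_normal : S ≤ Subgroup.normalizer (normalizerIn S E : Set Ω) := by
  have hp : p.Prime := Fact.out
  have hNS := normalizerIn_le S E
  have := finite_of_le (normalizerIn_le S (normalizerIn S E))
  have hlt := Set.Finite.card_lt_card (Set.toFinite (normalizerIn S (normalizerIn S E) : Set Ω))
    (lt_normalizerIn h.isP (lt_of_le_of_ne hNS h.N_ne))
  obtain ⟨k, hk⟩ := IsPGroup.iff_card.1 (h.isP.to_le (normalizerIn_le S (normalizerIn S E)))
  rw [show Nat.card (normalizerIn S E : Set Ω) = p ^ 4 from h.card_N,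
    show Nat.card (normalizerIn S (normalizerIn S E) : Set Ω) = p ^ k from hk] at hlt
  have hk5 := (Nat.pow_lt_pow_iff_right hp.one_lt).1 hlt
  exact (Subgroup.eq_of_le_of_card_ge (normalizerIn_le S (normalizerIn S E)) (by
    rw [hk, h.cardS]; exact Nat.pow_le_pow_right hp.pos hk5)).ge.trans inf_le_right

/-- The generator of `Aut_S(E)`. -/
theorem exists_sigma : ∃ (σ : MulAut E) (y : Ω), y ∈ normalizerIn S E ∧ y ∉ E ∧
    σ ∈ F.autGroup E ∧ (∀ x : E, (σ x : Ω) = y * x * y⁻¹) ∧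
    (haveI := h.comm; IsTransvection p σ) ∧ autInducedBy S E = Subgroup.zpowers σ ∧
    ∀ M : Subgroup (MulAut E), M ≤ F.autGroup E → IsPGroup p M → Nat.card M ≤ p := by
  have hp : p.Prime := Fact.out
  haveI := h.comm
  have hs := h.soft
  obtain ⟨y, hy, hyE, hfix⟩ := hs.exists_hyperplane_fix h.isP h.cardS.ge
  have hidx : E.relIndex (normalizerIn S E) = p := by
    have h2 := Subgroup.card_mul_index (E.subgroupOf (normalizerIn S E))
    rw [Nat.card_congr (Subgroup.subgroupOfEquivOfLe (le_normalizerIn hs.le)).toEquiv, h.cardE,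
      h.card_N] at h2
    exact Nat.eq_of_mul_eq_mul_left (pow_pos hp.pos 3) (h2.trans (by ring))
  obtain ⟨σ, hσA, hσy, hσt, hσgen, hA⟩ := exists_transvection h.isP h.sat
    (hs.isFullyNormalized h.isP h.card_ne h.ess.1) hs.cent hidx hy hyE hfix
  exact ⟨σ, y, hy, hyE, autInducedBy_le_autGroup hs.le hσA, hσy, hσt, hσgen, hA⟩

end CubeCtx

/-- Commutators with an element of a closure. -/
theorem comm_mem_closure {K : Subgroup Ω} {n : Ω} {X : Set Ω}
    (hX : ∀ x ∈ X, ∀ k ∈ K, x * k = k * x) (hn : ∀ x ∈ X, ⁅n, x⁆ ∈ K) {z : Ω}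
    (hz : z ∈ Subgroup.closure X) : ⁅n, z⁆ ∈ K := by
  suffices hs : ⁅n, z⁆ ∈ K ∧ ∀ k ∈ K, z * k = k * z from hs.1
  refine Subgroup.closure_induction (fun x hx => ⟨hn x hx, hX x hx⟩) ?_ ?_ ?_ hz
  · exact ⟨by rw [commutatorElement_one_right]; exact one_mem _, fun k _ => by simp⟩
  · rintro a b - - ⟨ha, ha'⟩ ⟨hb, hb'⟩
    refine ⟨?_, fun k hk => by rw [mul_assoc, hb' k hk, ← mul_assoc, ha' k hk, mul_assoc]⟩
    rw [show ⁅n, a * b⁆ = ⁅n, a⁆ * (a * ⁅n, b⁆ * a⁻¹) by simp only [commutatorElement_def]; group,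
      ha' _ hb, mul_inv_cancel_right]
    exact mul_mem ha hb
  · rintro a - ⟨ha, ha'⟩
    refine ⟨?_, fun k hk => ((show Commute a k from ha' k hk).inv_left).eq⟩
    have e : ⁅n, a⁻¹⁆ = a⁻¹ * ⁅n, a⁆⁻¹ * a := by simp only [commutatorElement_def]; group
    rw [e, ((show Commute a ⁅n, a⁆⁻¹ from (ha' _ (inv_mem ha))).inv_left).eq, inv_mul_cancel_right]
    exact inv_mem ha

section Pair

variable [Finite S] [Fact p.Prime] {E : Subgroup Ω}

/-- The adapted basis of `E` of two transvections. -/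
theorem exists_basis [IsMulCommutative E] (hS : IsPGroup p S) (hES : E ≤ S)
    (hexp : ∀ x : E, x ^ p = 1) (hcard : Nat.card E = p ^ 3)
    {σ τ : MulAut E} (hσF : σ ∈ F.autGroup E) (hτF : τ ∈ F.autGroup E)
    (hσ : IsTransvection p σ) (hτ : IsTransvection p τ) (hne : τ ∉ Subgroup.zpowers σ)
    (hA : ∀ M : Subgroup (MulAut E), M ≤ F.autGroup E → IsPGroup p M → Nat.card M ≤ p) :
    ∃ u e c : E, u ≠ 1 ∧ σ u = u ∧ σ c = c ∧ τ c = c ∧ σ e = u * e ∧
      c ∉ Subgroup.zpowers u ∧ (∀ x : E, σ x = x → τ x = x → x ∈ Subgroup.zpowers c) ∧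
      (∀ x : E, ∃ i j l : ℤ, x = u ^ i * e ^ j * c ^ l) ∧
      ∀ a b : ℤ, (p : ℤ) ∣ a * b - 1 →
        ∃ h ∈ F.autGroup E, h u = u ^ a ∧ h e = e ^ b ∧ h c = c := by
  have hp := (Fact.out : p.Prime)
  have := finite_of_le hES
  obtain ⟨τ', z, z', hτ'A, P, hτ'z, hfixτ⟩ :=
    CfsgLib.FusionClosed.exists_pair (hS.to_le hES) hA hσF hτF hσ hτ hne
  set C := fixSub σ ⊓ fixSub τ' with hC
  obtain ⟨c, hcC, hc1, hcz, hCc⟩ : ∃ c ∈ C, c ≠ 1 ∧ c ∉ Subgroup.zpowers z ∧
      C ≤ Subgroup.zpowers c := by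
    have hlt : Nat.card (fixSub σ) = p ^ 2 := by
      have h2 := Subgroup.card_mul_index (fixSub σ)
      rw [hσ.index, hcard] at h2
      exact Nat.eq_of_mul_eq_mul_right hp.pos (h2.trans (by ring))
    have hzc : Nat.card (Subgroup.zpowers z) = p := by
      rw [Nat.card_zpowers, orderOf_eq_prime (hexp z) P.z_ne]
    obtain ⟨x, hx, hxz⟩ : ∃ x ∈ fixSub σ, x ∉ Subgroup.zpowers z := by
      by_contra h
      push Not at h
      have := Subgroup.card_le_of_le (show fixSub σ ≤ Subgroup.zpowers z from h)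
      rw [hlt, hzc] at this
      have := (Nat.pow_le_pow_iff_right hp.one_lt).1 (this.trans_eq (pow_one p).symm)
      omega
    obtain ⟨i, c, hc', rfl⟩ := P.fix_left (mem_fixSub.1 hx)
    have hc1 : c ≠ 1 := fun h => hxz (by rw [h, mul_one]; exact ⟨i, rfl⟩)
    have hcz : c ∉ Subgroup.zpowers z := fun h => hxz (mul_mem ⟨i, rfl⟩ h)
    refine ⟨c, hc', hc1, hcz, fun d hd => ?_⟩
    have hsup : Subgroup.zpowers z ⊔ Subgroup.zpowers c = fixSub σ := by
      refine Subgroup.eq_of_le_of_card_ge (sup_le (Subgroup.zpowers_le.2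
        (mem_fixSub.2 (mem_fixSub.1 P.disp_left_z)))
        (Subgroup.zpowers_le.2 (Subgroup.mem_inf.1 hc').1)) ?_
      have hlt' : Subgroup.zpowers z < Subgroup.zpowers z ⊔ Subgroup.zpowers c :=
        lt_of_le_of_ne le_sup_left fun e => hcz
          (e.symm ▸ Subgroup.mem_sup_right (Subgroup.mem_zpowers c) : c ∈ Subgroup.zpowers z)
      obtain ⟨m, hm⟩ := IsPGroup.iff_card.1
        ((hS.to_le hES).to_subgroup (Subgroup.zpowers z ⊔ Subgroup.zpowers c))
      have h2 := Set.Finite.card_lt_card (Set.toFinite _) hlt'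
      rw [show Nat.card ((Subgroup.zpowers z : Subgroup E) : Set E) = p ^ 1 by
          rw [pow_one]; exact hzc,
        show Nat.card ((Subgroup.zpowers z ⊔ Subgroup.zpowers c : Subgroup E) : Set E) = p ^ m from hm]
        at h2
      rw [hlt, hm]
      exact Nat.pow_le_pow_right hp.pos ((Nat.pow_lt_pow_iff_right hp.one_lt).1 h2)
    obtain ⟨_, ⟨a, rfl⟩, _, ⟨b, rfl⟩, hab⟩ :=
      Subgroup.mem_sup.1 (hsup.ge (Subgroup.mem_inf.1 hd).1)
    simp only at hab
    have h3 : z ^ a * z' ^ (0 : ℤ) ∈ C := by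
      rw [zpow_zero, mul_one, show z ^ a = d * (c ^ b)⁻¹ by rw [← hab, mul_inv_cancel_right]]
      exact mul_mem hd (inv_mem (zpow_mem hc' b))
    have h4 := P.zpow_mul_mem_fix h3
    rw [zpow_zero, mul_one] at h4
    exact ⟨b, by rw [← hab, h4, one_mul]⟩
  refine ⟨z, z', c, P.z_ne, mem_fixSub.1 P.disp_left_z, mem_fixSub.1 (Subgroup.mem_inf.1 hcC).1,
    mem_fixSub.1 (hfixτ ▸ (Subgroup.mem_inf.1 hcC).2), ?_, hcz, fun x hx hx' => hCc
      ⟨mem_fixSub.2 hx, hfixτ.symm ▸ mem_fixSub.2 hx'⟩, fun x => ?_, fun a b hab => ?_⟩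
  · rw [apply_eq_disp σ z', P.left_apply]
  · obtain ⟨a, b, d, hd, hx, -, -⟩ := P.decomp x
    obtain ⟨l, rfl⟩ := hCc hd
    exact ⟨a, b, l, hx⟩
  · obtain ⟨h, hh, h1, h2, h3⟩ := Pair.torus P hab
    exact ⟨h, (Subgroup.closure_le _).2 (by rintro x (rfl | rfl) <;> assumption) hh, h1, h2,
      h3 c hcC⟩

end Pair

namespace CubeCtx

variable [Finite S] [Fact p.Prime] {E : Subgroup Ω} (h : CubeCtx F p E)
include h

theorem exists_frame_of_pair {σ τ : MulAut E} {y : Ω} (hy : y ∈ normalizerIn S E)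
    (hyE : y ∉ E) (hσy : ∀ x : E, (σ x : Ω) = y * x * y⁻¹) (hσF : σ ∈ F.autGroup E)
    (hτF : τ ∈ F.autGroup E) (hσ : haveI := h.comm; IsTransvection p σ)
    (hτ : haveI := h.comm; IsTransvection p τ) (hne : τ ∉ Subgroup.zpowers σ)
    (hA : ∀ M : Subgroup (MulAut E), M ≤ F.autGroup E → IsPGroup p M → Nat.card M ≤ p) :
    ∃ (N A W : Subgroup S) (u e c g s : S) (m q l v : ℤ),
      Frame p N A W u e c g s m q l v ∧ HasTorus F p N A u e c ∧
      (∀ x : S, x ∈ W → (x : Ω) ∈ E) ∧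
      (∀ x : E, (x : Ω) = c → σ x = x ∧ τ x = x) ∧
      (∀ x : E, σ x = x → τ x = x → (⟨x, h.ess.1.1 x.2⟩ : S) ∈ Subgroup.zpowers c) := by
  have hp : p.Prime := Fact.out
  haveI := h.comm
  have hs := h.soft
  have hES : E ≤ S := hs.le
  have := finite_of_le hES
  have hexp : ∀ x : E, x ^ p = 1 := fun x => Subtype.ext (by simpa using hs.exp x x.2)
  obtain ⟨u₀, e₀, c₀, hu1, hσu, hσc, hτc, hσe, hcu, hfixc, hspan, htorus⟩ :=
    exists_basis (F := F) h.isP hES hexp h.cardE hσF hτF hσ hτ hne hA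
  set N := normalizerIn S E with hN
  have hNS : N ≤ S := normalizerIn_le S E
  have hEN : E ≤ N := le_normalizerIn hES
  have hNn := h.N_normal
  have := finite_of_le hNS
  let u : S := ⟨u₀, hES u₀.2⟩
  let e : S := ⟨e₀, hES e₀.2⟩
  let c : S := ⟨c₀, hES c₀.2⟩
  let y' : S := ⟨y, hy.1⟩
  set NG := N.subgroupOf S with hNG
  set EG := E.subgroupOf S with hEG
  haveI hNGn : NG.Normal := (Subgroup.normal_subgroupOf_iff_le_normalizer hNS).2 hNn
  have hcardNG : Nat.card NG = p ^ 4 := by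
    rw [Nat.card_congr (Subgroup.subgroupOfEquivOfLe hNS).toEquiv, h.card_N]
  have hcardEG : Nat.card EG = p ^ 3 := by
    rw [Nat.card_congr (Subgroup.subgroupOfEquivOfLe hES).toEquiv, h.cardE]
  have hEab : ∀ a ∈ EG, ∀ b ∈ EG, Commute a b := fun a ha b hb =>
    Subtype.ext (congrArg Subtype.val (mul_comm' (⟨a, ha⟩ : E) ⟨b, hb⟩) :)
  have hspanG : ∀ x ∈ EG, ∃ i j k : ℤ, x = u ^ i * e ^ j * c ^ k := fun x hx => by
    obtain ⟨i, j, k, hxe⟩ := hspan ⟨x, hx⟩
    exact ⟨i, j, k, Subtype.ext (by simpa [u, e, c] using congrArg Subtype.val hxe)⟩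
  have hyu : Commute y' u := by
    have := hσy u₀
    rw [hσu] at this
    exact Subtype.ext (mul_inv_eq_iff_eq_mul.1 this.symm)
  have hyc : Commute y' c := by
    have := hσy c₀
    rw [hσc] at this
    exact Subtype.ext (mul_inv_eq_iff_eq_mul.1 this.symm)
  have hye : ⁅y', e⁆ = u := by
    refine Subtype.ext ?_
    show y * (e₀ : Ω) * y⁻¹ * (e₀ : Ω)⁻¹ = u₀
    rw [← hσy, hσe, Subgroup.coe_mul, mul_inv_cancel_right]
  have hu_pow : u ^ p = 1 := Subtype.ext (by simpa [u] using hs.exp _ u₀.2)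
  have hu_ne : u ≠ 1 := fun e' => hu1 (Subtype.ext (congrArg Subtype.val e' :))
  -- `N` is generated by `y` and `E`
  have hgen : NG ≤ Subgroup.closure ({y', u, e, c} : Set S) := by
    set H := Subgroup.zpowers y' ⊔ EG with hH
    have hHN : H ≤ NG := sup_le (Subgroup.zpowers_le.2 hy) fun x hx => hEN hx
    have hEH : EG < H := lt_of_le_of_ne le_sup_right fun e' => hyE
      (e'.symm ▸ Subgroup.mem_sup_left (Subgroup.mem_zpowers y') : y' ∈ EG)
    have h2 := Set.Finite.card_lt_card (Set.toFinite (H : Set S)) hEH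
    obtain ⟨k, hk⟩ := IsPGroup.iff_card.1 (h.isP.to_subgroup H)
    rw [show Nat.card (EG : Set S) = p ^ 3 from hcardEG, show Nat.card (H : Set S) = p ^ k from hk]
      at h2
    have hk4 := (Nat.pow_lt_pow_iff_right hp.one_lt).1 h2
    rw [← Subgroup.eq_of_le_of_card_ge hHN (by
      rw [hk, hcardNG]; exact Nat.pow_le_pow_right hp.pos hk4)]
    refine sup_le (Subgroup.zpowers_le.2 (Subgroup.subset_closure (Or.inl rfl))) fun x hx => ?_
    obtain ⟨i, j, k, rfl⟩ := hspanG x hx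
    have hu' : u ∈ Subgroup.closure ({y', u, e, c} : Set S) := Subgroup.subset_closure (by simp)
    have he' : e ∈ Subgroup.closure ({y', u, e, c} : Set S) := Subgroup.subset_closure (by simp)
    have hc' : c ∈ Subgroup.closure ({y', u, e, c} : Set S) := Subgroup.subset_closure (by simp)
    exact mul_mem (mul_mem (zpow_mem hu' i) (zpow_mem he' j)) (zpow_mem hc' k)
  have hgens : ∀ x : S, x ∈ ({y', u, e, c} : Set S) → x = y' ∨ x ∈ EG := by
    rintro x (rfl | rfl | rfl | rfl)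
    exacts [Or.inl rfl, Or.inr u₀.2, Or.inr e₀.2, Or.inr c₀.2]
  have hcomm_of : ∀ w ∈ EG, Commute y' w → ∀ n ∈ NG, Commute w n := by
    intro w hw hwy n hn
    have hle : Subgroup.closure ({y', u, e, c} : Set S) ≤ Subgroup.centralizer ({w} : Set S) :=
      (Subgroup.closure_le _).2 fun x hx => Subgroup.mem_centralizer_singleton_iff.2 <| by
        rcases hgens x hx with rfl | hx
        · exact hwy.eq
        · exact (hEab x hx w hw).eq
    exact (Subgroup.mem_centralizer_singleton_iff.1 (hle (hgen hn))).symm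
  -- the centre `W` of `N`
  set WG := NG ⊓ Subgroup.centralizer (NG : Set S) with hWG
  haveI hWn : WG.Normal := inferInstance
  have huW : u ∈ WG := ⟨hEN u₀.2, Subgroup.mem_centralizer_iff.2 fun n hn =>
    (hcomm_of u u₀.2 hyu n hn).eq.symm⟩
  have hcW : c ∈ WG := ⟨hEN c₀.2, Subgroup.mem_centralizer_iff.2 fun n hn =>
    (hcomm_of c c₀.2 hyc n hn).eq.symm⟩
  have hWN : ∀ w ∈ WG, ∀ n ∈ NG, Commute w n := fun w hw n hn =>
    (Subgroup.mem_centralizer_iff.1 hw.2 n hn).symm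
  have hWE : ∀ x : S, x ∈ WG → (x : Ω) ∈ E := fun x hx =>
    hs.cent (mem_centralizerIn.2 ⟨x.2, fun z hz =>
      congrArg Subtype.val (hWN x hx ⟨z, hES hz⟩ (hEN hz)).eq.symm⟩)
  have hWdec : ∀ x ∈ WG, ∃ i k : ℤ, x = u ^ i * c ^ k := by
    intro x hx
    obtain ⟨i, j, k, rfl⟩ := hspanG x (hWE x hx)
    have hej : e ^ j ∈ WG := by
      have := mul_mem (mul_mem (inv_mem (zpow_mem huW i)) hx) (inv_mem (zpow_mem hcW k))
      simpa [mul_assoc] using this
    have h1 : Commute y' (e ^ j) := (hWN _ hej y' hy).symm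
    have hucen : ∀ z ∈ NG, Commute u z := hWN u huW
    have h2 : u ^ j = 1 := by
      have h3 : y' * e ^ j * y'⁻¹ = u ^ j * e ^ j := by
        rw [← conj_zpow, conj_eq, hye, (hucen e (hEN e₀.2)).mul_zpow]
      rw [h1.eq, mul_inv_cancel_right] at h3
      exact right_eq_mul.1 h3
    obtain ⟨j', rfl⟩ := (zpow_eq_one_iff hu_pow hu_ne j).1 h2
    refine ⟨i, k, ?_⟩
    rw [zpow_mul, zpow_natCast, show e ^ p = 1 from Subtype.ext (by simpa [e] using hs.exp _ e₀.2),
      one_zpow, mul_one]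
  have hcnot : c ∉ Subgroup.zpowers u := by
    rintro ⟨i, hi⟩
    exact hcu ⟨i, Subtype.ext (by simpa [u, c] using congrArg Subtype.val hi)⟩
  have hcardW : Nat.card WG = p ^ 2 := by
    obtain ⟨k, hk⟩ := IsPGroup.iff_card.1 (h.isP.to_subgroup WG)
    have hle : WG < EG := lt_of_le_of_ne (fun x hx => hWE x hx) fun e' => hu_ne <| by
      have h3 : e ∈ WG := e'.symm ▸ (e₀.2 : e ∈ EG)
      have h4 : ⁅y', e⁆ = 1 := comm_eq_one (hWN e h3 y' hy).symm
      rwa [hye] at h4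
    have hlt : Subgroup.zpowers u < WG := lt_of_le_of_ne (Subgroup.zpowers_le.2 huW) fun e' =>
      hcnot (e' ▸ hcW)
    have h1 := Set.Finite.card_lt_card (Set.toFinite (EG : Set S)) hle
    have h2 := Set.Finite.card_lt_card (Set.toFinite (WG : Set S)) hlt
    rw [show Nat.card (WG : Set S) = p ^ k from hk] at h1 h2
    rw [show Nat.card (EG : Set S) = p ^ 3 from hcardEG] at h1
    rw [show Nat.card ((Subgroup.zpowers u : Subgroup S) : Set S) = p ^ 1 by
      rw [pow_one]; exact (Nat.card_zpowers u).trans (orderOf_eq hu_pow hu_ne)] at h2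
    have := (Nat.pow_lt_pow_iff_right hp.one_lt).1 h1
    have := (Nat.pow_lt_pow_iff_right hp.one_lt).1 h2
    rw [hk]
    congr 1
    omega
  -- commutators of `N`
  have hNN : ∀ a ∈ NG, ∀ b ∈ NG, ⁅a, b⁆ ∈ Subgroup.zpowers u := by
    have hU : ∀ x ∈ ({y', u, e, c} : Set S), ∀ k ∈ Subgroup.zpowers u, x * k = k * x := by
      rintro x hx k ⟨i, rfl⟩
      refine ((hcomm_of u u₀.2 hyu x ?_).zpow_left i).eq.symm
      rcases hgens x hx with rfl | hx
      exacts [hy, hEN hx]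
    have h1 : ∀ x ∈ ({y', u, e, c} : Set S), ∀ z ∈ NG, ⁅x, z⁆ ∈ Subgroup.zpowers u := by
      intro x hx z hz
      refine comm_mem_closure hU (fun w hw => ?_) (hgen hz)
      have key : ∀ w ∈ ({y', u, e, c} : Set S), ⁅y', w⁆ ∈ Subgroup.zpowers u := by
        rintro w (rfl | rfl | rfl | rfl)
        · rw [commutatorElement_self]; exact one_mem _
        · rw [comm_eq_one hyu]; exact one_mem _
        · rw [hye]; exact Subgroup.mem_zpowers u
        · rw [comm_eq_one hyc]; exact one_mem _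
      rcases hgens x hx with rfl | hx'
      · exact key w hw
      · rcases hgens w hw with rfl | hw'
        · rw [← commutatorElement_inv]
          exact inv_mem (key x hx)
        · rw [comm_eq_one (hEab x hx' w hw')]
          exact one_mem _
    intro a ha b hb
    refine comm_mem_closure hU (fun w hw => ?_) (hgen hb)
    rw [← commutatorElement_inv]
    exact inv_mem (h1 w hw a ha)
  -- `u` is central
  haveI hUn : (Subgroup.zpowers u).Normal := ⟨fun n hn t => by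
    obtain ⟨i, rfl⟩ := hn
    rw [← conj_zpow]
    refine zpow_mem ?_ i
    have h1 : t * u * t⁻¹ = ⁅t * y' * t⁻¹, t * e * t⁻¹⁆ := by
      rw [← hye, ← MulAut.conj_apply, map_commutatorElement]
      rfl
    rw [h1]
    exact hNN _ (hNGn.conj_mem _ hy t) _ (hNGn.conj_mem _ (hEN e₀.2) t)⟩
  have hucen : ∀ z, Commute u z := fun z => (Subgroup.mem_center_iff.1 (le_center_of_card h.isP
    ((Nat.card_zpowers u).trans (orderOf_eq hu_pow hu_ne)) (Subgroup.mem_zpowers u)) z).symm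
  -- `A` and `g`
  obtain ⟨s, hs'⟩ : ∃ s : S, s ∉ NG := by
    by_contra hcon
    push Not at hcon
    exact h.N_ne (le_antisymm hNS fun x hx => hcon ⟨x, hx⟩)
  set WΩ := WG.map S.subtype with hWΩ
  have hWΩN : WΩ ≤ N := by
    rintro _ ⟨x, hx, rfl⟩
    exact hx.1
  have hWΩcard : Nat.card WΩ = p ^ 2 := by
    rw [hWΩ, Subgroup.card_map_of_injective S.subtype_injective, hcardW]
  have hWΩn : S ≤ Subgroup.normalizer (WΩ : Set Ω) :=
    le_normalizer_of_conj (Subgroup.map_subtype_le _) <| by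
      rintro t ht _ ⟨x, hx, rfl⟩
      exact ⟨_, hWn.conj_mem x hx ⟨t, ht⟩, rfl⟩
  obtain ⟨AΩ, hWA, hAN, hAn, hAcard⟩ := exists_normal_between h.isP
    (lt_of_le_of_ne hWΩN fun e' => by
      have := h.card_N
      rw [← hN, ← e', hWΩcard] at this
      have := Nat.pow_right_injective hp.two_le this
      omega) hNS hWΩn hNn
  rw [hWΩcard, ← pow_succ] at hAcard
  set AG := AΩ.subgroupOf S with hAG
  haveI hAGn : AG.Normal :=
    (Subgroup.normal_subgroupOf_iff_le_normalizer (hAN.trans hNS)).2 hAn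
  set g := ⁅s, e⁆ with hg
  have hgA : g ∈ AG := comm_mem_of_index h.isP hAN hNS hAn hNn
    (by rw [h.card_N, hAcard]; ring) s.2 (hEN e₀.2)
  have hgN : g ∈ NG := hAN hgA
  have hgE : g ∉ EG := fun hgE => by
    refine hs' ⟨s.2, Subgroup.mem_normalizer_fintype fun x hx => ?_⟩
    rw [SetLike.mem_coe] at hx ⊢
    obtain ⟨i, j, k, hxe⟩ := hspanG ⟨x, hES hx⟩ hx
    have hc' : s * c * s⁻¹ ∈ EG := hWE _ (hWn.conj_mem c hcW s)
    have he' : s * e * s⁻¹ ∈ EG := by rw [conj_eq]; exact mul_mem hgE e₀.2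
    have hu' : s * u * s⁻¹ ∈ EG := by rw [(hucen s).eq.symm, mul_inv_cancel_right]; exact u₀.2
    have h1 : s * ⟨x, hES hx⟩ * s⁻¹ ∈ EG := by
      rw [hxe, ← MulAut.conj_apply, map_mul, map_mul, map_zpow, map_zpow, map_zpow]
      exact mul_mem (mul_mem (zpow_mem hu' i) (zpow_mem he' j)) (zpow_mem hc' k)
    exact h1
  have hgW : g ∉ WG := fun hgW => hgE (hWE g hgW)
  have heA : e ∉ AG := fun heA => by
    have hle : EG ≤ AG := fun x hx => by
      obtain ⟨i, j, k, rfl⟩ := hspanG x hx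
      exact mul_mem (mul_mem (zpow_mem (hWA ⟨u, huW, rfl⟩ : u ∈ AG) i) (zpow_mem heA j))
        (zpow_mem (hWA ⟨c, hcW, rfl⟩ : c ∈ AG) k)
    have heq : E = AΩ := by
      have := finite_of_le (hAN.trans hNS)
      exact Subgroup.eq_of_le_of_card_ge (fun x hx => hle (show (⟨x, hES hx⟩ : S) ∈ EG from hx))
        (by rw [hAcard, h.cardE])
    exact h.N_ne (le_antisymm hNS (le_inf le_rfl (heq ▸ hAn)))
  have hWAG : WG ≤ AG := fun x hx => hWA ⟨x, hx, rfl⟩
  have hcardA : Nat.card AG = p ^ 3 := by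
    rw [Nat.card_congr (Subgroup.subgroupOfEquivOfLe (hAN.trans hNS)).toEquiv, hAcard]
  have he_pow : e ^ p = 1 := Subtype.ext (by simpa [e] using hs.exp _ e₀.2)
  have hc_pow : c ^ p = 1 := Subtype.ext (by simpa [c] using hs.exp _ c₀.2)
  obtain ⟨m, hm⟩ := hNN g hgN e (hEN e₀.2)
  have hm' : ¬ (p : ℤ) ∣ m := fun hd => hgE <| hs.cent <| mem_centralizerIn.2 ⟨g.2, fun x hx => by
    obtain ⟨i, j, k, hxe⟩ := hspanG ⟨x, hES hx⟩ hx
    have hge : Commute g e := by
      rw [← commutatorElement_eq_one_iff_commute, ← hm, zpow_eq_one_iff hu_pow hu_ne]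
      exact hd
    have h1 : Commute g ⟨x, hES hx⟩ := by
      rw [hxe]
      exact (((hucen g).symm.zpow_right i).mul_right (hge.zpow_right j)).mul_right
        (((hWN c hcW g hgN).symm).zpow_right k)
    exact congrArg Subtype.val h1.eq.symm⟩
  have hg_pow : g ^ p = 1 := by
    have h1 : (g * e) ^ p = 1 := by
      rw [hg, ← conj_eq, conj_pow, he_pow, mul_one, mul_inv_cancel]
    have hcen : ∀ z, Commute ⁅e, g⁆ z := fun z => by
      obtain ⟨i, hi⟩ := hNN e (hEN e₀.2) g hgN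
      rw [← hi]; exact (hucen z).zpow_left i
    have hcp : ⁅e, g⁆ ^ p = 1 := by
      obtain ⟨i, hi⟩ := hNN e (hEN e₀.2) g hgN
      rw [← hi, ← zpow_natCast, ← zpow_mul, mul_comm, zpow_mul, zpow_natCast, hu_pow, one_zpow]
    rwa [mul_pow_prime hp h.odd hcen hcp, he_pow, mul_one] at h1
  have hsgW : ⁅s, g⁆ ∈ WG := by
    obtain ⟨w, hw, hwe⟩ := comm_mem_of_index h.isP hWA (hAN.trans hNS) hWΩn hAn
      (by rw [hAcard, hWΩcard]; ring) s.2 hgA
    rwa [show w = ⁅s, g⁆ from Subtype.ext hwe] at hw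
  obtain ⟨q, v, hqv⟩ := hWdec _ hsgW
  have hUW : (Subgroup.zpowers u).map S.subtype ≤ WΩ :=
    Subgroup.map_mono (Subgroup.zpowers_le.2 huW)
  obtain ⟨_, ⟨l, rfl⟩, hl⟩ := comm_mem_of_index h.isP hUW (Subgroup.map_subtype_le _)
    (le_normalizer_of_conj (Subgroup.map_subtype_le _) (by
      rintro t ht _ ⟨x, hx, rfl⟩
      exact ⟨_, hUn.conj_mem x hx ⟨t, ht⟩, rfl⟩)) hWΩn
    (by rw [hWΩcard, Subgroup.card_map_of_injective S.subtype_injective, Nat.card_zpowers,
      orderOf_eq hu_pow hu_ne, sq]) s.2 (⟨c, hcW, rfl⟩ : (c : Ω) ∈ WΩ)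
  have hfr : Frame p NG AG WG u e c g s m q l v :=
    { fin := inferInstance, pG := h.isP, cardG := h.cardS, Nn := hNGn, An := hAGn, Wn := hWn,
      cardN := hcardNG, cardA := hcardA, cardW := hcardW, hWA := hWAG,
      hAN := fun x hx => hAN hx, uW := huW, cW := hcW, gA := hgA, gW := hgW, eN := hEN e₀.2,
      eA := heA, sN := hs', cU := hcnot, u_ne := hu_ne, u_pow := hu_pow, c_pow := hc_pow,
      g_pow := hg_pow, e_pow := he_pow, u_cen := hucen, WN := hWN, NN := hNN, ge := hm.symm,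
      hm := hm', se := hg.symm, sg := hqv, sc := Subtype.ext hl.symm }
  refine ⟨NG, AG, WG, u, e, c, g, s, m, q, l, v, hfr, fun a b hab => ?_, hWE, fun x hx => ?_,
    fun x hσx hτx => ?_⟩
  swap
  · rw [show x = c₀ from Subtype.ext hx]
    exact ⟨hσc, hτc⟩
  swap
  · obtain ⟨i, hi⟩ := hfixc x hσx hτx
    exact ⟨i, Subtype.ext (by simpa [c] using congrArg Subtype.val hi)⟩
  -- extension of the torus
  obtain ⟨α, hα, hαu, hαe, hαc⟩ := htorus a b hab
  have hUmem : ∀ z : Ω, z ∈ (Subgroup.zpowers u).map S.subtype → ∃ i : ℤ, z = (u₀ : Ω) ^ i := by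
    rintro _ ⟨_, ⟨i, rfl⟩, rfl⟩
    exact ⟨i, by simp [u]⟩
  have hαW : ∀ x : E, (x : Ω) ∈ WΩ → (α x : Ω) ∈ WΩ := by
    intro x hx
    obtain ⟨x', hx', hxe⟩ := hx
    obtain ⟨i, k, rfl⟩ := hWdec x' hx'
    have : x = u₀ ^ i * c₀ ^ k := Subtype.ext (by simpa [u, c] using hxe.symm)
    rw [this, map_mul, map_zpow, map_zpow, hαu, hαc, ← zpow_mul]
    exact ⟨u ^ (a * i) * c ^ k, mul_mem (zpow_mem huW _) (zpow_mem hcW _), by simp [u, c]⟩
  have hWΩE : WΩ ≤ E := by
    rintro _ ⟨x, hx, rfl⟩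
    exact hWE x hx
  let D0 : ℕ → Subgroup Ω := fun j => if j = 0 then E else if j = 1 then WΩ else ⊥
  obtain ⟨β₁, hβ₁, hβ₁x⟩ := exists_aut_extension h.isP h.sat h.ess.2.1 D0 2 rfl rfl
    (fun j => by
      rcases j with _ | _ | j
      · exact le_rfl
      · exact hWΩE
      · exact bot_le)
    (fun j => by
      rcases j with _ | _ | j
      · exact inf_le_right
      · exact hNS.trans hWΩn
      · exact fun g _ => Subgroup.mem_normalizer_iff.2 fun w => by simp [D0])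
    (fun t ht j hj x hx => by
      interval_cases j
      · have hx' : x ∈ E := hx
        have h1 := hNN (⟨x, hES hx'⟩⁻¹) (inv_mem (hEN hx')) ⟨t, ht.1⟩ ht
        have h2 : ((⁅(⟨x, hES hx'⟩ : S)⁻¹, (⟨t, ht.1⟩ : S)⁆ : S) : Ω) ∈ WΩ :=
          hUW ⟨_, h1, rfl⟩
        show x⁻¹ * (t * x * t⁻¹) ∈ WΩ
        simpa [commutatorElement_def, mul_assoc] using h2
      · obtain ⟨x', hx', hxe⟩ := hx
        show x⁻¹ * (t * x * t⁻¹) ∈ (⊥ : Subgroup Ω)
        have h1 : x * t = t * x := by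
          rw [← hxe]
          exact congrArg Subtype.val (hWN x' hx' ⟨t, ht.1⟩ ht).eq
        rw [← h1, mul_inv_cancel_right, inv_mul_cancel]
        exact one_mem _)
    hα (fun j x hx => by
      rcases j with _ | _ | j
      · exact (α x).2
      · exact hαW x hx
      · have hx' : (x : Ω) ∈ (⊥ : Subgroup Ω) := hx
        rw [Subgroup.mem_bot] at hx'
        show (α x : Ω) ∈ (⊥ : Subgroup Ω)
        rw [show x = 1 from Subtype.ext hx', map_one]
        exact one_mem _)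
  have hβ₁W : ∀ x : N, (x : Ω) ∈ WΩ → (β₁ x : Ω) ∈ WΩ := fun x hx => by
    rw [hβ₁x ⟨x, hWΩE hx⟩ x rfl]
    exact hαW _ hx
  have hβ₁A : ∀ x : N, (x : Ω) ∈ AΩ → (β₁ x : Ω) ∈ AΩ := by
    by_contra hcon
    push Not at hcon
    obtain ⟨x, hxA, hx⟩ := hcon
    have hAG' : ∀ z : N, (z : Ω) ∈ AΩ → (⟨z, hNS z.2⟩ : S) ∈ AG := fun z hz => hz
    obtain ⟨j, r, hr, hj⟩ := hfr.decomp_N (x := ⟨β₁ x, hNS (β₁ x).2⟩) (β₁ x).2
    have hj0 : ¬ (p : ℤ) ∣ j := by
      rintro ⟨j', rfl⟩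
      refine hx ?_
      rw [zpow_mul, zpow_natCast, he_pow, one_zpow, one_mul] at hj
      exact (hj.symm ▸ hr : (⟨β₁ x, hNS (β₁ x).2⟩ : S) ∈ AG)
    obtain ⟨i, w, hw, rfl⟩ := hfr.decomp_A hr
    obtain ⟨t, ht⟩ := hfr.exists_conj hj0 i
    have hWconj : ∀ z ∈ WΩ, z ∈ E.map (MulAut.conj (t : Ω)).toMonoidHom := fun z hz => by
      refine ⟨(t : Ω)⁻¹ * z * t, hWΩE ?_, by simp [mul_assoc]⟩
      have := (Subgroup.mem_normalizer_iff.1 (hWΩn (inv_mem t.2)) z).1 hz
      simpa using this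
    have hmem : (β₁ x : Ω) ∈ E.map (MulAut.conj (t : Ω)).toMonoidHom := by
      have h1 : (β₁ x : Ω) = ((e ^ j * g ^ i * (t * e ^ j * t⁻¹)⁻¹ : S) : Ω) *
          ((t : Ω) * (e₀ : Ω) ^ j * (t : Ω)⁻¹) * (w : Ω) := by
        rw [show (β₁ x : Ω) = ((e ^ j * (g ^ i * w) : S) : Ω) from congrArg Subtype.val hj]
        simp [e, mul_assoc]
      rw [h1]
      exact mul_mem (mul_mem (hWconj _ ⟨_, ht, rfl⟩) ⟨_, zpow_mem e₀.2 j, rfl⟩)
        (hWconj _ ⟨w, hw, rfl⟩)
    refine false_of_image_conj h.ess.2.1 h.N_ne hAn hAN hNS hβ₁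
      (by rw [hAcard, h.cardE]) t.2 ?_
    intro z hz
    have hxW : (⟨x, hNS x.2⟩ : S) ∉ WG := fun hxW => hx (hWA (hβ₁W x ⟨_, hxW, rfl⟩))
    obtain ⟨k, w', hw', hk⟩ := CfsgLib.FusionPearl.exists_pow_mul_of_index h.isP hWAG
      (by rw [hcardA, hcardW]; ring) (hAG' x hxA) hxW (hAG' z hz)
    have hk' : z = x ^ k * ⟨w', hAN (hWA ⟨w', hw', rfl⟩)⟩ := Subtype.ext (by
      simpa using congrArg Subtype.val hk)
    rw [hk', map_mul, map_zpow, Subgroup.coe_mul, Subgroup.coe_zpow]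
    exact mul_mem (zpow_mem hmem k) (hWconj _ (hβ₁W _ ⟨w', hw', rfl⟩))
  have hβ₁U : ∀ x : N, (x : Ω) ∈ (Subgroup.zpowers u).map S.subtype →
      (β₁ x : Ω) ∈ (Subgroup.zpowers u).map S.subtype := fun x hx => by
    obtain ⟨i, hi⟩ := hUmem _ hx
    rw [hβ₁x ⟨x, hWΩE (hUW hx)⟩ x rfl,
      show (⟨x, hWΩE (hUW hx)⟩ : E) = u₀ ^ i from Subtype.ext (by simpa using hi),
      map_zpow, hαu, ← zpow_mul]
    exact ⟨u ^ (a * i), zpow_mem (Subgroup.mem_zpowers u) _, by simp [u]⟩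
  let D1 : ℕ → Subgroup Ω := fun j => if j = 0 then N else if j = 1 then AΩ else
    if j = 2 then WΩ else if j = 3 then (Subgroup.zpowers u).map S.subtype else ⊥
  have hUn' : S ≤ Subgroup.normalizer (((Subgroup.zpowers u).map S.subtype : Subgroup Ω) : Set Ω) :=
    le_normalizer_of_conj (Subgroup.map_subtype_le _) (by
      rintro t ht _ ⟨x, hx, rfl⟩
      exact ⟨_, hUn.conj_mem x hx ⟨t, ht⟩, rfl⟩)
  have hNN' : normalizerIn S N = S := inf_eq_left.2 hNn
  obtain ⟨β₂, hβ₂, hβ₂x⟩ := exists_aut_extension h.isP h.sat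
    (fullyNormalized_of_normal hNS hNn) D1 4 rfl rfl
    (fun j => by
      rcases j with _ | _ | _ | _ | j
      · exact le_rfl
      · exact hAN
      · exact hWΩN
      · exact hUW.trans hWΩN
      · exact bot_le)
    (fun j => by
      rcases j with _ | _ | _ | _ | j
      · exact inf_le_right
      · exact (normalizerIn_le S N).trans hAn
      · exact (normalizerIn_le S N).trans hWΩn
      · exact (normalizerIn_le S N).trans hUn'
      · exact fun g _ => Subgroup.mem_normalizer_iff.2 fun w => by simp [D1])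
    (fun t ht j hj x hx => by
      interval_cases j
      · show x⁻¹ * (t * x * t⁻¹) ∈ AΩ
        have hx' : x ∈ N := hx
        have := comm_mem_of_index h.isP hAN hNS hAn hNn (by rw [h.card_N, hAcard]; ring) ht.1
          (inv_mem hx')
        have := inv_mem this
        simpa [commutatorElement_def, mul_assoc] using this
      · show x⁻¹ * (t * x * t⁻¹) ∈ WΩ
        have hx' : x ∈ AΩ := hx
        have := comm_mem_of_index h.isP hWA (hAN.trans hNS) hWΩn hAn
          (by rw [hAcard, hWΩcard]; ring) ht.1 (inv_mem hx')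
        have := inv_mem this
        simpa [commutatorElement_def, mul_assoc] using this
      · show x⁻¹ * (t * x * t⁻¹) ∈ (Subgroup.zpowers u).map S.subtype
        have hx' : x ∈ WΩ := hx
        have := comm_mem_of_index h.isP hUW (hWΩN.trans hNS) hUn' hWΩn
          (by rw [hWΩcard, Subgroup.card_map_of_injective S.subtype_injective, Nat.card_zpowers,
            orderOf_eq hu_pow hu_ne, sq]) ht.1 (inv_mem hx')
        have := inv_mem this
        simpa [commutatorElement_def, mul_assoc] using this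
      · obtain ⟨i, hi⟩ := hUmem _ hx
        show x⁻¹ * (t * x * t⁻¹) ∈ (⊥ : Subgroup Ω)
        have h1 : Commute ((u₀ : Ω) ^ i) t := by
          have h0 : Commute (u₀ : Ω) t := congrArg Subtype.val (hucen ⟨t, ht.1⟩).eq
          exact h0.zpow_left i
        rw [hi, ← h1.eq, mul_inv_cancel_right, inv_mul_cancel]
        exact one_mem _)
    hβ₁ (fun j x hx => by
      rcases j with _ | _ | _ | _ | j
      · exact (β₁ x).2
      · exact hβ₁A x hx
      · exact hβ₁W x hx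
      · exact hβ₁U x hx
      · have hx' : (x : Ω) ∈ (⊥ : Subgroup Ω) := hx
        rw [Subgroup.mem_bot] at hx'
        show (β₁ x : Ω) ∈ (⊥ : Subgroup Ω)
        rw [show x = 1 from Subtype.ext hx', map_one]
        exact one_mem _)
  obtain ⟨β, hβ, hβx⟩ := exists_aut_of_eq hNN' hβ₂
  have heval : ∀ x : N, (β ⟨x, hNS x.2⟩ : Ω) = β₁ x := fun x => by
    rw [hβx ⟨x, hNN'.symm ▸ hNS x.2⟩ _ rfl, hβ₂x x _ rfl]
  refine ⟨β, hβ, Subtype.ext ?_, Subtype.ext ?_, Subtype.ext ?_, fun x hx => ?_, fun x hx => ?_⟩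
  · rw [show u = ⟨((⟨u₀, hEN u₀.2⟩ : N) : Ω), hNS (hEN u₀.2)⟩ from rfl, heval, hβ₁x u₀ _ rfl, hαu]
    simp
  · rw [show e = ⟨((⟨e₀, hEN e₀.2⟩ : N) : Ω), hNS (hEN e₀.2)⟩ from rfl, heval, hβ₁x e₀ _ rfl, hαe]
    simp
  · rw [show c = ⟨((⟨c₀, hEN c₀.2⟩ : N) : Ω), hNS (hEN c₀.2)⟩ from rfl, heval, hβ₁x c₀ _ rfl, hαc]
  · show (β x : Ω) ∈ N
    rw [show x = ⟨((⟨x, hx⟩ : N) : Ω), hNS hx⟩ from rfl, heval]
    exact (β₁ _).2
  · show (β x : Ω) ∈ AΩ
    rw [show x = ⟨((⟨x, hAN hx⟩ : N) : Ω), hNS (hAN hx)⟩ from rfl, heval]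
    exact hβ₁A _ hx

end CubeCtx

end CfsgLib.FusionFive
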