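import Cfsg.Agent.FusionFive.Basic
import Cfsg.Agent.FusionClosed.Invariant
import Cfsg.Agent.FusionEssential.Aut

/-!
# Order `p ^ 5`: some essential subgroup is abelian

If the core is trivial and there is no abelian subgroup of index `p`, some essential subgroup is
abelian: otherwise the centre of `S` would be normal in the system.
-/

set_option autoImplicit false
set_option linter.style.haveILetI false

namespace CfsgLib.FusionFive

open Cfsg Cfsg.FusionSystem CfsgLib.Fusion
open scoped commutatorElement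

/-- A group with centre of index `p ^ 2` has derived subgroup of order `p` in the centre. -/
theorem card_commutator_of_index_center {G : Type*} [Group G] [Finite G] {p : ℕ} [Fact p.Prime]
    (hidx : (Subgroup.center G).index = p ^ 2) (hna : ¬ IsMulCommutative G) :
    Nat.card (commutator G) = p := by
  have hp : p.Prime := Fact.out
  set Z := Subgroup.center G
  set q := QuotientGroup.mk' Z with hq
  have hQ : Nat.card (G ⧸ Z) = p ^ 2 := by rw [← Subgroup.index_eq_card, hidx]
  have hQc := (IsPGroup.isMulCommutative_of_card_eq_prime_sq hQ).is_comm.comm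
  have hmem : ∀ a b : G, ⁅a, b⁆ ∈ Z := fun a b => by
    rw [← QuotientGroup.eq_one_iff, ← QuotientGroup.mk'_apply, map_commutatorElement,
      commutatorElement_eq_one_iff_mul_comm]
    exact hQc _ _
  have hcen : ∀ a b z : G, Commute ⁅a, b⁆ z := fun a b z =>
    (Subgroup.mem_center_iff.1 (hmem a b) z).symm
  obtain ⟨x, y, hxy⟩ : ∃ x y : G, x * y ≠ y * x := by
    by_contra h
    push Not at h
    exact hna ⟨⟨h⟩⟩
  have hy : q y ∉ Subgroup.zpowers (q x) := by
    rintro ⟨j, hj⟩
    have h1 : (x ^ j)⁻¹ * y ∈ Z := QuotientGroup.eq.1 (by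
      rw [QuotientGroup.mk_zpow]; exact hj)
    refine hxy ?_
    have h2 : Commute x ((x ^ j) * ((x ^ j)⁻¹ * y)) :=
      (Commute.self_zpow x j).mul_right (Subgroup.mem_center_iff.1 h1 x)
    rwa [mul_inv_cancel_left] at h2
  have hx1 : q x ≠ 1 := fun h => hxy
    (Subgroup.mem_center_iff.1 ((QuotientGroup.eq_one_iff x).1 h) y).symm
  set T := Subgroup.zpowers (q x) ⊔ Subgroup.zpowers (q y) with hT
  have hlt : Subgroup.zpowers (q x) < T := lt_of_le_of_ne le_sup_left fun e =>
    hy (e.symm ▸ Subgroup.mem_sup_right (Subgroup.mem_zpowers _) : q y ∈ Subgroup.zpowers (q x))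
  have hlt' := Set.Finite.card_lt_card (Set.toFinite _) hlt
  obtain ⟨i, hi, hxi⟩ := (Nat.dvd_prime_pow hp).1
    (hQ ▸ (Subgroup.zpowers (q x)).card_subgroup_dvd_card)
  obtain ⟨j, hj, hTj⟩ := (Nat.dvd_prime_pow hp).1 (hQ ▸ T.card_subgroup_dvd_card)
  have hi0 : i ≠ 0 := fun h => hx1 (orderOf_eq_one_iff.1 (by
    rw [← Nat.card_zpowers, hxi, h, pow_zero]))
  have hij : i < j := (Nat.pow_lt_pow_iff_right hp.one_lt).1 (by rw [← hxi, ← hTj]; exact hlt')
  obtain ⟨rfl, rfl⟩ : i = 1 ∧ j = 2 := by omega
  have hTtop : T = ⊤ := Subgroup.eq_top_of_card_eq _ (hTj.trans hQ.symm)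
  set c := ⁅x, y⁆ with hc
  have hcp : c ^ p = 1 := by
    have hxp : x ^ p ∈ Z := (QuotientGroup.eq_one_iff _).1 (by
      rw [QuotientGroup.mk_pow]
      exact orderOf_dvd_iff_pow_eq_one.1 (by rw [← Nat.card_zpowers]; exact hxi ▸ (pow_one p).dvd))
    rw [← zpow_natCast, ← comm_zpow_left (hcen x y), zpow_natCast]
    exact comm_eq_one (Subgroup.mem_center_iff.1 hxp y).symm
  have hc1 : c ≠ 1 := fun h => hxy (commutatorElement_eq_one_iff_mul_comm.1 h)
  set N := Subgroup.zpowers c with hN
  haveI : N.Normal := ⟨fun n hn g => by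
    obtain ⟨k, rfl⟩ := hn
    rw [((hcen x y g).symm.zpow_right k).eq, mul_inv_cancel_right]
    exact zpow_mem (Subgroup.mem_zpowers c) k⟩
  set r := QuotientGroup.mk' N with hr
  have hxy' : Commute (r x) (r y) := by
    rw [← commutatorElement_eq_one_iff_commute, ← map_commutatorElement]
    exact (QuotientGroup.eq_one_iff _).2 (Subgroup.mem_zpowers c)
  set K := (Subgroup.center (G ⧸ N)).comap r with hK
  have hkey : ∀ H : Subgroup G, Z ≤ H → x ∈ H → y ∈ H → H = ⊤ := by
    intro H hZ hx hy
    refine eq_top_iff.2 fun g _ => ?_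
    have h1 : q g ∈ H.map q := by
      have h2 : T ≤ H.map q := sup_le (Subgroup.zpowers_le.2 ⟨x, hx, rfl⟩)
        (Subgroup.zpowers_le.2 ⟨y, hy, rfl⟩)
      exact h2 (hTtop ▸ Subgroup.mem_top _)
    obtain ⟨h, hh, hhg⟩ := h1
    have := H.mul_mem hh (hZ (QuotientGroup.eq.1 hhg))
    rwa [mul_inv_cancel_left] at this
  have hcent : ∀ g : G, (∀ z : G, z = x ∨ z = y ∨ z ∈ Z → Commute (r g) (r z)) → g ∈ K := by
    intro g hg
    refine Subgroup.mem_center_iff.2 fun v => ?_
    obtain ⟨v, rfl⟩ := QuotientGroup.mk'_surjective N v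
    have hH := hkey ((Subgroup.centralizer {r g}).comap r)
      (fun z hz => Subgroup.mem_centralizer_singleton_iff.2 (hg z (Or.inr (Or.inr hz))).symm)
      (Subgroup.mem_centralizer_singleton_iff.2 (hg x (Or.inl rfl)).symm)
      (Subgroup.mem_centralizer_singleton_iff.2 (hg y (Or.inr (Or.inl rfl))).symm)
    have hv : v ∈ (Subgroup.centralizer {r g}).comap r := hH ▸ Subgroup.mem_top v
    exact Subgroup.mem_centralizer_singleton_iff.1 hv
  have hKtop : K = ⊤ := by
    have hZK : ∀ z ∈ Z, ∀ g : G, Commute (r z) (r g) := fun z hz g =>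
      (show Commute z g from (Subgroup.mem_center_iff.1 hz g).symm).map r
    refine hkey K (fun z hz => hcent z fun g _ => hZK z hz g) (hcent x ?_) (hcent y ?_)
    · rintro z (rfl | rfl | hz)
      exacts [Commute.refl _, hxy', (hZK z hz x).symm]
    · rintro z (rfl | rfl | hz)
      exacts [hxy'.symm, Commute.refl _, (hZK z hz y).symm]
  have hle : commutator G ≤ N := by
    rw [commutator_def, Subgroup.commutator_le]
    intro a _ b _
    rw [← QuotientGroup.eq_one_iff, ← QuotientGroup.mk'_apply, map_commutatorElement,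
      commutatorElement_eq_one_iff_mul_comm]
    have ha : a ∈ K := hKtop ▸ Subgroup.mem_top a
    exact (Subgroup.mem_center_iff.1 ha _).symm
  have hge : N ≤ commutator G := Subgroup.zpowers_le.2
    (Subgroup.commutator_mem_commutator (Subgroup.mem_top x) (Subgroup.mem_top y))
  rw [le_antisymm hle hge, Nat.card_zpowers, orderOf_eq hcp hc1]

variable {Ω : Type*} [Group Ω] {S : Subgroup Ω} {F : FusionSystem S} {p : ℕ}

/-- Some essential subgroup is abelian. -/
theorem exists_abelian_essential [Finite S] [Fact p.Prime] (hS : IsPGroup p S)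
    (hF : F.IsSaturated p) (hcard : Nat.card S = p ^ 5) (hcore : F.core = ⊥)
    (h0 : ∀ A ≤ S, IsMulCommutative A → Nat.card A ≠ p ^ 4) :
    ∃ E, F.IsEssential p E ∧ IsMulCommutative E ∧ (Nat.card E = p ^ 2 ∨ Nat.card E = p ^ 3) := by
  have hp : p.Prime := Fact.out
  have hessc : ∀ P, F.IsEssential p P → ∃ k, Nat.card P = p ^ k ∧ 2 ≤ k ∧ k ≤ 4 := by
    intro P hP
    haveI := finite_of_le hP.1.1
    obtain ⟨k, hk⟩ := IsPGroup.iff_card.1 (hS.to_le hP.1.1)
    have hlt : P < S := lt_of_le_of_ne hP.1.1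
      (CfsgLib.FusionExtraspecial.ne_self_of_essential hS hF hP)
    have h1 := Set.Finite.card_lt_card (Set.toFinite (S : Set Ω)) hlt
    rw [show Nat.card (P : Set Ω) = p ^ k from hk, show Nat.card (S : Set Ω) = p ^ 5 from hcard] at h1
    have h2 := (Nat.pow_lt_pow_iff_right hp.one_lt).1 h1
    refine ⟨k, hk, ?_, by omega⟩
    by_contra hk2
    refine CfsgLib.FusionEssential.not_isCyclic_of_essential hP ?_
    interval_cases k
    · have := (Nat.card_eq_one_iff_unique.1 (hk.trans (pow_zero p))).1
      exact isCyclic_of_subsingleton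
    · exact isCyclic_of_prime_card (p := p) (hk.trans (pow_one p))
  by_contra hcon
  push Not at hcon
  have hna : ∀ P, F.IsEssential p P → ¬ IsMulCommutative P := by
    intro P hP hc
    obtain ⟨k, hk, hk2, hk4⟩ := hessc P hP
    obtain ⟨hc2, hc3⟩ := hcon P hP hc
    interval_cases k
    exacts [hc2 hk, hc3 hk, h0 P hP.1.1 hc hk]
  set Zs := (Subgroup.center S).map S.subtype with hZs
  have hZsS : Zs ≤ S := Subgroup.map_subtype_le _
  have hZmem : ∀ z, z ∈ Zs ↔ ∃ h : z ∈ S, ∀ g ∈ S, g * z = z * g := by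
    intro z
    constructor
    · rintro ⟨z, hz, rfl⟩
      exact ⟨z.2, fun g hg => congrArg Subtype.val (Subgroup.mem_center_iff.1 hz ⟨g, hg⟩)⟩
    · rintro ⟨h, hz⟩
      exact ⟨⟨z, h⟩, Subgroup.mem_center_iff.2 fun g => Subtype.ext (hz g g.2), rfl⟩
  haveI : Finite Zs := finite_of_le hZsS
  have hSne : Nontrivial S := Finite.one_lt_card_iff_nontrivial.1
    (hcard ▸ Nat.one_lt_pow (by norm_num) hp.one_lt)
  have hZcard : ∃ a, Nat.card Zs = p ^ a ∧ 1 ≤ a := by
    obtain ⟨a, ha⟩ := IsPGroup.iff_card.1 (hS.to_le hZsS)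
    refine ⟨a, ha, Nat.one_le_iff_ne_zero.2 fun h => ?_⟩
    have := hS.center_nontrivial
    have h1 := Finite.one_lt_card_iff_nontrivial.2 this
    rw [← Subgroup.card_map_of_injective S.subtype_injective, ← hZs, ha, h, pow_zero] at h1
    exact lt_irrefl _ h1
  have hle : ∀ P, F.IsEssential p P → Zs ≤ P := fun P hP z hz => by
    obtain ⟨hzS, hz⟩ := (hZmem z).1 hz
    exact centralizerIn_le_of_centric hP.1
      (mem_centralizerIn.2 ⟨hzS, fun y hy => hz y (hP.1.1 hy)⟩)
  suffices hn : F.IsNormal Zs by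
    have hbot : Zs = ⊥ := le_bot_iff.1 (hcore ▸ le_sSup hn)
    obtain ⟨a, ha, ha1⟩ := hZcard
    rw [hbot, Subgroup.card_bot] at ha
    exact (Nat.one_lt_pow (by omega) hp.one_lt).ne ha
  refine CfsgLib.FusionClosed.isNormal_of_invariant hS hF hZsS (fun g hg x hx => ?_) hle ?_
  · obtain ⟨-, hx'⟩ := (hZmem x).1 hx
    rwa [hx' g hg, mul_inv_cancel_right]
  rintro P (rfl | hP) α hα x hx
  · obtain ⟨-, hx'⟩ := (hZmem x).1 hx
    refine (hZmem _).2 ⟨(α x).2, fun g hg => ?_⟩
    obtain ⟨g', hg'⟩ := α.surjective ⟨g, hg⟩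
    have h1 : g' * x = x * g' := Subtype.ext (hx' g' g'.2)
    have h2 := congrArg α h1
    rw [map_mul, map_mul, hg'] at h2
    exact congrArg Subtype.val h2
  · have hPS := hP.1.1
    haveI := finite_of_le hPS
    set ZP := (Subgroup.center P).map P.subtype with hZP
    have hZZ : Zs ≤ ZP := fun z hz => by
      obtain ⟨hzS, hz'⟩ := (hZmem z).1 hz
      exact ⟨⟨z, hle P hP hz⟩, Subgroup.mem_center_iff.2 fun g => Subtype.ext (hz' g (hPS g.2)), rfl⟩
    by_cases heq : ZP = Zs
    · rw [← heq] at hx ⊢
      obtain ⟨x', hx', hxx⟩ := hx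
      rw [show x' = x from Subtype.ext hxx] at hx'
      refine ⟨α x, ?_, rfl⟩
      have := (Subgroup.centerCharacteristic : (Subgroup.center P).Characteristic).fixed α
      exact (this.symm ▸ hx' : x ∈ (Subgroup.center P).comap α.toMonoidHom)
    · obtain ⟨k, hk, hk2, hk4⟩ := hessc P hP
      obtain ⟨a, ha, ha1⟩ := hZcard
      obtain ⟨b, hb⟩ := IsPGroup.iff_card.1 ((hS.to_le hPS).to_subgroup (Subgroup.center P))
      obtain ⟨j, hj⟩ := (hS.to_le hPS).index (Subgroup.center P)
      haveI : Finite ZP := finite_of_le ((Subgroup.map_subtype_le _).trans hPS)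
      have hab : a < b := by
        have h1 := Set.Finite.card_lt_card (Set.toFinite (ZP : Set Ω))
          (show Zs < ZP from lt_of_le_of_ne hZZ (Ne.symm heq))
        rw [show Nat.card (Zs : Set Ω) = p ^ a from ha, show Nat.card (ZP : Set Ω) = p ^ b from
          (Subgroup.card_map_of_injective P.subtype_injective).trans hb] at h1
        exact (Nat.pow_lt_pow_iff_right hp.one_lt).1 h1
      have hj2 : 2 ≤ j := by
        by_contra hj2
        refine hna P hP ?_
        have hq : Nat.card (P ⧸ Subgroup.center P) = p ^ j := by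
          rw [← Subgroup.index_eq_card, hj]
        have hcyc : IsCyclic (P ⧸ Subgroup.center P) := by
          interval_cases j
          · have := (Nat.card_eq_one_iff_unique.1 (hq.trans (pow_zero p))).1
            exact isCyclic_of_subsingleton
          · exact isCyclic_of_prime_card (p := p) (hq.trans (pow_one p))
        exact MonoidHom.isMulCommutative_of_isCyclic_of_ker_le_center
          (QuotientGroup.mk' (Subgroup.center P)) (QuotientGroup.ker_mk' _).le
      have hbjk : b + j = k := Nat.pow_right_injective hp.two_le (by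
        show p ^ (b + j) = p ^ k
        rw [pow_add, ← hb, ← hj, ← hk, Subgroup.card_mul_index])
      obtain ⟨rfl, rfl, rfl⟩ : a = 1 ∧ j = 2 ∧ k = 4 := by omega
      set D := (commutator P).map P.subtype with hD
      have hDcard : Nat.card D = p := by
        rw [hD, Subgroup.card_map_of_injective P.subtype_injective,
          card_commutator_of_index_center hj (hna P hP)]
      have hDS : D ≤ S := (Subgroup.map_subtype_le _).trans hPS
      have hPn : S ≤ Subgroup.normalizer (P : Set Ω) := by
        have hlt := lt_normalizerIn hS (lt_of_le_of_ne hPS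
          (CfsgLib.FusionExtraspecial.ne_self_of_essential hS hF hP))
        haveI := finite_of_le (normalizerIn_le S P)
        have h1 := Set.Finite.card_lt_card (Set.toFinite (normalizerIn S P : Set Ω)) hlt
        obtain ⟨e, he⟩ := IsPGroup.iff_card.1 (hS.to_le (normalizerIn_le S P))
        rw [show Nat.card (P : Set Ω) = p ^ 4 from hk,
          show Nat.card (normalizerIn S P : Set Ω) = p ^ e from he] at h1
        have he5 := (Nat.pow_lt_pow_iff_right hp.one_lt).1 h1
        have h2 : normalizerIn S P = S := Subgroup.eq_of_le_of_card_ge (normalizerIn_le S P) (by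
          rw [he, hcard]; exact Nat.pow_le_pow_right hp.pos (by omega))
        exact h2.ge.trans inf_le_right
      have hDn : S ≤ Subgroup.normalizer (D : Set Ω) := le_normalizer_of_conj hDS <| by
        rintro g hg _ ⟨y, hy, rfl⟩
        have := (Subgroup.commutator_characteristic ⊤ ⊤ : (commutator P).Characteristic).fixed
          (P.normalizerMonoidHom ⟨g, hPn hg⟩)
        exact ⟨_, (this.symm ▸ hy :
          y ∈ (commutator P).comap (P.normalizerMonoidHom ⟨g, hPn hg⟩).toMonoidHom), rfl⟩
      have hDZ : D = Zs := by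
        refine Subgroup.eq_of_le_of_card_ge (fun d hd => (hZmem d).2 ⟨hDS hd, fun g hg => ?_⟩) ?_
        · have h1 := comm_mem_of_index hS (W := ⊥) bot_le hDS
            (fun g _ => Subgroup.mem_normalizer_iff.2 fun y => by simp) hDn
            (by rw [hDcard, Subgroup.card_bot, one_mul]) hg hd
          rw [Subgroup.mem_bot] at h1
          exact commutatorElement_eq_one_iff_mul_comm.1 h1
        · rw [hDcard, ha, pow_one]
      rw [← hDZ] at hx ⊢
      obtain ⟨x', hx', hxx⟩ := hx
      rw [show x' = x from Subtype.ext hxx] at hx'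
      refine ⟨α x, ?_, rfl⟩
      have := (Subgroup.commutator_characteristic ⊤ ⊤ : (commutator P).Characteristic).fixed α
      exact (this.symm ▸ hx' : x ∈ (commutator P).comap α.toMonoidHom)

end CfsgLib.FusionFive
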