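import Cfsg.Agent.FusionFive.Central
import Cfsg.Agent.LocalStructure.YoshidaModule

/-!
# Case `l ≢ 0`: `p = 3` and focal control holds
-/

set_option autoImplicit false
set_option linter.style.haveILetI false
set_option linter.unusedSectionVars false
set_option maxHeartbeats 800000

namespace CfsgLib.FusionFive

open Cfsg Cfsg.FusionSystem CfsgLib.Fusion
open scoped commutatorElement

variable {Ω : Type*} [Group Ω] {S : Subgroup Ω} {F : FusionSystem S} {p : ℕ}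

namespace Frame

section

variable [Fact p.Prime] {G : Type*} [Group G] {N A W : Subgroup G} {u e c g s : G} {m q l v : ℤ}
  (h : Frame p N A W u e c g s m q l v) (hv : c ^ v = 1)
include h hv

theorem sg' : ⁅s, g⁆ = u ^ q := by rw [h.sg, hv, mul_one]

theorem cen_u (i : ℤ) (z : G) : Commute (u ^ i) z := (h.u_cen z).zpow_left i

theorem g_cen_U (z : G) : ⁅g, z⁆ ∈ Subgroup.zpowers u := by
  haveI := h.U_normal
  obtain ⟨k, n, hn, rfl⟩ := h.decomp z
  have h1 : Commute (QuotientGroup.mk' (Subgroup.zpowers u) g)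
      (QuotientGroup.mk' (Subgroup.zpowers u) (s ^ k * n)) := by
    rw [map_mul, map_zpow]
    refine (((commute_mk_of_mem ?_).symm).zpow_right k).mul_right (commute_mk_of_mem ?_)
    · rw [h.sg' hv]; exact zpow_mem (Subgroup.mem_zpowers u) q
    · exact h.NN g (h.hAN h.gA) n hn
  rw [← QuotientGroup.eq_one_iff, ← QuotientGroup.mk'_apply, map_commutatorElement]
  exact comm_eq_one h1

theorem A_cen_U {a : G} (ha : a ∈ A) (z : G) : ⁅a, z⁆ ∈ Subgroup.zpowers u := by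
  haveI := h.U_normal
  obtain ⟨i, w, hw, rfl⟩ := h.decomp_A ha
  obtain ⟨x, y, rfl⟩ := h.decomp_W hw
  rw [← QuotientGroup.eq_one_iff, ← QuotientGroup.mk'_apply, map_commutatorElement]
  refine comm_eq_one ?_
  rw [map_mul, map_mul, map_zpow, map_zpow,
    show QuotientGroup.mk' (Subgroup.zpowers u) (u ^ y) = 1 from
      (QuotientGroup.eq_one_iff _).2 (zpow_mem (Subgroup.mem_zpowers u) y), mul_one]
  exact ((commute_mk_of_mem (h.g_cen_U hv z)).zpow_left i).mul_left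
    ((commute_mk_of_mem (h.c_cen_mod z)).zpow_left x)

theorem mem_A_of_cen {z : G} (hz : ∀ t, ⁅z, t⁆ ∈ Subgroup.zpowers u) : z ∈ A := by
  haveI := h.Wn
  haveI := h.fin
  obtain ⟨k, n, hn, rfl⟩ := h.decomp z
  set π := QuotientGroup.mk' W
  have hse : ⁅π s, π e⁆ = π g := by rw [← map_commutatorElement, h.se]
  have hgc : ∀ z, Commute ⁅π s, π e⁆ z := fun z => by
    obtain ⟨z, rfl⟩ := QuotientGroup.mk'_surjective W z
    rw [hse]
    exact commute_mk_of_mem (h.g_cen_mod z)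
  have hU1 : ∀ {x : G}, x ∈ Subgroup.zpowers u → π x = 1 := fun hx =>
    (QuotientGroup.eq_one_iff _).2 (Subgroup.zpowers_le.2 h.uW hx)
  obtain ⟨k', rfl⟩ : (p : ℤ) ∣ k := by
    refine h.gi_mem ((QuotientGroup.eq_one_iff _).1 ?_)
    show π (g ^ k) = 1
    have h1 := hU1 (hz e)
    rw [map_commutatorElement, map_mul, map_zpow,
      comm_mul_left_eq (commute_mk_of_mem (Subgroup.zpowers_le.2 h.uW (h.NN n hn e h.eN))),
      comm_zpow_left hgc, hse] at h1
    rw [map_zpow]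
    exact h1
  have hzN : s ^ ((p : ℤ) * k') * n ∈ N := by
    rw [zpow_mul, zpow_natCast]; exact mul_mem (zpow_mem h.s_pow_N k') hn
  obtain ⟨j, a, ha, hja⟩ := h.decomp_N hzN
  rw [hja] at hz ⊢
  obtain ⟨j', rfl⟩ : (p : ℤ) ∣ j := by
    refine h.gi_mem ((QuotientGroup.eq_one_iff _).1 ?_)
    show π (g ^ j) = 1
    have h1 := hU1 (inv_mem (hz s))
    obtain ⟨r, w, hw, rfl⟩ := h.decomp_A ha
    rw [commutatorElement_inv, map_commutatorElement, map_mul, map_mul, map_zpow, map_zpow,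
      show π w = 1 from (QuotientGroup.eq_one_iff w).2 hw, mul_one,
      comm_mul_right_eq (((commute_mk_of_mem (h.g_cen_mod s)).symm).zpow_right r),
      comm_zpow_right hgc, hse] at h1
    rw [map_zpow]
    exact h1
  rw [zpow_mul, zpow_natCast, h.e_pow, one_zpow, one_mul]
  exact ha

/-- The pairing with `A`. -/
theorem pairing (k j X Z y : ℤ) {a : G} (ha : a ∈ A) :
    ⁅s ^ k * (e ^ j * a), g ^ X * (c ^ Z * u ^ y)⁆ = u ^ ((k * q - m * j) * X + l * k * Z) := by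
  set n := e ^ j * a with hn
  have hnN : n ∈ N := mul_mem (zpow_mem h.eN j) (h.hAN ha)
  have hag : Commute a g := by
    obtain ⟨i, w, hw, rfl⟩ := h.decomp_A ha
    exact ((Commute.refl g).zpow_left i).mul_left (h.WN w hw g (h.hAN h.gA))
  have hng : ⁅n, g⁆ = u ^ (-(m * j)) := by
    have heg : ⁅e, g⁆ = u ^ (-m) := by rw [← commutatorElement_inv, h.ge, zpow_neg]
    rw [hn, comm_mul_left_eq hag, comm_zpow_left (fun z => by rw [heg]; exact h.cen_u hv _ z), heg,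
      ← zpow_mul, neg_mul]
  have htg : ⁅s ^ k * n, g⁆ = u ^ (k * q - m * j) := by
    rw [comm_mul_left (fun z => by rw [hng]; exact h.cen_u hv _ z), hng,
      comm_zpow_left (fun z => by rw [h.sg' hv]; exact h.cen_u hv _ z), h.sg' hv, ← zpow_mul,
      ← zpow_add]
    congr 1
    ring
  have htc : ⁅s ^ k * n, c⁆ = u ^ (l * k) := by
    rw [comm_mul_left_eq (h.WN c h.cW n hnN).symm,
      comm_zpow_left (fun z => by rw [h.sc]; exact h.cen_u hv _ z), h.sc, ← zpow_mul]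
  have htcZ : ⁅s ^ k * n, c ^ Z * u ^ y⁆ = u ^ (l * k * Z) := by
    rw [comm_mul_right_eq (h.cen_u hv y _).symm,
      comm_zpow_right (fun z => by rw [htc]; exact h.cen_u hv _ z), htc, ← zpow_mul]
  rw [comm_mul_right (fun z => by rw [htcZ]; exact h.cen_u hv _ z), htcZ,
    comm_zpow_right (fun z => by rw [htg]; exact h.cen_u hv _ z), htg, ← zpow_mul, ← zpow_add]

/-- Commutators modulo `⟨u⟩`. -/
theorem comm_mod_U (K₁ J₁ K₂ J₂ : ℤ) {a₁ a₂ : G} (ha₁ : a₁ ∈ A) (ha₂ : a₂ ∈ A) :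
    (g ^ (K₂ * J₁ - J₂ * K₁))⁻¹ * ⁅s ^ K₂ * (e ^ J₂ * a₂), s ^ K₁ * (e ^ J₁ * a₁)⁆ ∈
      Subgroup.zpowers u := by
  haveI := h.U_normal
  set π := QuotientGroup.mk' (Subgroup.zpowers u)
  have hA : ∀ {a : G}, a ∈ A → ∀ z, Commute (π a) z := fun ha z => by
    obtain ⟨z, rfl⟩ := QuotientGroup.mk'_surjective (Subgroup.zpowers u) z
    exact commute_mk_of_mem (h.A_cen_U hv ha z)
  have hse : ⁅π s, π e⁆ = π g := by rw [← map_commutatorElement, h.se]
  have hgc : ∀ z, Commute ⁅π s, π e⁆ z := fun z => by rw [hse]; exact hA h.gA z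
  have hes : ⁅π e, π s⁆ = (π g)⁻¹ := by rw [← commutatorElement_inv, hse]
  have hgc' : ∀ z, Commute ⁅π e, π s⁆ z := fun z => by rw [hes]; exact (hA h.gA z).inv_left
  refine (QuotientGroup.eq_one_iff _).1 ?_
  show π _ = 1
  rw [map_mul, map_inv, inv_mul_eq_one, map_commutatorElement, map_mul, map_mul, map_mul, map_mul,
    map_zpow, map_zpow, map_zpow, map_zpow, map_zpow, ← mul_assoc, ← mul_assoc,
    comm_mul_left_eq (hA ha₂ _), comm_mul_right_eq (hA ha₁ _).symm]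
  have h1 : ⁅π e ^ J₂, π s ^ K₁ * π e ^ J₁⁆ = π g ^ (-(J₂ * K₁)) := by
    rw [comm_mul_right_eq ((Commute.refl _).zpow_zpow J₂ J₁), comm_zpow_zpow hgc', hes, inv_zpow,
      zpow_neg]
  have h2 : ⁅π s ^ K₂, π s ^ K₁ * π e ^ J₁⁆ = π g ^ (K₂ * J₁) := by
    rw [comm_mul_right (fun z => by rw [comm_zpow_zpow hgc, hse]; exact (hA h.gA z).zpow_left _),
      comm_eq_one ((Commute.refl _).zpow_zpow K₂ K₁), one_mul, comm_zpow_zpow hgc, hse]
  rw [comm_mul_left (fun z => by rw [h1]; exact (hA h.gA z).zpow_left _), h1, h2, ← zpow_add,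
    sub_eq_add_neg]

end

variable [Finite S] [Fact p.Prime] {N A W : Subgroup S} {u e c g s : S} {m q l v : ℤ}
  (h : Frame p N A W u e c g s m q l v) (ht : HasTorus F p N A u e c) (hp2 : p ≠ 2)
include h ht hp2

/-- For `p = 3` every automorphism fixes `c` modulo the derived subgroup. -/
theorem aut_c_mod (hp3 : p = 3) (hl : u ^ l ≠ 1) (γ : MulAut S) :
    γ c * c⁻¹ ∈ commutator S := by
  have hv := h.c_pow_v ht hp2
  have hZ := h.center_eq' hl
  have hu : ∀ {z : S}, z ∈ Subgroup.zpowers u → γ z ∈ Subgroup.zpowers u := fun hz =>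
    hZ ▸ apply_mem_center γ (hZ.symm ▸ hz)
  obtain ⟨δ, hδ⟩ := hu (Subgroup.mem_zpowers u)
  have hδ' : γ u = u ^ δ := hδ.symm
  obtain ⟨X, w, hw, hc⟩ := h.decomp_A (h.mem_A_of_cen hv (z := γ c) fun t => by
    obtain ⟨t', rfl⟩ := γ.surjective t
    rw [← map_commutatorElement]
    exact hu (h.c_cen_mod t'))
  obtain ⟨Z, y, rfl⟩ := h.decomp_W hw
  obtain ⟨D, y', hg⟩ := (h.mem_commutator hv).1 (apply_mem_commutator γ h.g_mem_commutator)
  have hg' : γ g = g ^ D * (c ^ (0 : ℤ) * u ^ y') := by rw [zpow_zero, one_mul]; exact hg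
  obtain ⟨K₁, n₁, hn₁, he⟩ := h.decomp (γ e)
  obtain ⟨J₁, a₁, ha₁, rfl⟩ := h.decomp_N hn₁
  obtain ⟨K₂, n₂, hn₂, hs⟩ := h.decomp (γ s)
  obtain ⟨J₂, a₂, ha₂, rfl⟩ := h.decomp_N hn₂
  have q1 : u ^ ((K₁ * q - m * J₁) * X + l * K₁ * Z) = u ^ (0 : ℤ) := by
    rw [← h.pairing hv K₁ J₁ X Z y ha₁, ← he, ← hc, ← map_commutatorElement,
      comm_eq_one (h.WN c h.cW e h.eN).symm, map_one, zpow_zero]
  have q2 : u ^ ((K₂ * q - m * J₂) * X + l * K₂ * Z) = u ^ (δ * l) := by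
    rw [← h.pairing hv K₂ J₂ X Z y ha₂, ← hs, ← hc, ← map_commutatorElement, h.sc, map_zpow, hδ',
      zpow_mul]
  have q3 : u ^ ((K₁ * q - m * J₁) * D + l * K₁ * 0) = u ^ (δ * -m) := by
    rw [← h.pairing hv K₁ J₁ D 0 y' ha₁, ← he, ← hg', ← map_commutatorElement,
      ← commutatorElement_inv, h.ge, map_inv, map_zpow, hδ', zpow_mul, zpow_neg]
  have q4 : u ^ ((K₂ * q - m * J₂) * D + l * K₂ * 0) = u ^ (δ * q) := by
    rw [← h.pairing hv K₂ J₂ D 0 y' ha₂, ← hs, ← hg', ← map_commutatorElement, h.sg' hv, map_zpow,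
      hδ', zpow_mul]
  rw [zpow_eq_zpow_iff h.u_pow h.u_ne] at q1 q2 q3 q4
  push_cast at q1 q2 q3 q4
  have hm0 : (m : ZMod p) ≠ 0 := fun e' => h.hm ((ZMod.intCast_zmod_eq_zero_iff_dvd m p).1 e')
  have hl0 : (l : ZMod p) ≠ 0 := fun e' => hl
    ((zpow_eq_one_iff h.u_pow h.u_ne l).2 ((ZMod.intCast_zmod_eq_zero_iff_dvd l p).1 e'))
  have hδ0 : (δ : ZMod p) ≠ 0 := fun e' => h.u_ne (γ.injective (by
    rw [map_one, hδ', zpow_eq_one_iff h.u_pow h.u_ne, ← ZMod.intCast_zmod_eq_zero_iff_dvd, e']))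
  have hD : (D : ZMod p) = K₂ * J₁ - J₂ * K₁ := by
    haveI := h.U_normal
    have h1 := h.comm_mod_U hv K₁ J₁ K₂ J₂ ha₁ ha₂
    rw [← hs, ← he, ← map_commutatorElement, h.se, hg, ← mul_assoc] at h1
    have h2 := mul_mem h1 (inv_mem (zpow_mem (Subgroup.mem_zpowers u) y'))
    rw [mul_inv_cancel_right, ← zpow_neg, ← zpow_add] at h2
    have h3 := h.gi_mem (Subgroup.zpowers_le.2 h.uW h2)
    rw [← ZMod.intCast_zmod_eq_zero_iff_dvd] at h3
    push_cast at h3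
    linear_combination h3
  have hkey : (Z : ZMod p) * D ^ 2 = δ ^ 2 := by
    have e1 : (m : ZMod p) * l * (Z * D ^ 2 - δ ^ 2) = 0 := by
      rw [pow_two (D : ZMod p)]
      nth_rewrite 2 [hD]
      linear_combination -((K₁ * q - m * J₁) * D : ZMod p) * q2 - (δ : ZMod p) * l * q3
        + ((K₂ * q - m * J₂) * D : ZMod p) * q1
    rcases mul_eq_zero.1 e1 with h5 | h5
    · exact absurd h5 (mul_ne_zero hm0 hl0)
    · exact sub_eq_zero.1 h5
  subst hp3
  have hsq : ∀ a : ZMod 3, a ≠ 0 → a ^ 2 = 1 := fun a ha => ZMod.pow_card_sub_one_eq_one ha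
  have hD0 : (D : ZMod 3) ≠ 0 := fun e' => by
    rw [e'] at hkey
    simp only [ne_eq, OfNat.ofNat_ne_zero, not_false_eq_true, zero_pow, mul_zero] at hkey
    exact hδ0 (eq_zero_of_pow_eq_zero hkey.symm)
  rw [hsq _ hD0, hsq _ hδ0, mul_one] at hkey
  have hcZ : c ^ Z = c := by
    conv_rhs => rw [← zpow_one c]
    rw [zpow_eq_zpow_iff h.c_pow (fun e' => h.cU (e' ▸ one_mem _)), Int.cast_one, hkey]
  rw [hc, hcZ, ← (h.cen_u hv y c).eq, ← mul_assoc, mul_inv_cancel_right]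
  exact mul_mem (zpow_mem h.g_mem_commutator X) (zpow_mem h.u_mem_commutator y)

end Frame

/-- The case `l ≢ 0` contradicts `focal = S`. -/
theorem CubeCtx.false_of_noncentral [Finite S] [Fact p.Prime] {E : Subgroup Ω}
    (hE : CubeCtx F p E) (hfoc : ∀ x : S, (x : Ω) ∈ F.focalSubgroup)
    {N A W : Subgroup S} {u e c g s : S} {m q l v : ℤ}
    (h : Frame p N A W u e c g s m q l v) (ht : HasTorus F p N A u e c) (hl : u ^ l ≠ 1) :
    False := by
  have hp2 := hE.odd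
  have hp3 := (h.l_or_three ht hp2).resolve_left hl
  have hv := h.c_pow_v ht hp2
  have hS := hE.isP
  obtain ⟨M, hM, hfin, ω, u₀, s₀, hs₀, hidx, hu₀⟩ := config_of_fixed hS hE.sat hfoc (commutator S)
    (fun x y => Subgroup.commutator_mem_commutator (Subgroup.mem_top x) (Subgroup.mem_top y))
    (h.pow_mem_commutator ht hp2) (fun α _ x hx => apply_mem_commutator α hx)
    (c := c) (h.c_not_commutator ht hp2) (fun α _ => h.aut_c_mod ht hp2 hp3 hl α)
  obtain ⟨K, hKn, hKc, hKM, -, -, hKω⟩ := exists_kernel hp3 hE.cardS ω u₀ hs₀ hidx hu₀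
  haveI := hKn
  have hKU : Subgroup.zpowers u = K := by
    refine (Subgroup.eq_of_le_of_card_ge ((h.center_eq' hl) ▸ le_center_of_card hS hKc) ?_).symm
    rw [Nat.card_zpowers, orderOf_eq h.u_pow h.u_ne, hKc]
  obtain ⟨hmem, hne⟩ := LocalStructure.Yoshida.iterate_commutator_ne_one ω s₀ hs₀ hidx u₀ hu₀
  refine hne (hKω _ hmem ?_)
  rw [hp3, ← hKU]
  show (fun y : S => y⁻¹ * s₀⁻¹ * y * s₀) ((fun y : S => y⁻¹ * s₀⁻¹ * y * s₀) (u₀ : S)) ∈ _
  have hφ : ∀ y : S, y⁻¹ * s₀⁻¹ * y * s₀ = ⁅y⁻¹, s₀⁻¹⁆ := fun y => by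
    rw [commutatorElement_def, inv_inv, inv_inv]
  simp only [hφ]
  have hy : ⁅(u₀ : S)⁻¹, s₀⁻¹⁆⁻¹ ∈ commutator S :=
    inv_mem (Subgroup.commutator_mem_commutator (Subgroup.mem_top _) (Subgroup.mem_top _))
  refine h.A_cen_U hv ?_ _
  obtain ⟨i, j, hij⟩ := (h.mem_commutator hv).1 hy
  rw [hij]
  exact mul_mem (zpow_mem h.gA i) (zpow_mem (h.hWA h.uW) j)

end CfsgLib.FusionFive
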