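import Cfsg.Agent.FusionFive.Pearl
import Cfsg.Agent.FusionFive.Central
import Cfsg.Agent.FusionFive.NonCentral
import Cfsg.Agent.FusionFive.NoAbelian
import Cfsg.Agent.Fusion.Hyperfocal

/-!
# Order `p ^ 5`, `p ∉ {2, 7}`, trivial core, no residual: an abelian maximal subgroup exists
-/

set_option autoImplicit false
set_option linter.style.haveILetI false

namespace CfsgLib.FusionFive

open Cfsg Cfsg.FusionSystem CfsgLib.Fusion

variable {Ω : Type*} [Group Ω] {S : Subgroup Ω} {F : FusionSystem S} {p : ℕ}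

theorem exists_abelian_index_p [Finite S] [Fact p.Prime] (hS : IsPGroup p S)
    (hF : F.IsSaturated p) (hp2 : p ≠ 2) (hp7 : p ≠ 7) (hcard : Nat.card S = p ^ 5)
    (hcore : F.core = ⊥) (hhyp : F.hyperfocalSubgroup p = S) :
    ∃ A : Subgroup Ω, A ≤ S ∧ IsMulCommutative A ∧ (A.subgroupOf S).index = p := by
  have hp : p.Prime := Fact.out
  by_contra hcon
  have h0 : ∀ A ≤ S, IsMulCommutative A → Nat.card A ≠ p ^ 4 := by
    intro A hA hAc hA4
    refine hcon ⟨A, hA, hAc, ?_⟩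
    have h1 := Subgroup.card_mul_index (A.subgroupOf S)
    rw [Nat.card_congr (Subgroup.subgroupOfEquivOfLe hA).toEquiv, hA4, hcard] at h1
    exact Nat.eq_of_mul_eq_mul_left (pow_pos hp.pos 4) (h1.trans (pow_succ p 4))
  have hfoc : ∀ x : S, (x : Ω) ∈ F.focalSubgroup := fun x => by
    refine hyperfocal_le_focal (p := p) ?_
    rw [hhyp]
    exact x.2
  obtain ⟨E, hE, hEc, hc2 | hc3⟩ := exists_abelian_essential hS hF hcard hcore h0
  · exact false_of_pearl hS hF hp2 hp7 hcard hfoc h0 hE hEc hc2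
  · have h : CubeCtx F p E := ⟨hS, hF, hp2, hcard, h0, hE, hEc, hc3⟩
    obtain ⟨σ, y, hy, hyE, hσF, hσy, hσt, hσgen, hA⟩ := h.exists_sigma
    obtain ⟨τ, hτF, hτ, hne⟩ := h.exists_tau hσF hσt hσgen
    obtain ⟨N, A, W, u, e, c, g, s, m, q, l, v, hf, ht, -, -, -⟩ :=
      h.exists_frame_of_pair hy hyE hσy hσF hτF hσt hτ hne hA
    by_cases hl : u ^ l = 1
    · exact h.false_of_central hcore hf ht hl
    · exact h.false_of_noncentral hfoc hf ht hl

end CfsgLib.FusionFive
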