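import Cfsg.Agent.FusionFive.Calc
import Cfsg.Agent.FusionPearl.Basics
import Cfsg.Agent.PMaxClass.Uniform

/-!
# Maximal class of order `p ^ 5` without abelian maximal subgroup

`Five`: `x` is a uniform element of order `p` with small centraliser, `s₁` spans the two-step
centraliser modulo the third term `Z₃` of the upper series.

* `Five.weights`: an automorphism with `x ↦ x ^ A` modulo the two-step centraliser moves
  `s₁ ↦ s₁ ^ B` modulo `Z₃` with `B = A ^ 2` and `s₄ ↦ s₄ ^ (A ^ 3 * B)`.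
* `Five.false_three`: for `p = 3` no maximal subgroup is elementary abelian modulo the centre.
-/

set_option autoImplicit false
set_option linter.style.haveILetI false
set_option linter.unusedSectionVars false

namespace CfsgLib.FusionFive

open Subgroup CfsgLib.PMaxClass
open scoped commutatorElement

variable {G : Type*} [Group G] {p : ℕ}

/-- The standing hypotheses. -/
structure Five (p : ℕ) (x s₁ : G) : Prop where
  mc : MaxClass G p 5
  xp : x ^ p = 1
  xU : x ∉ Subgroup.upperCentralSeries G 3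
  uni : Uniform G 5 x
  cent : ∀ z ∈ Subgroup.upperCentralSeries G 3, Commute x z → z ∈ Subgroup.upperCentralSeries G 1
  s₁C : ∀ z ∈ Subgroup.upperCentralSeries G 2, Commute s₁ z
  s₁U : s₁ ∉ Subgroup.upperCentralSeries G 3
  nonab : ∀ A : Subgroup G, IsMulCommutative A → Nat.card A ≠ p ^ 4

theorem step {i : ℕ} {y : G} (hy : y ∈ Subgroup.upperCentralSeries G (i + 1)) (t : G) :
    ⁅y, t⁆ ∈ Subgroup.upperCentralSeries G i ∧ ⁅t, y⁆ ∈ Subgroup.upperCentralSeries G i := by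
  have h := Subgroup.mem_upperCentralSeries_succ_iff.1 hy t
  exact ⟨h, by rw [← commutatorElement_inv]; exact inv_mem h⟩

theorem apply_mem_upper (α : MulAut G) {i : ℕ} {y : G} (hy : y ∈ Subgroup.upperCentralSeries G i) :
    α y ∈ Subgroup.upperCentralSeries G i := by
  have h := (inferInstance : (Subgroup.upperCentralSeries G i).Characteristic).fixed α
  exact (h.symm ▸ hy : y ∈ (Subgroup.upperCentralSeries G i).comap α.toMonoidHom)

/-- Commutators modulo a term of the upper series. -/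
theorem comm_mod {i : ℕ} {a b w v : G} (hc : ⁅a, b⁆ ∈ Subgroup.upperCentralSeries G (i + 1))
    (hwb : ⁅w, b⁆ ∈ Subgroup.upperCentralSeries G i) (A B : ℤ)
    (hv : ⁅a ^ A * w, v⁆ ∈ Subgroup.upperCentralSeries G i) :
    (⁅a, b⁆ ^ (A * B))⁻¹ * ⁅a ^ A * w, b ^ B * v⁆ ∈ Subgroup.upperCentralSeries G i := by
  set q := QuotientGroup.mk' (Subgroup.upperCentralSeries G i) with hq
  have h1 : ∀ {y z : G}, ⁅y, z⁆ ∈ Subgroup.upperCentralSeries G i → Commute (q y) (q z) := fun h => by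
    rw [← commutatorElement_eq_one_iff_commute, ← map_commutatorElement]
    exact (QuotientGroup.eq_one_iff _).2 h
  have hcen : ∀ z, Commute ⁅q a, q b⁆ z := fun z => by
    obtain ⟨z, rfl⟩ := QuotientGroup.mk'_surjective (Subgroup.upperCentralSeries G i) z
    rw [← map_commutatorElement]
    exact h1 (step hc z).1
  refine (QuotientGroup.eq_one_iff _).1 ?_
  show q _ = 1
  rw [map_mul, map_inv, inv_mul_eq_one, map_zpow, map_commutatorElement, map_commutatorElement,
    map_mul q (b ^ B), comm_mul_right_eq (h1 hv), map_mul, map_zpow, map_zpow,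
    comm_mul_left_eq ((h1 hwb).zpow_right B), comm_zpow_zpow hcen]

/-- A `p`-th power lands in a normal subgroup of index `p`. -/
theorem pow_mem_of_card {A B : Subgroup G} [A.Normal] [Finite G] [Fact p.Prime] (hAB : A ≤ B)
    (hcard : Nat.card B = Nat.card A * p) {z : G} (hz : z ∈ B) : z ^ p ∈ A := by
  have hidx : (A.subgroupOf B).index = p := by
    have h1 := Subgroup.card_mul_index (A.subgroupOf B)
    rw [Nat.card_congr (Subgroup.subgroupOfEquivOfLe hAB).toEquiv, hcard] at h1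
    exact Nat.eq_of_mul_eq_mul_left Nat.card_pos h1
  have := Subgroup.pow_index_mem (A.subgroupOf B) ⟨z, hz⟩
  rwa [hidx] at this

namespace Five

variable [Fact p.Prime] {x s₁ : G} (h : Five p x s₁)
include h

theorem fin : Finite G := h.mc.finite

theorem upper_four : Subgroup.upperCentralSeries G 4 = ⊤ := h.mc.upper_top (by omega)

theorem comm_three (a b : G) : ⁅a, b⁆ ∈ Subgroup.upperCentralSeries G 3 :=
  h.mc.commutator_mem_upper (by omega) a b

theorem comm_two_three {a b : G} (ha : a ∈ Subgroup.upperCentralSeries G 2)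
    (hb : b ∈ Subgroup.upperCentralSeries G 3) : Commute a b := by
  have h1 := h.mc.commutator_upper_upper (h.mc.upper_top (by omega)) (i := 2) (j := 3) (by omega)
    (commutator_mem_commutator ha hb)
  rw [show 3 + 2 - 5 = 0 from rfl, Subgroup.upperCentralSeries_zero, mem_bot] at h1
  exact commutatorElement_eq_one_iff_commute.1 h1

theorem card_upper' {i : ℕ} (hi : i ≤ 3) : Nat.card (Subgroup.upperCentralSeries G i) = p ^ i :=
  h.mc.card_upper hi

/-- The two-step centraliser is spanned by `s₁` modulo `Z₃`. -/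
theorem decomp_C {g : G} (hg : ∀ z ∈ Subgroup.upperCentralSeries G 2, Commute g z) :
    ∃ (j : ℤ) (v : G), v ∈ Subgroup.upperCentralSeries G 3 ∧ g = s₁ ^ j * v := by
  haveI := h.fin
  have hC : ∀ {y : G}, (∀ z ∈ Subgroup.upperCentralSeries G 2, Commute y z) →
      y ∈ centralizer (Subgroup.upperCentralSeries G 2 : Set G) := fun hy =>
    mem_centralizer_iff.2 fun z hz => (hy z hz).eq.symm
  refine CfsgLib.FusionPearl.exists_pow_mul_of_index h.mc.isPGroup (A := Subgroup.upperCentralSeries G 3)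
    (B := centralizer (Subgroup.upperCentralSeries G 2 : Set G))
    (fun y hy => hC fun z hz => (h.comm_two_three hz hy).symm) ?_ (hC h.s₁C) h.s₁U (hC hg)
  have h1 := card_mul_index (centralizer (Subgroup.upperCentralSeries G 2 : Set G))
  rw [(h.mc.index_centralizer_two (by omega)).1, h.mc.card_eq] at h1
  refine Nat.eq_of_mul_eq_mul_right h.mc.prime.pos (h1.trans ?_)
  rw [h.card_upper' le_rfl]
  ring

theorem not_comm_x : ¬ ∀ z ∈ Subgroup.upperCentralSeries G 2, Commute x z := fun hx => by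
  haveI := h.fin
  have hle : Subgroup.upperCentralSeries G 2 ≤ Subgroup.upperCentralSeries G 1 := fun z hz =>
    h.cent z (Subgroup.upperCentralSeries_mono G (by omega) hz) (hx z hz)
  have h1 := card_le_of_le hle
  rw [h.card_upper' (by omega), h.card_upper' (by omega)] at h1
  have := (Nat.pow_le_pow_iff_right h.mc.prime.one_lt).1 h1
  omega

/-- Every element is a power of `x` times an element of the two-step centraliser. -/
theorem decomp (g : G) :
    ∃ (i : ℤ) (w : G), (∀ z ∈ Subgroup.upperCentralSeries G 2, Commute w z) ∧ g = x ^ i * w := by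
  haveI := h.fin
  have hx : x ∉ centralizer (Subgroup.upperCentralSeries G 2 : Set G) := fun hx => h.not_comm_x fun z hz =>
    (mem_centralizer_iff.1 hx z hz).symm
  obtain ⟨i, w, hw, e⟩ := CfsgLib.FusionPearl.exists_pow_mul_of_index h.mc.isPGroup
    (A := centralizer (Subgroup.upperCentralSeries G 2 : Set G)) (B := ⊤) le_top (by
      rw [← (h.mc.index_centralizer_two (by omega)).1, card_mul_index, card_top])
    (mem_top x) hx (mem_top g)
  exact ⟨i, w, fun z hz => (mem_centralizer_iff.1 hw z hz).symm, e⟩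

theorem comm_C_mem_two {w : G} (hw : ∀ z ∈ Subgroup.upperCentralSeries G 2, Commute w z) :
    ⁅w, s₁⁆ ∈ Subgroup.upperCentralSeries G 2 := by
  obtain ⟨j, v, hv, rfl⟩ := h.decomp_C hw
  have e : ⁅s₁ ^ j * v, s₁⁆ = s₁ ^ j * ⁅v, s₁⁆ * (s₁ ^ j)⁻¹ := by
    simp only [commutatorElement_def]; group
  rw [e]
  exact (inferInstance : (Subgroup.upperCentralSeries G 2).Normal).conj_mem _ (step hv s₁).1 _

theorem s2_mem : ⁅x, s₁⁆ ∈ Subgroup.upperCentralSeries G 3 := h.comm_three _ _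

theorem s2_not : ⁅x, s₁⁆ ∉ Subgroup.upperCentralSeries G 2 := fun hs => h.xU <|
  Subgroup.mem_upperCentralSeries_succ_iff.2 fun t => by
    obtain ⟨i, w, hw, rfl⟩ := h.decomp t
    obtain ⟨j, v, hv, rfl⟩ := h.decomp_C hw
    set q := QuotientGroup.mk' (Subgroup.upperCentralSeries G 2)
    have h1 : ∀ {y z : G}, ⁅y, z⁆ ∈ Subgroup.upperCentralSeries G 2 ↔ Commute (q y) (q z) := by
      intro y z
      rw [← commutatorElement_eq_one_iff_commute, ← map_commutatorElement]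
      exact (QuotientGroup.eq_one_iff _).symm
    rw [h1, map_mul, map_mul, map_zpow, map_zpow]
    exact ((Commute.refl _).zpow_right i).mul_right
      (((h1.1 hs).zpow_right j).mul_right (h1.1 (step hv x).2))

theorem s3_mem : ⁅x, ⁅x, s₁⁆⁆ ∈ Subgroup.upperCentralSeries G 2 := (step h.s2_mem x).2

theorem s3_not : ⁅x, ⁅x, s₁⁆⁆ ∉ Subgroup.upperCentralSeries G 1 := fun hs =>
  h.uni 3 (by omega) (by omega) _ h.s2_mem h.s2_not (by
    rw [← commutatorElement_inv]; exact inv_mem hs)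

theorem s4_mem : ⁅x, ⁅x, ⁅x, s₁⁆⁆⁆ ∈ Subgroup.upperCentralSeries G 1 := (step h.s3_mem x).2

theorem s4_ne : ⁅x, ⁅x, ⁅x, s₁⁆⁆⁆ ≠ 1 := fun hs =>
  h.uni 2 (by omega) (by omega) _ h.s3_mem h.s3_not (by
    rw [← commutatorElement_inv, hs, inv_one]; exact one_mem _)

theorem s4_pow : ⁅x, ⁅x, ⁅x, s₁⁆⁆⁆ ^ p = 1 := by
  have hc : Nat.card (Subgroup.upperCentralSeries G 1) = p := by rw [h.card_upper' (by omega), pow_one]
  have := pow_card_eq_one' (x := (⟨_, h.s4_mem⟩ : Subgroup.upperCentralSeries G 1))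
  rw [hc] at this
  exact congrArg Subtype.val this

theorem exists_zpow {z : G} (hz : z ∈ Subgroup.upperCentralSeries G 1) :
    ∃ t : ℤ, z = ⁅x, ⁅x, ⁅x, s₁⁆⁆⁆ ^ t := by
  haveI := h.fin
  have he : zpowers ⁅x, ⁅x, ⁅x, s₁⁆⁆⁆ = Subgroup.upperCentralSeries G 1 :=
    eq_of_le_of_card_ge (zpowers_le.2 h.s4_mem) (by
      rw [h.card_upper' (by omega), pow_one, Nat.card_zpowers, orderOf_eq h.s4_pow h.s4_ne])
  obtain ⟨t, ht⟩ : z ∈ zpowers ⁅x, ⁅x, ⁅x, s₁⁆⁆⁆ := he.symm ▸ hz
  exact ⟨t, ht.symm⟩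

/-- `Z₃` is abelian. -/
theorem comm_three_three {a b : G} (ha : a ∈ Subgroup.upperCentralSeries G 3)
    (hb : b ∈ Subgroup.upperCentralSeries G 3) : Commute a b := by
  haveI := h.fin
  have key : ∀ {y : G}, y ∈ Subgroup.upperCentralSeries G 3 → ∃ (j : ℤ) (v : G),
      v ∈ Subgroup.upperCentralSeries G 2 ∧ y = ⁅x, s₁⁆ ^ j * v := fun hy =>
    CfsgLib.FusionPearl.exists_pow_mul_of_index h.mc.isPGroup
      (Subgroup.upperCentralSeries_mono G (by omega)) (by
        rw [h.card_upper' le_rfl, h.card_upper' (by omega)]; ring) h.s2_mem h.s2_not hy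
  obtain ⟨i, u, hu, rfl⟩ := key ha
  obtain ⟨j, v, hv, rfl⟩ := key hb
  have hs := h.s2_mem
  exact (((Commute.refl _).zpow_zpow i j).mul_right
    ((h.comm_two_three hv (zpow_mem hs i)).symm)).mul_left
    ((h.comm_two_three hu (zpow_mem hs j)).mul_right
      (h.comm_two_three hu (Subgroup.upperCentralSeries_mono G (by omega) hv)))

theorem d_mem : ⁅s₁, ⁅x, s₁⁆⁆ ∈ Subgroup.upperCentralSeries G 1 := by
  set s₂ := ⁅x, s₁⁆ with hs₂
  set s₃ := ⁅x, s₂⁆ with hs₃
  have hd2 : ⁅s₁, s₂⁆ ∈ Subgroup.upperCentralSeries G 2 := (step h.s2_mem s₁).2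
  refine h.cent _ (Subgroup.upperCentralSeries_mono G (by omega) hd2) ?_
  have h3s : Commute s₃ s₂ := h.comm_two_three h.s3_mem h.s2_mem
  have h3s1 : Commute s₁ s₃ := h.s₁C _ h.s3_mem
  have e1 : x * ⁅s₁, s₂⁆ * x⁻¹ = ⁅s₂ * s₁, s₃ * s₂⁆ := by
    rw [hs₂, hs₃, ← conj_eq, ← conj_eq, ← MulAut.conj_apply, map_commutatorElement]
    rfl
  have e2 : ⁅s₂ * s₁, s₃ * s₂⁆ = ⁅s₁, s₂⁆ := by
    have h5 : Commute (s₂ * s₁) s₃ := h3s.symm.mul_left h3s1
    have e3 : ⁅s₂ * s₁, s₃ * s₂⁆ = ⁅s₂ * s₁, s₃⁆ * (s₃ * ⁅s₂ * s₁, s₂⁆ * s₃⁻¹) := by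
      simp only [commutatorElement_def]; group
    have e4 : ⁅s₂ * s₁, s₂⁆ = s₂ * ⁅s₁, s₂⁆ * s₂⁻¹ := by
      simp only [commutatorElement_def]; group
    rw [e3, comm_eq_one h5, one_mul, e4, ((h.comm_two_three hd2 h.s2_mem).symm).eq,
      mul_inv_cancel_right]
    have h6 : Commute s₃ ⁅s₁, s₂⁆ :=
      h.comm_two_three h.s3_mem (Subgroup.upperCentralSeries_mono G (by omega) hd2)
    rw [h6.eq, mul_inv_cancel_right]
  exact mul_inv_eq_iff_eq_mul.1 (e1.trans e2)

theorem d_ne : ⁅s₁, ⁅x, s₁⁆⁆ ≠ 1 := by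
  intro hd
  haveI := h.fin
  have hs : Commute s₁ ⁅x, s₁⁆ := commutatorElement_eq_one_iff_commute.1 hd
  refine h.nonab (centralizer (Subgroup.upperCentralSeries G 2 : Set G)) ⟨⟨fun a b => ?_⟩⟩ ?_
  · have hs3 : ∀ v ∈ Subgroup.upperCentralSeries G 3, Commute s₁ v := fun v hv => by
      obtain ⟨j, u, hu, rfl⟩ := CfsgLib.FusionPearl.exists_pow_mul_of_index h.mc.isPGroup
        (Subgroup.upperCentralSeries_mono G (show 2 ≤ 3 by omega)) (by
          rw [h.card_upper' le_rfl, h.card_upper' (by omega)]; ring) h.s2_mem h.s2_not hv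
      exact (hs.zpow_right j).mul_right (h.s₁C u hu)
    obtain ⟨i, u, hu, ha⟩ := h.decomp_C fun z hz => (mem_centralizer_iff.1 a.2 z hz).symm
    obtain ⟨j, v, hv, hb⟩ := h.decomp_C fun z hz => (mem_centralizer_iff.1 b.2 z hz).symm
    refine Subtype.ext ?_
    rw [Subgroup.coe_mul, Subgroup.coe_mul, ha, hb]
    exact ((((Commute.refl s₁).zpow_zpow i j).mul_right ((hs3 v hv).zpow_left i)).mul_left
      (((hs3 u hu).symm.zpow_right j).mul_right (h.comm_three_three hu hv))).eq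
  · have h1 := card_mul_index (centralizer (Subgroup.upperCentralSeries G 2 : Set G))
    rw [(h.mc.index_centralizer_two (by omega)).1, h.mc.card_eq] at h1
    exact Nat.eq_of_mul_eq_mul_right h.mc.prime.pos (h1.trans (by ring))

theorem s1_pow_mem : s₁ ^ p ∈ Subgroup.upperCentralSeries G 3 := by
  haveI := h.fin
  have h1 := card_mul_index (centralizer (Subgroup.upperCentralSeries G 2 : Set G))
  rw [(h.mc.index_centralizer_two (by omega)).1, h.mc.card_eq] at h1
  refine pow_mem_of_card (B := centralizer (Subgroup.upperCentralSeries G 2 : Set G))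
    (fun y hy => mem_centralizer_iff.2 fun z hz => (h.comm_two_three hz hy).eq) ?_
    (mem_centralizer_iff.2 fun z hz => (h.s₁C z hz).eq.symm)
  refine Nat.eq_of_mul_eq_mul_right h.mc.prime.pos (h1.trans ?_)
  rw [h.card_upper' le_rfl]
  ring

/-- Elements of the two-step centraliser moving `x` only into the centre lie in `Z₂`. -/
theorem mem_two_of_comm {w : G} (hw : ∀ z ∈ Subgroup.upperCentralSeries G 2, Commute w z)
    (hxw : ⁅x, w⁆ ∈ Subgroup.upperCentralSeries G 1) : w ∈ Subgroup.upperCentralSeries G 2 := by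
  haveI := h.fin
  obtain ⟨j, v, hv, rfl⟩ := h.decomp_C hw
  have hw3 : s₁ ^ j * v ∈ Subgroup.upperCentralSeries G 3 := by
    by_cases hj : (p : ℤ) ∣ j
    · obtain ⟨m, rfl⟩ := hj
      rw [zpow_mul, zpow_natCast]
      exact mul_mem (zpow_mem h.s1_pow_mem m) hv
    · exfalso
      have h2 := comm_mod (i := 2) (a := x) (b := s₁) (w := 1) h.s2_mem
        (by rw [commutatorElement_one_left]; exact one_mem _) 1 j (step hv _).2
      rw [zpow_one, mul_one, one_mul] at h2
      have h3 := mul_mem (Subgroup.upperCentralSeries_mono G (show 1 ≤ 2 by omega) hxw) (inv_mem h2)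
      rw [mul_inv_rev, inv_inv, mul_inv_cancel_left] at h3
      exact h.s2_not (mem_of_zpow_mem (pow_mem_of_card (Subgroup.upperCentralSeries_mono G (by omega))
        (by rw [h.card_upper' le_rfl, h.card_upper' (by omega)]; ring) h.s2_mem) hj h3)
  obtain ⟨k, u, hu, e⟩ := CfsgLib.FusionPearl.exists_pow_mul_of_index h.mc.isPGroup
    (Subgroup.upperCentralSeries_mono G (show 2 ≤ 3 by omega)) (by
      rw [h.card_upper' le_rfl, h.card_upper' (by omega)]; ring) h.s2_mem h.s2_not hw3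
  rw [e] at hxw ⊢
  by_cases hk : (p : ℤ) ∣ k
  · obtain ⟨m, rfl⟩ := hk
    rw [zpow_mul, zpow_natCast]
    exact mul_mem (zpow_mem (pow_mem_of_card (Subgroup.upperCentralSeries_mono G (by omega))
      (by rw [h.card_upper' le_rfl, h.card_upper' (by omega)]; ring) h.s2_mem) m) hu
  · exfalso
    have h2 := comm_mod (i := 1) (a := x) (b := ⁅x, s₁⁆) (w := 1) h.s3_mem
      (by rw [commutatorElement_one_left]; exact one_mem _) 1 k (step hu _).2
    rw [zpow_one, mul_one, one_mul] at h2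
    have h3 := mul_mem hxw (inv_mem h2)
    rw [mul_inv_rev, inv_inv, mul_inv_cancel_left] at h3
    exact h.s3_not (mem_of_zpow_mem (pow_mem_of_card (Subgroup.upperCentralSeries_mono G (by omega))
      (by rw [h.card_upper' (by omega), h.card_upper' (by omega)]; ring) h.s3_mem) hk h3)

/-- The weights of an automorphism. -/
theorem weights (α : MulAut G) {A : ℤ} {w : G} (hw : ∀ z ∈ Subgroup.upperCentralSeries G 2, Commute w z)
    (hαx : α x = x ^ A * w) :
    ∃ B : ℤ, (B : ZMod p) = (A : ZMod p) ^ 2 ∧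
      (s₁ ^ B)⁻¹ * α s₁ ∈ Subgroup.upperCentralSeries G 3 ∧
      α ⁅x, ⁅x, ⁅x, s₁⁆⁆⁆ = ⁅x, ⁅x, ⁅x, s₁⁆⁆⁆ ^ (A ^ 3 * B) := by
  set s₂ := ⁅x, s₁⁆ with hs₂
  set s₃ := ⁅x, s₂⁆ with hs₃
  set s₄ := ⁅x, s₃⁆ with hs₄
  have hαC : ∀ z ∈ Subgroup.upperCentralSeries G 2, Commute (α s₁) z := fun z hz => by
    have h1 := (h.s₁C _ (apply_mem_upper α⁻¹ hz)).map α
    rwa [MulAut.apply_inv_self] at h1
  obtain ⟨B, v, hv, hαs⟩ := h.decomp_C hαC
  have hd2 : ⁅s₁, s₂⁆ ∈ Subgroup.upperCentralSeries G 1 := h.d_mem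
  -- `s₂`
  have k2 : (s₂ ^ (A * B))⁻¹ * α s₂ ∈ Subgroup.upperCentralSeries G 2 := by
    rw [hs₂, map_commutatorElement, hαx, hαs]
    exact comm_mod h.s2_mem (h.comm_C_mem_two hw) A B (step hv _).2
  -- `s₃`
  have hws : ⁅w, s₂⁆ ∈ Subgroup.upperCentralSeries G 1 := by
    obtain ⟨j, u, hu, rfl⟩ := h.decomp_C hw
    rw [comm_mul_left_eq (h.comm_three_three hu h.s2_mem)]
    have h1 : ∀ z, Commute ⁅s₁, s₂⁆ z := fun z => by
      have := (step hd2 z).1
      rw [Subgroup.upperCentralSeries_zero, mem_bot] at this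
      exact commutatorElement_eq_one_iff_commute.1 this
    rw [comm_zpow_left h1]
    exact zpow_mem hd2 j
  have k3 : (s₃ ^ (A * (A * B)))⁻¹ * α s₃ ∈ Subgroup.upperCentralSeries G 1 := by
    have e : α s₃ = ⁅x ^ A * w, s₂ ^ (A * B) * ((s₂ ^ (A * B))⁻¹ * α s₂)⁆ := by
      rw [hs₃, map_commutatorElement, hαx, mul_inv_cancel_left]
    rw [e]
    exact comm_mod h.s3_mem hws A (A * B) (step k2 _).2
  -- `s₄`
  have k4 : α s₄ = s₄ ^ (A * (A * (A * B))) := by
    have e : α s₄ = ⁅x ^ A * w, s₃ ^ (A * (A * B)) * ((s₃ ^ (A * (A * B)))⁻¹ * α s₃)⁆ := by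
      rw [hs₄, map_commutatorElement, hαx, mul_inv_cancel_left]
    have h1 := comm_mod (i := 0) h.s4_mem
      (by rw [comm_eq_one (hw _ h.s3_mem)]; exact one_mem _) A (A * (A * B)) (step k3 (x ^ A * w)).2
    rw [Subgroup.upperCentralSeries_zero, mem_bot, inv_mul_eq_one] at h1
    rw [e]
    exact h1.symm
  -- `d`
  have kd : α ⁅s₁, s₂⁆ = ⁅s₁, s₂⁆ ^ (B * (A * B)) := by
    have e : α ⁅s₁, s₂⁆ = ⁅s₁ ^ B * v, s₂ ^ (A * B) * ((s₂ ^ (A * B))⁻¹ * α s₂)⁆ := by
      rw [map_commutatorElement, hαs, mul_inv_cancel_left]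
    have hc : Commute (s₁ ^ B * v) ((s₂ ^ (A * B))⁻¹ * α s₂) :=
      ((h.s₁C _ k2).zpow_left B).mul_left (h.comm_two_three k2 hv).symm
    have h1 := comm_mod (i := 0) (a := s₁) (b := s₂) hd2
      (by rw [comm_eq_one (h.comm_three_three hv h.s2_mem)]; exact one_mem _) B (A * B)
      (by rw [comm_eq_one hc]; exact one_mem _)
    rw [Subgroup.upperCentralSeries_zero, mem_bot, inv_mul_eq_one] at h1
    rw [e]
    exact h1.symm
  obtain ⟨t, ht⟩ := h.exists_zpow h.d_mem
  rw [← hs₂, ← hs₃, ← hs₄] at ht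
  have hs4p : s₄ ^ p = 1 := h.s4_pow
  have hs4 : s₄ ≠ 1 := h.s4_ne
  have heq : s₄ ^ (A * (A * (A * B)) * t) = s₄ ^ (t * (B * (A * B))) := by
    rw [zpow_mul, ← k4, ← map_zpow, ← ht, kd, ht, ← zpow_mul]
  rw [zpow_eq_zpow_iff hs4p hs4] at heq
  push_cast at heq
  have ht0 : (t : ZMod p) ≠ 0 := fun e => h.d_ne (by
    rw [← hs₂, ht, ← zpow_zero s₄, zpow_eq_zpow_iff hs4p hs4, e, Int.cast_zero])
  have h40 : ((A * (A * (A * B)) : ℤ) : ZMod p) ≠ 0 := fun e => hs4 (α.injective (by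
    rw [map_one, k4, ← zpow_zero s₄, zpow_eq_zpow_iff hs4p hs4, e, Int.cast_zero]))
  push_cast at h40
  simp only [mul_ne_zero_iff] at h40
  refine ⟨B, ?_, ?_, ?_⟩
  · have h5 : ((A : ZMod p) * t * B) * ((A : ZMod p) ^ 2 - B) = 0 := by linear_combination heq
    rcases mul_eq_zero.1 h5 with h6 | h6
    · exact absurd h6 (mul_ne_zero (mul_ne_zero h40.1 ht0) h40.2.2.2)
    · exact (sub_eq_zero.1 h6).symm
  · rw [hαs, inv_mul_cancel_left]
    exact hv
  · rw [k4]
    congr 1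
    ring

/-- For `p = 3` no maximal subgroup is elementary abelian modulo the centre. -/
theorem false_three (hp3 : p = 3) {M : Subgroup G} [M.Normal] (hM : M.index = p)
    (hMc : ∀ a ∈ M, ∀ b ∈ M, ⁅a, b⁆ ∈ Subgroup.upperCentralSeries G 1)
    (hMp : ∀ a ∈ M, a ^ p ∈ Subgroup.upperCentralSeries G 1) : False := by
  haveI := h.fin
  have hp := h.mc.prime
  have hcomm : ∀ a b : G, ⁅a, b⁆ ∈ M := by
    intro a b
    haveI : IsCyclic (G ⧸ M) := isCyclic_of_prime_card (p := p)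
      (by rw [← Subgroup.index_eq_card, hM])
    rw [← QuotientGroup.eq_one_iff, ← QuotientGroup.mk'_apply, map_commutatorElement,
      commutatorElement_eq_one_iff_commute]
    exact IsMulCommutative.is_comm.comm _ _
  set s₂ := ⁅x, s₁⁆ with hs₂
  set s₃ := ⁅x, s₂⁆ with hs₃
  set s₄ := ⁅x, s₃⁆ with hs₄
  have hs4M : s₄ ∈ M := hcomm _ _
  have hU3 : Subgroup.upperCentralSeries G 3 ≤ M := by
    intro z hz
    obtain ⟨j, u, hu, rfl⟩ := CfsgLib.FusionPearl.exists_pow_mul_of_index h.mc.isPGroup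
      (Subgroup.upperCentralSeries_mono G (show 2 ≤ 3 by omega)) (by
        rw [h.card_upper' le_rfl, h.card_upper' (by omega)]; ring) h.s2_mem h.s2_not hz
    obtain ⟨i, r, hr, rfl⟩ := CfsgLib.FusionPearl.exists_pow_mul_of_index h.mc.isPGroup
      (Subgroup.upperCentralSeries_mono G (show 1 ≤ 2 by omega)) (by
        rw [h.card_upper' (by omega), h.card_upper' (by omega)]; ring) h.s3_mem h.s3_not hu
    obtain ⟨t, rfl⟩ := h.exists_zpow hr
    exact mul_mem (zpow_mem (hcomm _ _) j) (mul_mem (zpow_mem (hcomm _ _) i) (zpow_mem hs4M t))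
  obtain ⟨k, hkM, hkU⟩ : ∃ k ∈ M, k ∉ Subgroup.upperCentralSeries G 3 := by
    by_contra hc
    push Not at hc
    have h1 := card_le_of_le (show M ≤ Subgroup.upperCentralSeries G 3 from hc)
    have h2 := card_mul_index M
    rw [hM, h.mc.card_eq] at h2
    rw [h.card_upper' le_rfl] at h1
    have h3 := Nat.mul_le_mul_right p h1
    rw [h2, ← pow_succ] at h3
    have := (Nat.pow_le_pow_iff_right hp.one_lt).1 h3
    omega
  obtain ⟨i, c, hc, rfl⟩ := h.decomp k
  have hd1 : ∀ z, Commute ⁅s₁, s₂⁆ z := fun z => by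
    have := (step h.d_mem z).1
    rw [Subgroup.upperCentralSeries_zero, mem_bot] at this
    exact commutatorElement_eq_one_iff_commute.1 this
  obtain ⟨j, v, hv, rfl⟩ := h.decomp_C hc
  have hi : (p : ℤ) ∣ i := by
    by_contra hi
    refine h.s3_not (mem_of_zpow_mem (hMp _ (hcomm _ _)) hi ?_)
    have h1 := comm_mod (i := 1) (a := x) (b := s₂) (w := s₁ ^ j * v) (v := 1) h.s3_mem (by
      rw [comm_mul_left_eq (h.comm_three_three hv h.s2_mem), comm_zpow_left hd1]
      exact zpow_mem h.d_mem j) i 1 (by rw [commutatorElement_one_right]; exact one_mem _)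
    rw [mul_one, zpow_one, mul_one, ← hs₃] at h1
    have h2 := hMc _ hkM s₂ (hcomm _ _)
    have h3 := mul_mem h2 (inv_mem h1)
    rwa [mul_inv_rev, inv_inv, mul_inv_cancel_left] at h3
  obtain ⟨l, rfl⟩ := hi
  rw [zpow_mul, zpow_natCast, h.xp, one_zpow, one_mul] at hkM hkU
  have hs1M : s₁ ∈ M := by
    have hsj : s₁ ^ j ∈ M := by simpa using mul_mem hkM (inv_mem (hU3 hv))
    have hs1p : s₁ ^ p ∈ Subgroup.upperCentralSeries G 3 := by
      have h1 := card_mul_index (centralizer (Subgroup.upperCentralSeries G 2 : Set G))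
      rw [(h.mc.index_centralizer_two (by omega)).1, h.mc.card_eq] at h1
      refine pow_mem_of_card (B := centralizer (Subgroup.upperCentralSeries G 2 : Set G))
        (fun y hy => mem_centralizer_iff.2 fun z hz => (h.comm_two_three hz hy).eq) ?_
        (mem_centralizer_iff.2 fun z hz => (h.s₁C z hz).eq.symm)
      refine Nat.eq_of_mul_eq_mul_right hp.pos (h1.trans ?_)
      rw [h.card_upper' le_rfl]
      ring
    refine mem_of_zpow_mem (hU3 hs1p) (fun hj => hkU ?_) hsj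
    obtain ⟨m, rfl⟩ := hj
    rw [zpow_mul, zpow_natCast]
    exact mul_mem (zpow_mem hs1p m) hv
  subst hp3
  have hz1 : s₁ ^ 3 ∈ Subgroup.upperCentralSeries G 1 := hMp _ hs1M
  have hcen : ∀ {y : G}, y ∈ Subgroup.upperCentralSeries G 1 → ∀ g, Commute g y := fun hy g =>
    Subgroup.mem_center_iff.1 (Subgroup.upperCentralSeries_one G ▸ hy) g
  set φ := (MulAut.conj x).toMonoidHom with hφ
  have f1 : φ s₁ = s₂ * s₁ := conj_eq x s₁
  have f2 : φ s₂ = s₃ * s₂ := conj_eq x s₂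
  have f3 : φ s₃ = s₄ * s₃ := conj_eq x s₃
  have f4 : ∀ y ∈ Subgroup.upperCentralSeries G 1, φ y = y := fun y hy => by
    show x * y * x⁻¹ = y
    rw [(hcen hy x).eq, mul_inv_cancel_right]
  have hdp : ⁅s₁, s₂⁆ ^ 3 = 1 := by
    obtain ⟨t, ht⟩ := h.exists_zpow h.d_mem
    rw [← hs₂, ← hs₃, ← hs₄] at ht
    rw [ht, ← zpow_natCast, ← zpow_mul, mul_comm, zpow_mul, zpow_natCast, h.s4_pow, one_zpow]
  have hs23 : s₂ ^ 3 = 1 := by
    have h1 : φ (s₁ ^ 3) = s₁ ^ 3 := f4 _ hz1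
    rw [map_pow, f1, mul_pow_prime Nat.prime_three (by norm_num) hd1 hdp] at h1
    exact mul_eq_right.1 h1
  have h32 : Commute s₃ s₂ := h.comm_two_three h.s3_mem h.s2_mem
  have hs33 : s₃ ^ 3 = 1 := by
    have h1 : φ (s₂ ^ 3) = s₂ ^ 3 := by rw [hs23, map_one]
    rw [map_pow, f2, h32.mul_pow, hs23, mul_one] at h1
    exact h1
  have h3 : φ (φ (φ s₁)) = s₁ := by
    show x * (x * (x * s₁ * x⁻¹) * x⁻¹) * x⁻¹ = s₁
    calc x * (x * (x * s₁ * x⁻¹) * x⁻¹) * x⁻¹ = x ^ 3 * s₁ * (x ^ 3)⁻¹ := by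
            simp only [pow_succ, pow_zero, one_mul, mul_inv_rev, mul_assoc]
      _ = s₁ := by rw [h.xp]; group
  have h4 : φ (φ (φ s₁)) = s₄ * (s₃ ^ 3 * s₂ ^ 3) * s₁ := by
    rw [f1, map_mul, f2, f1, map_mul, map_mul, map_mul, f3, f2, f1]
    have e : s₃ * s₂ * (s₃ * s₂) = s₃ ^ 2 * s₂ ^ 2 := by
      rw [pow_two, pow_two, mul_assoc, ← mul_assoc s₂, ← h32.eq]
      group
    calc s₄ * s₃ * (s₃ * s₂) * (s₃ * s₂ * (s₂ * s₁))
        = s₄ * s₃ * (s₃ * s₂ * (s₃ * s₂)) * (s₂ * s₁) := by group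
      _ = s₄ * (s₃ ^ 3 * s₂ ^ 3) * s₁ := by rw [e]; group
  rw [hs33, hs23, mul_one, mul_one, h3] at h4
  exact h.s4_ne (mul_eq_right.1 h4.symm)

end Five

end CfsgLib.FusionFive
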