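import Cfsg.Agent.FusionFive.PearlTower
import Cfsg.Agent.FusionFive.Kernel

/-!
# Order `p ^ 5`: no abelian pearl without abelian maximal subgroup, `p ≠ 7`
-/

set_option autoImplicit false
set_option linter.style.haveILetI false
set_option maxHeartbeats 800000

namespace CfsgLib.FusionFive

open Cfsg Cfsg.FusionSystem CfsgLib.Fusion CfsgLib.PMaxClass
open scoped commutatorElement

variable {Ω : Type*} [Group Ω] {S : Subgroup Ω} {F : FusionSystem S} {p : ℕ}

theorem exists_pearlCtx [Finite S] [Fact p.Prime] (hS : IsPGroup p S) (hF : F.IsSaturated p)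
    (hp2 : p ≠ 2) (hcard : Nat.card S = p ^ 5)
    (h0 : ∀ A ≤ S, IsMulCommutative A → Nat.card A ≠ p ^ 4)
    {E : Subgroup Ω} (hE : F.IsEssential p E) (hc : IsMulCommutative E)
    (hEc : Nat.card E = p ^ 2) : ∃ x s₁ : S, PearlCtx F p E x s₁ := by
  have hp : p.Prime := Fact.out
  have hES := hE.1.1
  have := finite_of_le hES
  haveI := hc
  have hexp : ∀ e : E, e ^ p = 1 := fun e => by
    obtain ⟨k, hk2, hk⟩ := (Nat.dvd_prime_pow hp).1 (hEc ▸ orderOf_dvd_natCard e)
    rcases k with _ | _ | k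
    · rw [orderOf_eq_one_iff.1 (hk.trans (pow_zero p)), one_pow]
    · exact orderOf_dvd_iff_pow_eq_one.1 (by rw [hk, pow_one])
    · obtain rfl : k = 0 := by omega
      refine absurd ⟨⟨e, fun u => ?_⟩⟩ (CfsgLib.FusionEssential.not_isCyclic_of_essential hE)
      have : Subgroup.zpowers e = ⊤ := Subgroup.eq_top_of_card_eq _
        (by rw [Nat.card_zpowers, hk, hEc])
      rw [← Subgroup.mem_zpowers_iff, this]
      exact Subgroup.mem_top u
  obtain ⟨-, hmc, x, hxE, hxp, hxc, hxU, huni⟩ := exists_pearl_element hS hF hp2 hE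
    (Or.inl ⟨hEc, fun e he => ⟨by simpa using congrArg Subtype.val (hexp ⟨e, he⟩), hc⟩⟩) hcard
  set K := E.subgroupOf S
  have hK : K = Subgroup.centralizer ({x} : Set S) := by
    refine Subgroup.eq_of_le_of_card_ge (fun g hg => Subgroup.mem_centralizer_singleton_iff.2
      (Subtype.ext (congrArg Subtype.val (mul_comm' (⟨g, hg⟩ : E) ⟨x, hxE⟩) :))) ?_
    rw [hxc, Nat.card_congr (Subgroup.subgroupOfEquivOfLe hES).toEquiv, hEc]
  have hmem : ∀ g : S, (g : Ω) ∈ E ↔ Commute g x := fun g => by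
    show g ∈ K ↔ _
    rw [hK, Subgroup.mem_centralizer_singleton_iff]
    exact Iff.rfl
  set U := Subgroup.upperCentralSeries S
  obtain ⟨hi2, -⟩ := hmc.index_centralizer_two (by omega)
  obtain ⟨s₁, hs₁, hs₁U⟩ : ∃ s ∈ Subgroup.centralizer (U 2 : Set S), s ∉ U 3 := by
    by_contra hcon
    push Not at hcon
    have h1 := Subgroup.card_le_of_le (show Subgroup.centralizer (U 2 : Set S) ≤ U 3 from hcon)
    have h2 := Subgroup.card_mul_index (Subgroup.centralizer (U 2 : Set S))
    rw [hi2, hcard] at h2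
    rw [hmc.card_upper (by omega)] at h1
    have h3 := Nat.mul_le_mul_right p h1
    rw [h2, ← pow_succ] at h3
    have := (Nat.pow_le_pow_iff_right hp.one_lt).1 h3
    omega
  refine ⟨x, s₁, hS, hF, ⟨hmc, hxp, hxU, huni, fun z hz hxz => ?_,
    fun z hz => (Subgroup.mem_centralizer_iff.1 hs₁ z hz).symm, hs₁U, fun A hA hAc => ?_⟩,
    hE, hc, hEc, hmem⟩
  · set C := Subgroup.centralizer ({x} : Set S)
    have hlt := Set.Finite.card_lt_card (Set.toFinite (C : Set S)) (show C ⊓ U 3 < C from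
      lt_of_le_of_ne inf_le_left fun e => hxU
        (Subgroup.mem_inf.1 (e.ge (Subgroup.mem_centralizer_singleton_iff.2 rfl))).2)
    have hle : U 1 ≤ C ⊓ U 3 := le_inf (fun w hw => Subgroup.mem_centralizer_singleton_iff.2
      (Subgroup.mem_center_iff.1 (Subgroup.upperCentralSeries_one S ▸ hw) x).symm)
      (Subgroup.upperCentralSeries_mono S (by omega))
    obtain ⟨k, hk⟩ := IsPGroup.iff_card.1 (hS.to_subgroup (C ⊓ U 3))
    rw [show Nat.card ((C ⊓ U 3 : Subgroup S) : Set S) = p ^ k from hk,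
      show Nat.card (C : Set S) = p ^ 2 from hxc] at hlt
    have hk2 := (Nat.pow_lt_pow_iff_right hp.one_lt).1 hlt
    have heq : U 1 = C ⊓ U 3 := Subgroup.eq_of_le_of_card_ge hle (by
      rw [hk, hmc.card_upper (by omega)]
      exact Nat.pow_le_pow_right hp.pos (by omega))
    exact heq.ge ⟨Subgroup.mem_centralizer_singleton_iff.2 hxz.eq.symm, hz⟩
  · haveI := hA
    refine h0 (A.map S.subtype) (Subgroup.map_subtype_le _) inferInstance ?_
    rw [Subgroup.card_map_of_injective S.subtype_injective, hAc]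

theorem false_of_pearl [Finite S] [Fact p.Prime] (hS : IsPGroup p S) (hF : F.IsSaturated p)
    (hp2 : p ≠ 2) (hp7 : p ≠ 7) (hcard : Nat.card S = p ^ 5)
    (hfoc : ∀ x : S, (x : Ω) ∈ F.focalSubgroup)
    (h0 : ∀ A ≤ S, IsMulCommutative A → Nat.card A ≠ p ^ 4)
    {E : Subgroup Ω} (hE : F.IsEssential p E) (hc : IsMulCommutative E)
    (hEc : Nat.card E = p ^ 2) : False := by
  have hp : p.Prime := Fact.out
  obtain ⟨x, s₁, h⟩ := exists_pearlCtx hS hF hp2 hcard h0 hE hc hEc
  have h5 := h.five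
  have hs4 := h5.s4_pow
  have hs4' := h5.s4_ne
  by_cases hp3 : p = 3
  · haveI : (Subgroup.upperCentralSeries S 3).Normal := inferInstance
    have hfix : ∀ α ∈ F.autGroup S, α s₁ * s₁⁻¹ ∈ Subgroup.upperCentralSeries S 3 := fun α hα => by
      obtain ⟨A, w, hw, hαx⟩ := h5.decomp (α x)
      obtain ⟨B, hB, hαs, hα4⟩ := h5.weights α hw hαx
      subst hp3
      have hA : (A : ZMod 3) ≠ 0 := fun e => hs4' (α.injective (by
        rw [map_one, hα4, ← zpow_zero ⁅x, ⁅x, ⁅x, s₁⁆⁆⁆, zpow_eq_zpow_iff hs4 hs4']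
        push_cast
        rw [e]
        ring))
      have hB1 : ((B : ℤ) : ZMod 3) = ((1 : ℤ) : ZMod 3) := by
        rw [hB, Int.cast_one]
        exact ZMod.pow_card_sub_one_eq_one hA
      rw [ZMod.intCast_eq_intCast_iff, Int.modEq_iff_dvd] at hB1
      obtain ⟨m, hm⟩ := hB1
      have hs13 := zpow_mem h5.s1_pow_mem (-m)
      have e : s₁ ^ B = s₁ * (s₁ ^ 3) ^ (-m) := by
        rw [← zpow_natCast s₁ 3, ← zpow_mul, ← zpow_one_add]
        congr 1
        push_cast at hm ⊢
        linarith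
      have h1 : α s₁ = s₁ ^ B * ((s₁ ^ B)⁻¹ * α s₁) := by group
      rw [h1, e, mul_assoc s₁]
      exact (inferInstance : (Subgroup.upperCentralSeries S 3).Normal).conj_mem _
        (mul_mem hs13 (e ▸ hαs)) s₁
    obtain ⟨M, hM, hfin, ω, u, t, ht, hidx, hu⟩ := config_of_fixed hS hF hfoc
      (Subgroup.upperCentralSeries S 3) h5.comm_three
      (fun g => coe_mem_zTerm.1 (h5.mc.pow_p_mem_top (by omega) g.2))
      (fun α _ g hg => apply_mem_upper α hg) (c := s₁) h5.s₁U hfix
    obtain ⟨K, hKn, hKc, -, hKcomm, hKpow, -⟩ :=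
      exists_kernel hp3 h5.mc.card_eq ω u ht hidx hu
    haveI := hKn
    have hKZ : K ≤ Subgroup.upperCentralSeries S 1 := by
      rw [Subgroup.upperCentralSeries_one]
      exact le_center_of_card hS hKc
    exact h5.false_three hp3 hidx (fun a ha b hb => hKZ (hKcomm a ha b hb))
      (fun a ha => hKZ (hKpow a ha))
  · have hp2' : (2 : ZMod p) ≠ 0 := fun e => hp2 ((Nat.prime_dvd_prime_iff_eq hp Nat.prime_two).1
      ((ZMod.natCast_eq_zero_iff 2 p).1 (by simpa using e)))
    set a : ℤ := (((2 : ZMod p)⁻¹).val : ℤ) with ha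
    have haz : (a : ZMod p) = (2 : ZMod p)⁻¹ := by
      rw [ha, Int.cast_natCast, ZMod.natCast_zmod_val]
    have hab : (p : ℤ) ∣ a * 2 - 1 := by
      rw [← ZMod.intCast_zmod_eq_zero_iff_dvd]
      push_cast
      rw [haz, inv_mul_cancel₀ hp2', sub_self]
    obtain ⟨β, w, hβ, hw, hβx, hβz⟩ := h.exists_torus_aut hab
    obtain ⟨B, hB, -, hβ4⟩ := h5.weights β (A := 2) (w := w) (fun z _ =>
      (Subgroup.mem_center_iff.1 (Subgroup.upperCentralSeries_one S ▸ hw) z).symm) hβx
    rw [hβz _ h5.s4_mem, zpow_eq_zpow_iff hs4 hs4', haz] at hβ4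
    push_cast at hβ4 hB
    rw [hB] at hβ4
    have h63 : ((63 : ℕ) : ZMod p) = 0 := by
      have h1 : (2 : ZMod p) * (8 * 2 ^ 2 ^ 1) = 1 := by
        have h2 := congrArg (fun v => (2 : ZMod p) * v) hβ4
        simp only [mul_inv_cancel₀ hp2'] at h2
        linear_combination -h2
      push_cast
      linear_combination h1
    rw [ZMod.natCast_eq_zero_iff, show (63 : ℕ) = 3 ^ 2 * 7 by norm_num, hp.dvd_mul] at h63
    rcases h63 with h63 | h63
    · exact hp3 ((Nat.prime_dvd_prime_iff_eq hp Nat.prime_three).1 (hp.dvd_of_dvd_pow h63))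
    · exact hp7 ((Nat.prime_dvd_prime_iff_eq hp (by norm_num)).1 h63)

end CfsgLib.FusionFive
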