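import Cfsg.Agent.FusionFive.Basic
import Cfsg.Agent.FusionFive.MaxFive
import Cfsg.Agent.PMaxClass.Pearl
import Cfsg.Agent.FusionClosed.AbelianEssential
import Cfsg.Agent.FusionPearl.Linear

/-!
# Order `p ^ 5` with an abelian pearl: the torus extends to `S`

`exists_torus_aut`: some automorphism of `S` in the system maps `x ↦ x ^ b` modulo the centre and
acts on the centre as `a`, whenever `a * b ≡ 1`.
-/

set_option autoImplicit false
set_option linter.style.haveILetI false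
set_option linter.unusedSectionVars false
set_option maxHeartbeats 800000

namespace CfsgLib.FusionFive

open Cfsg Cfsg.FusionSystem CfsgLib.Fusion CfsgLib.PMaxClass CfsgLib.FusionPearl
open scoped commutatorElement Pointwise

attribute [local instance] CfsgLib.FusionClosed.commGroupOf

variable {Ω : Type*} [Group Ω] {S : Subgroup Ω} {F : FusionSystem S} {p : ℕ}

/-- An abelian pearl, with the data of maximal class. -/
structure PearlCtx (F : FusionSystem S) (p : ℕ) (E : Subgroup Ω) (x s₁ : S) : Prop where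
  isP : IsPGroup p S
  sat : F.IsSaturated p
  five : Five p x s₁
  ess : F.IsEssential p E
  comm : IsMulCommutative E
  cardE : Nat.card E = p ^ 2
  memE : ∀ g : S, (g : Ω) ∈ E ↔ Commute g x

namespace PearlCtx

variable [Finite S] [Fact p.Prime] {E : Subgroup Ω} {x s₁ : S} (h : PearlCtx F p E x s₁)
include h

theorem hES : E ≤ S := h.ess.1.1

theorem x_mem : (x : Ω) ∈ E := (h.memE x).2 (Commute.refl x)

theorem Z1_le : zTerm S 1 ≤ E := fun z hz => by
  obtain ⟨hzS, hz'⟩ := mem_zTerm.1 hz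
  exact (h.memE ⟨z, hzS⟩).2 (Subgroup.mem_center_iff.1 (Subgroup.upperCentralSeries_one S ▸ hz') x).symm

theorem mem_Z1_of {z : Ω} (hz : z ∈ zTerm S 3) (hzE : z ∈ E) : z ∈ zTerm S 1 := by
  obtain ⟨hzS, hz'⟩ := mem_zTerm.1 hz
  exact mem_zTerm.2 ⟨hzS, h.five.cent _ hz' ((h.memE ⟨z, hzS⟩).1 hzE).symm⟩

theorem comm_mem_three {a b : Ω} (ha : a ∈ S) (hb : b ∈ S) : ⁅a, b⁆ ∈ zTerm S 3 :=
  (coe_mem_zTerm (x := ⁅(⟨a, ha⟩ : S), ⟨b, hb⟩⁆)).2 (h.five.comm_three _ _)

/-- The elements normalising `E` are `x ^ i` times an element of `Z₂`. -/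
theorem mem_N {g : Ω} (hg : g ∈ normalizerIn S E) :
    ∃ (i : ℤ) (v : Ω), v ∈ zTerm S 2 ∧ g = (x : Ω) ^ i * v := by
  obtain ⟨hgS, hgN⟩ := hg
  obtain ⟨i, w, hw, e⟩ := h.five.decomp ⟨g, hgS⟩
  refine ⟨i, w, coe_mem_zTerm.2 (h.five.mem_two_of_comm hw ?_), by
    simpa using congrArg Subtype.val e⟩
  have hwN : (w : Ω) ∈ Subgroup.normalizer (E : Set Ω) := by
    have e' : (w : Ω) = ((x : Ω) ^ i)⁻¹ * g := by
      rw [show g = (x : Ω) ^ i * w by simpa using congrArg Subtype.val e, inv_mul_cancel_left]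
    rw [e']
    exact mul_mem (inv_mem (Subgroup.le_normalizer (zpow_mem h.x_mem i))) hgN
  have h1 : ((⁅x, w⁆ : S) : Ω) ∈ E := by
    have := E.mul_mem h.x_mem ((Subgroup.mem_normalizer_iff.1 hwN _).1 (inv_mem h.x_mem))
    simpa [commutatorElement_def, mul_assoc] using this
  exact h.five.cent _ (h.five.comm_three _ _) ((h.memE _).1 h1).symm

theorem Z2_le_N : zTerm S 2 ≤ normalizerIn S E := fun y hy => by
  refine ⟨zTerm_le S 2 hy, ?_⟩
  have := finite_of_le h.hES
  refine Subgroup.mem_normalizer_fintype fun e he => ?_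
  rw [SetLike.mem_coe, conj_eq_commutator_mul]
  exact mul_mem (h.Z1_le (commutator_step hy (h.hES he))) he

theorem E_lt_N : E < normalizerIn S E :=
  lt_normalizerIn h.isP (lt_of_le_of_ne h.hES
    (CfsgLib.FusionExtraspecial.ne_self_of_essential h.isP h.sat h.ess))

theorem card_N : Nat.card (normalizerIn S E) = p ^ 3 := by
  have hp : p.Prime := Fact.out
  have hNS := normalizerIn_le S E
  have := finite_of_le hNS
  have hle : Nat.card (normalizerIn S E) ≤ p ^ 3 := by
    have hsub : ((normalizerIn S E : Subgroup Ω) : Set Ω) ⊆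
        ((Subgroup.zpowers (x : Ω) : Subgroup Ω) : Set Ω) * (zTerm S 2 : Set Ω) := fun g hg => by
      obtain ⟨i, v, hv, rfl⟩ := h.mem_N hg
      exact Set.mul_mem_mul ⟨i, rfl⟩ hv
    have hxp : (x : Ω) ^ p = 1 := by simpa using congrArg Subtype.val h.five.xp
    have : Finite (zTerm S 2) := finite_of_le (zTerm_le S 2)
    have : Finite (Subgroup.zpowers (x : Ω)) := finite_of_le (Subgroup.zpowers_le.2 x.2)
    refine (Nat.card_mono ((Set.toFinite _).mul (Set.toFinite _)) hsub).trans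
      (Set.natCard_mul_le.trans ?_)
    rw [show Nat.card ((Subgroup.zpowers (x : Ω) : Subgroup Ω) : Set Ω) = orderOf (x : Ω) from
      Nat.card_zpowers _, show Nat.card (zTerm S 2 : Set Ω) = p ^ 2 from h.five.mc.card_zTerm (by omega)]
    calc orderOf (x : Ω) * p ^ 2 ≤ p * p ^ 2 :=
          Nat.mul_le_mul_right _ (Nat.le_of_dvd hp.pos (orderOf_dvd_of_pow_eq_one hxp))
      _ = p ^ 3 := by ring
  have hlt := Set.Finite.card_lt_card (Set.toFinite (normalizerIn S E : Set Ω)) h.E_lt_N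
  obtain ⟨k, hk⟩ := IsPGroup.iff_card.1 (h.isP.to_le hNS)
  rw [show Nat.card (E : Set Ω) = p ^ 2 from h.cardE,
    show Nat.card (normalizerIn S E : Set Ω) = p ^ k from hk] at hlt
  rw [hk] at hle ⊢
  have := (Nat.pow_lt_pow_iff_right hp.one_lt).1 hlt
  have := (Nat.pow_le_pow_iff_right hp.one_lt).1 hle
  congr 1
  omega

theorem card_S : Nat.card S = p ^ 5 := h.five.mc.card_eq

theorem N_ne : normalizerIn S E ≠ S := fun e => by
  have h1 := h.card_N
  rw [e, h.card_S] at h1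
  have := Nat.pow_right_injective (Fact.out : p.Prime).two_le h1
  omega

theorem x_not : (x : Ω) ∉ zTerm S 3 := fun hx => h.five.xU (coe_mem_zTerm.1 hx)

/-- Conjugating `E` by a power of `s₂` reaches every `x ^ i * v`, `v ∈ Z₂`. -/
theorem exists_conj {i : ℤ} (hi : ¬ (p : ℤ) ∣ i) {v : S}
    (hv : v ∈ Subgroup.upperCentralSeries S 2) :
    ∃ g : S, x ^ i * v * (g * x ^ i * g⁻¹)⁻¹ ∈ Subgroup.upperCentralSeries S 1 := by
  set s₃ := ⁅x, ⁅x, s₁⁆⁆
  obtain ⟨r, u, hu, rfl⟩ := CfsgLib.FusionPearl.exists_pow_mul_of_index h.five.mc.isPGroup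
    (Subgroup.upperCentralSeries_mono S (show 1 ≤ 2 by omega)) (by
      rw [h.five.card_upper' (by omega), h.five.card_upper' (by omega)]; ring)
    h.five.s3_mem h.five.s3_not hv
  obtain ⟨a, b, hab⟩ : IsCoprime i (p : ℤ) :=
    ((Nat.prime_iff_prime_int.1 (Fact.out : p.Prime)).coprime_iff_not_dvd.2 hi).symm
  set k := -r * a
  refine ⟨⁅x, s₁⁆ ^ k, ?_⟩
  set q := QuotientGroup.mk' (Subgroup.upperCentralSeries S 1) with hq
  have h2 := comm_mod (i := 1) (a := x) (b := ⁅x, s₁⁆) (w := 1) (v := 1) h.five.s3_mem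
    (by rw [commutatorElement_one_left]; exact one_mem _) i k
    (by rw [commutatorElement_one_right]; exact one_mem _)
  rw [mul_one, mul_one] at h2
  have hqc : q ⁅x ^ i, ⁅x, s₁⁆ ^ k⁆ = q s₃ ^ (i * k) := by
    have := (QuotientGroup.eq (s := Subgroup.upperCentralSeries S 1)).2 h2
    rw [← map_zpow]
    exact this.symm
  have hqz : ∀ z, Commute (q s₃) z := fun z => by
    obtain ⟨z, rfl⟩ := QuotientGroup.mk'_surjective (Subgroup.upperCentralSeries S 1) z
    rw [← commutatorElement_eq_one_iff_commute, ← map_commutatorElement]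
    exact (QuotientGroup.eq_one_iff _).2 (step h.five.s3_mem z).1
  have hqc' : q ⁅⁅x, s₁⁆ ^ k, x ^ i⁆ = q s₃ ^ (-(i * k)) := by
    rw [zpow_neg, ← hqc, ← map_inv, commutatorElement_inv]
  refine (QuotientGroup.eq_one_iff _).1 ?_
  show q _ = 1
  rw [map_mul, map_mul, map_inv, map_mul q (s₃ ^ r) u, conj_eq, map_mul q _ (x ^ i), hqc',
    mul_inv_eq_one, show q u = 1 from (QuotientGroup.eq_one_iff u).2 hu, mul_one, map_zpow q s₃ r,
    ← ((hqz (q (x ^ i))).zpow_left r).eq]
  congr 1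
  have hs3p : q s₃ ^ p = 1 := by
    rw [← map_pow]
    exact (QuotientGroup.eq_one_iff _).2 (pow_mem_of_card
      (Subgroup.upperCentralSeries_mono S (by omega)) (by
        rw [h.five.card_upper' (by omega), h.five.card_upper' (by omega)]; ring) h.five.s3_mem)
  have e : r = -(i * k) + r * b * p := by
    calc r = r * (a * i + b * p) := by rw [hab, mul_one]
      _ = -(i * k) + r * b * p := by simp only [k]; ring
  conv_lhs => rw [e, zpow_add, zpow_mul (q s₃) (r * b), zpow_natCast, ← zpow_natCast, ← zpow_mul,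
    mul_comm (r * b), zpow_mul, zpow_natCast, hs3p, one_zpow, mul_one]

/-- The automorphisms of the torus extend to `S`. -/
theorem exists_torus_aut {a b : ℤ} (hab : (p : ℤ) ∣ a * b - 1) :
    ∃ (β : MulAut S) (w : S), β ∈ F.autGroup S ∧ w ∈ Subgroup.upperCentralSeries S 1 ∧
      β x = x ^ b * w ∧ ∀ z ∈ Subgroup.upperCentralSeries S 1, β z = z ^ a := by
  have hp : p.Prime := Fact.out
  have hSf := h.five.mc
  haveI := h.comm
  have := finite_of_le h.hES
  obtain ⟨y, hy2, hy1⟩ := hSf.exists_layer (i := 2) (by omega) (by omega)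
  set N := normalizerIn S E with hN
  have hEN : E ≤ N := le_normalizerIn h.hES
  have hyN : y ∈ N := h.Z2_le_N hy2
  have hyE : y ∉ E := fun hy => hy1 (h.mem_Z1_of (zTerm_mono (by omega) hy2) hy)
  have hcE : centralizerIn S E ≤ E := centralizerIn_le_of_centric h.ess.1
  have hidx : E.relIndex N = p := by
    have h2 := Subgroup.card_mul_index (E.subgroupOf N)
    rw [Nat.card_congr (Subgroup.subgroupOfEquivOfLe hEN).toEquiv, h.cardE, hN, h.card_N] at h2
    exact Nat.eq_of_mul_eq_mul_left (pow_pos hp.pos 2) (h2.trans (by ring))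
  -- `x` does not commute with `y`
  have hxy : ¬ Commute y (x : Ω) := fun hc =>
    hyE ((h.memE ⟨y, zTerm_le S 2 hy2⟩).2 (Subtype.ext hc.eq))
  have hfix : (E ⊓ Subgroup.centralizer {y}).relIndex E = p := by
    set H := E ⊓ Subgroup.centralizer {y}
    have hH : H ≤ E := inf_le_left
    have hZ : zTerm S 1 ≤ H := fun z hz => ⟨h.Z1_le hz, Subgroup.mem_centralizer_singleton_iff.2
      (zTerm_one_comm hz (zTerm_le S 2 hy2)).symm⟩
    have := finite_of_le (hH.trans h.hES)
    have hlt := Set.Finite.card_lt_card (Set.toFinite (E : Set Ω)) (show H < E from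
      lt_of_le_of_ne hH fun e => hxy
        (Subgroup.mem_centralizer_singleton_iff.1 (Subgroup.mem_inf.1 (e.ge h.x_mem)).2).symm)
    have h1 := Subgroup.card_le_of_le hZ
    rw [hSf.card_zTerm (by omega), pow_one] at h1
    obtain ⟨k, hk⟩ := IsPGroup.iff_card.1 (h.isP.to_le (hH.trans h.hES))
    rw [show Nat.card (H : Set Ω) = p ^ k from hk, show Nat.card (E : Set Ω) = p ^ 2 from h.cardE]
      at hlt
    have hk2 := (Nat.pow_lt_pow_iff_right hp.one_lt).1 hlt
    obtain rfl : k = 1 := by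
      refine le_antisymm (by omega) (Nat.one_le_iff_ne_zero.2 fun e => ?_)
      rw [hk, e, pow_zero] at h1
      exact absurd h1 (not_le.2 hp.one_lt)
    have h2 := Subgroup.card_mul_index (H.subgroupOf E)
    rw [Nat.card_congr (Subgroup.subgroupOfEquivOfLe hH).toEquiv, hk, pow_one, h.cardE] at h2
    exact Nat.eq_of_mul_eq_mul_left hp.pos (h2.trans (sq p))
  have : Finite (MulAut E) := Finite.of_injective (fun α => (α : E → E)) DFunLike.coe_injective
  obtain ⟨σ, hσA, hσy, hσt, hσgen, hA⟩ :=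
    CfsgLib.FusionClosed.exists_transvection h.isP h.sat h.ess.2.1 hcE hidx hyN hyE hfix
  have hσF := autInducedBy_le_autGroup (F := F) h.hES hσA
  have hσ1 : σ ≠ 1 := fun e => by
    have := hσt.order
    rw [e, orderOf_one] at this
    exact hp.one_lt.ne this
  obtain ⟨g, hg, hgσ⟩ := CfsgLib.FusionClosed.exists_conj_not_mem h.isP h.ess hσgen hσ1
  obtain ⟨τ', z, z', hτ'A, P, hτ'z, -⟩ := CfsgLib.FusionClosed.exists_pair (h.isP.to_le h.hES) hA
    hσF (mul_mem (mul_mem hg hσF) (inv_mem hg)) hσt (hσt.conj g) hgσ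
  obtain ⟨α, hαm, hαz, hαz', -⟩ := Pair.torus P hab
  have hαF : α ∈ F.autGroup E :=
    (Subgroup.closure_le _).2 (by rintro u (rfl | rfl) <;> assumption) hαm
  -- `z` spans the centre, `z'` lies outside
  have hzy : (z : Ω) = ⁅y, (z' : Ω)⁆ := by
    rw [← P.left_apply]
    show ((σ z' : E) : Ω) * ((z' : E) : Ω)⁻¹ = _
    rw [hσy, commutatorElement_def]
  have hzZ : (z : Ω) ∈ zTerm S 1 := hzy ▸ commutator_step hy2 (h.hES z'.2)
  have hexp : ∀ e : E, e ^ p = 1 := fun e => by
    obtain ⟨k, -, hk⟩ := (Nat.dvd_prime_pow hp).1 (h.cardE ▸ orderOf_dvd_natCard e)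
    rw [← orderOf_dvd_iff_pow_eq_one, hk]
    by_contra hc
    have hk2 : k = 2 := by
      have h1 : k ≤ 2 := (Nat.pow_le_pow_iff_right hp.one_lt).1
        (hk ▸ (Nat.le_of_dvd Nat.card_pos (orderOf_dvd_natCard e)).trans_eq h.cardE)
      rcases k with _ | _ | k
      · exact absurd (by simp) hc
      · exact absurd (by simp) hc
      · omega
    subst hk2
    refine CfsgLib.FusionEssential.not_isCyclic_of_essential h.ess ⟨⟨e, fun u => ?_⟩⟩
    have : Subgroup.zpowers e = ⊤ := Subgroup.eq_top_of_card_eq _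
      (by rw [Nat.card_zpowers, hk, h.cardE])
    rw [← Subgroup.mem_zpowers_iff, this]
    exact Subgroup.mem_top u
  have hz1 : zTerm S 1 = Subgroup.zpowers (z : Ω) := by
    have := finite_of_le (zTerm_le S 1)
    refine (Subgroup.eq_of_le_of_card_ge (Subgroup.zpowers_le.2 hzZ) ?_).symm
    rw [hSf.card_zTerm (by omega), pow_one, Nat.card_zpowers,
      orderOf_eq_prime (show (z : Ω) ^ p = 1 by simpa using congrArg Subtype.val (hexp z))
        fun e => P.z_ne (Subtype.ext e)]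
  have hz'Z : (z' : Ω) ∉ zTerm S 1 := fun hz' => P.z_ne (Subtype.ext (by
    rw [hzy, Subgroup.coe_one, commutatorElement_eq_one_iff_mul_comm]
    exact zTerm_one_comm hz' (zTerm_le S 2 hy2)))
  have hαc : ∀ e : E, (e : Ω) ∈ zTerm S 1 → α e = e ^ a := by
    intro e he
    rw [hz1] at he
    obtain ⟨t, ht⟩ := he
    rw [show e = z ^ t from Subtype.ext (by simpa using ht.symm), map_zpow, hαz, ← zpow_mul,
      ← zpow_mul, mul_comm]
  obtain ⟨i, t, hit⟩ : ∃ i t : ℤ, (⟨x, h.x_mem⟩ : E) = z' ^ i * z ^ t := by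
    obtain ⟨i, v, hv, e⟩ := CfsgLib.FusionPearl.exists_pow_mul_of_index h.isP
      (A := Subgroup.upperCentralSeries S 1) (B := E.subgroupOf S) (x := (⟨z', h.hES z'.2⟩ : S))
      (fun w hw => h.Z1_le (coe_mem_zTerm.2 hw)) (by
        rw [Nat.card_congr (Subgroup.subgroupOfEquivOfLe h.hES).toEquiv, h.cardE,
          h.five.card_upper' (by omega)]
        ring) z'.2 (fun e => hz'Z (coe_mem_zTerm.2 e)) (w := x) h.x_mem
    obtain ⟨t, ht⟩ : (v : Ω) ∈ Subgroup.zpowers (z : Ω) := hz1 ▸ coe_mem_zTerm.2 hv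
    refine ⟨i, t, Subtype.ext ?_⟩
    have e' : (x : Ω) = (z' : Ω) ^ i * v := by simpa using congrArg Subtype.val e
    show (x : Ω) = _
    rw [e', ← ht]
    simp
  -- first extension
  let D0 : ℕ → Subgroup Ω := fun j => if j = 0 then E else if j = 1 then zTerm S 1 else ⊥
  obtain ⟨β₁, hβ₁, hβ₁x⟩ := exists_aut_extension h.isP h.sat h.ess.2.1 D0 2 rfl rfl
    (fun j => by
      rcases j with _ | _ | j
      · exact le_rfl
      · exact h.Z1_le
      · exact bot_le)
    (fun j => by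
      rcases j with _ | _ | j
      · exact inf_le_right
      · exact (normalizerIn_le S E).trans (le_normalizer_zTerm 1)
      · exact fun g _ => Subgroup.mem_normalizer_iff.2 fun w => by simp [D0])
    (fun g hg j hj u hu => by
      interval_cases j
      · have hu' : u ∈ E := hu
        refine h.mem_Z1_of ?_ (mul_mem (inv_mem hu') ((Subgroup.mem_normalizer_iff.1 hg.2 u).1 hu'))
        rw [show u⁻¹ * (g * u * g⁻¹) = ⁅u⁻¹, g⁆ by rw [commutatorElement_def]; group]
        exact h.comm_mem_three (inv_mem (h.hES hu')) hg.1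
      · have hu' : u ∈ zTerm S 1 := hu
        show u⁻¹ * (g * u * g⁻¹) ∈ (⊥ : Subgroup Ω)
        rw [zTerm_one_comm hu' hg.1, mul_inv_cancel_right, inv_mul_cancel]
        exact one_mem _)
    hαF (fun j u hu => by
      rcases j with _ | _ | j
      · exact (α u).2
      · have hu' : (u : Ω) ∈ zTerm S 1 := hu
        show (α u : Ω) ∈ zTerm S 1
        rw [hαc u hu', Subgroup.coe_zpow]
        exact zpow_mem hu' a
      · have hu' : (u : Ω) ∈ (⊥ : Subgroup Ω) := hu
        rw [Subgroup.mem_bot] at hu'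
        show (α u : Ω) ∈ (⊥ : Subgroup Ω)
        rw [show u = 1 from Subtype.ext hu', map_one]
        exact one_mem _)
  have hNS : N ≤ S := normalizerIn_le S E
  have := finite_of_le hNS
  have hZ2N : zTerm S 2 ≤ N := h.Z2_le_N
  have hβ₁c : ∀ u : N, (u : Ω) ∈ zTerm S 1 → (β₁ u : Ω) = (u : Ω) ^ a := by
    intro u hu
    rw [hβ₁x ⟨u, h.Z1_le hu⟩ u rfl, hαc _ hu, Subgroup.coe_zpow]
  -- the image of `Z₂`
  have hβ₁Z2 : ∀ u : N, (u : Ω) ∈ zTerm S 2 → (β₁ u : Ω) ∈ zTerm S 2 := by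
    by_contra hcon
    push Not at hcon
    obtain ⟨u, hu2, hu⟩ := hcon
    obtain ⟨i, v, hv, e⟩ := h.mem_N (β₁ u).2
    have hi : ¬ (p : ℤ) ∣ i := by
      rintro ⟨m, rfl⟩
      refine hu ?_
      have hxp : (x : Ω) ^ p = 1 := by simpa using congrArg Subtype.val h.five.xp
      rw [e, zpow_mul, zpow_natCast, hxp, one_zpow, one_mul]
      exact hv
    obtain ⟨hvS, hv'⟩ := mem_zTerm.1 hv
    obtain ⟨g, hg⟩ := h.exists_conj hi hv'
    have hEg : ∀ w ∈ E, (g : Ω) * w * (g : Ω)⁻¹ ∈ E.map (MulAut.conj (g : Ω)).toMonoidHom :=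
      fun w hw => ⟨w, hw, rfl⟩
    have hmem : (β₁ u : Ω) ∈ E.map (MulAut.conj (g : Ω)).toMonoidHom := by
      have h1 := coe_mem_zTerm.2 hg
      have h2 : ((x ^ i * ⟨v, hvS⟩ * (g * x ^ i * g⁻¹)⁻¹ : S) : Ω) ∈
          E.map (MulAut.conj (g : Ω)).toMonoidHom :=
        ⟨_, h.Z1_le h1, by
          show (g : Ω) * _ * (g : Ω)⁻¹ = _
          rw [zTerm_one_comm h1 g.2, mul_inv_cancel_right]⟩
      have h3 := mul_mem h2 (hEg _ (zpow_mem h.x_mem i))
      rw [e]
      simpa [mul_assoc] using h3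
    refine false_of_image_conj h.ess.2.1 h.N_ne (le_normalizer_zTerm 2) hZ2N hNS hβ₁ ?_ g.2 ?_
    · rw [hSf.card_zTerm (by omega), h.cardE]
    · intro w hw
      obtain ⟨j, r, hr, e'⟩ := hSf.exists_eq_pow_mul (i := 2) (by omega) (by omega) hu2
        (fun hc => hu (by rw [hβ₁c u hc]; exact zTerm_mono (show 2 - 1 ≤ 2 by omega) (zpow_mem hc a))) hw
      have hrN : r ∈ N := hZ2N (zTerm_mono (by omega) hr)
      rw [show w = u ^ j * ⟨r, hrN⟩ from Subtype.ext (by simpa using e'), map_mul, map_zpow,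
        Subgroup.coe_mul, Subgroup.coe_zpow, hβ₁c ⟨r, hrN⟩ hr]
      refine mul_mem (zpow_mem hmem j) (zpow_mem (show r ∈ E.map (MulAut.conj (g : Ω)).toMonoidHom from
        ⟨r, h.Z1_le hr, ?_⟩) a)
      show (g : Ω) * r * (g : Ω)⁻¹ = r
      rw [zTerm_one_comm hr g.2, mul_inv_cancel_right]
  -- second extension
  set N₂ := normalizerIn S N with hN₂
  have hN₂S : N₂ ≤ S := normalizerIn_le S N
  have hxN : (x : Ω) ∈ N := hEN h.x_mem
  have hNnotnormal : ∀ Q : Subgroup Ω, F.IsConj N Q → ¬ S ≤ Subgroup.normalizer (Q : Set Ω) := by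
    intro Q hQ hn
    have hQS := le_of_isConj_right hQ
    haveI : (Q.subgroupOf S).Normal := (Subgroup.normal_subgroupOf_iff_le_normalizer hQS).2 hn
    have hc : Nat.card (Q.subgroupOf S) = p ^ 3 := by
      rw [Nat.card_congr (Subgroup.subgroupOfEquivOfLe hQS).toEquiv, ← card_eq_of_isConj hQ, hN,
        h.card_N]
    have hQ3 := hSf.normal_eq_upper (i := 3) (by omega) hc
    obtain ⟨e, he⟩ := isConj_iff.1 hQ
    refine hxy ?_
    have hmem : ∀ u : N, (⟨e u, hQS (e u).2⟩ : S) ∈ Subgroup.upperCentralSeries S 3 := fun u => by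
      rw [← hQ3]; exact (e u).2
    have h1 : e ⟨y, hyN⟩ * e ⟨x, hxN⟩ = e ⟨x, hxN⟩ * e ⟨y, hyN⟩ := Subtype.ext
      (congrArg Subtype.val (h.five.comm_three_three (hmem ⟨y, hyN⟩) (hmem ⟨x, hxN⟩)).eq :)
    rw [← map_mul, ← map_mul] at h1
    exact congrArg Subtype.val (e.injective h1)
  have hcN₂ : ∀ Q : Subgroup Ω, F.IsConj N Q → Nat.card (normalizerIn S Q) ≤ p ^ 4 := by
    intro Q hQ
    have := finite_of_le (normalizerIn_le S Q)
    have hlt : normalizerIn S Q < S := lt_of_le_of_ne (normalizerIn_le S Q) fun e =>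
      hNnotnormal Q hQ (e.ge.trans inf_le_right)
    have h1 := Set.Finite.card_lt_card (Set.toFinite (S : Set Ω)) hlt
    obtain ⟨k, hk⟩ := IsPGroup.iff_card.1 (h.isP.to_le (normalizerIn_le S Q))
    rw [show Nat.card (normalizerIn S Q : Set Ω) = p ^ k from hk,
      show Nat.card (S : Set Ω) = p ^ 5 from h.card_S] at h1
    rw [hk]
    exact Nat.pow_le_pow_right hp.pos (by
      have := (Nat.pow_lt_pow_iff_right hp.one_lt).1 h1; omega)
  have hcardN₂ : Nat.card N₂ = p ^ 4 := by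
    refine le_antisymm (hcN₂ N (isConj_refl hNS)) ?_
    have := finite_of_le hN₂S
    have h1 := Set.Finite.card_lt_card (Set.toFinite (N₂ : Set Ω))
      (lt_normalizerIn h.isP (lt_of_le_of_ne hNS h.N_ne))
    obtain ⟨k, hk⟩ := IsPGroup.iff_card.1 (h.isP.to_le hN₂S)
    rw [show Nat.card (N : Set Ω) = p ^ 3 from h.card_N,
      show Nat.card (N₂ : Set Ω) = p ^ k from hk] at h1
    rw [hk]
    exact Nat.pow_le_pow_right hp.pos (by
      have := (Nat.pow_lt_pow_iff_right hp.one_lt).1 h1; omega)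
  have hNfn : F.IsFullyNormalized N := ⟨hNS, fun Q hQ => (hcN₂ Q hQ).trans hcardN₂.ge⟩
  have hZ23 : ∀ u ∈ zTerm S 3, u ∈ N → u ∈ zTerm S 2 := by
    intro u hu3 huN
    obtain ⟨i, v, hv, rfl⟩ := h.mem_N huN
    by_cases hi : (p : ℤ) ∣ i
    · obtain ⟨m, rfl⟩ := hi
      have hxp : (x : Ω) ^ p = 1 := by simpa using congrArg Subtype.val h.five.xp
      rw [zpow_mul, zpow_natCast, hxp, one_zpow, one_mul]
      exact hv
    · refine absurd (mem_of_zpow_mem ?_ hi ?_) h.x_not
      · rw [show (x : Ω) ^ p = 1 by simpa using congrArg Subtype.val h.five.xp]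
        exact one_mem _
      · simpa using mul_mem hu3 (inv_mem (zTerm_mono (show 2 ≤ 3 by omega) hv))
  let D1 : ℕ → Subgroup Ω := fun j => if j = 0 then N else if j = 1 then zTerm S 2 else
    if j = 2 then zTerm S 1 else ⊥
  obtain ⟨β₂, hβ₂, hβ₂x⟩ := exists_aut_extension h.isP h.sat hNfn D1 3 rfl rfl
    (fun j => by
      rcases j with _ | _ | _ | j
      · exact le_rfl
      · exact hZ2N
      · exact h.Z1_le.trans hEN
      · exact bot_le)
    (fun j => by
      rcases j with _ | _ | _ | j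
      · exact inf_le_right
      · exact hN₂S.trans (le_normalizer_zTerm 2)
      · exact hN₂S.trans (le_normalizer_zTerm 1)
      · exact fun g _ => Subgroup.mem_normalizer_iff.2 fun w => by simp [D1])
    (fun g hg j hj u hu => by
      interval_cases j
      · have hu' : u ∈ N := hu
        refine hZ23 _ ?_ (mul_mem (inv_mem hu') ((Subgroup.mem_normalizer_iff.1 hg.2 u).1 hu'))
        rw [show u⁻¹ * (g * u * g⁻¹) = ⁅u⁻¹, g⁆ by rw [commutatorElement_def]; group]
        exact h.comm_mem_three (inv_mem (hNS hu')) hg.1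
      · have hu' : u ∈ zTerm S 2 := hu
        show u⁻¹ * (g * u * g⁻¹) ∈ zTerm S 1
        rw [show u⁻¹ * (g * u * g⁻¹) = ⁅u⁻¹, g⁆ by rw [commutatorElement_def]; group]
        exact commutator_step (inv_mem hu') hg.1
      · have hu' : u ∈ zTerm S 1 := hu
        show u⁻¹ * (g * u * g⁻¹) ∈ (⊥ : Subgroup Ω)
        rw [zTerm_one_comm hu' hg.1, mul_inv_cancel_right, inv_mul_cancel]
        exact one_mem _)
    hβ₁ (fun j u hu => by
      rcases j with _ | _ | _ | j
      · exact (β₁ u).2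
      · exact hβ₁Z2 u hu
      · have hu' : (u : Ω) ∈ zTerm S 1 := hu
        show (β₁ u : Ω) ∈ zTerm S 1
        rw [hβ₁c u hu']
        exact zpow_mem hu' a
      · have hu' : (u : Ω) ∈ (⊥ : Subgroup Ω) := hu
        rw [Subgroup.mem_bot] at hu'
        show (β₁ u : Ω) ∈ (⊥ : Subgroup Ω)
        rw [show u = 1 from Subtype.ext hu', map_one]
        exact one_mem _)
  have := finite_of_le hN₂S
  have hNN₂ : N ≤ N₂ := le_normalizerIn hNS
  have hZ3N₂ : zTerm S 3 ≤ N₂ := fun w hw => by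
    refine ⟨zTerm_le S 3 hw, Subgroup.mem_normalizer_fintype fun u hu => ?_⟩
    rw [SetLike.mem_coe, conj_eq_commutator_mul]
    exact mul_mem (hZ2N (commutator_step hw (hNS hu))) hu
  -- decomposition of `N₂`
  have hN₂dec : ∀ u ∈ N₂, ∃ (i : ℤ) (w : Ω), w ∈ zTerm S 3 ∧ u = (x : Ω) ^ i * w := by
    intro u hu
    obtain ⟨i, w, hw, e⟩ := CfsgLib.FusionPearl.exists_pow_mul_of_index h.isP
      (A := Subgroup.upperCentralSeries S 3) (B := N₂.subgroupOf S) (x := x)
      (fun w hw => hZ3N₂ (coe_mem_zTerm.2 hw)) (by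
        rw [Nat.card_congr (Subgroup.subgroupOfEquivOfLe hN₂S).toEquiv, hcardN₂,
          h.five.card_upper' le_rfl]
        ring) (hNN₂ hxN) h.five.xU (w := ⟨u, hN₂S hu⟩) hu
    exact ⟨i, w, coe_mem_zTerm.2 hw, by simpa using congrArg Subtype.val e⟩
  have hβ₂Z2 : ∀ u : N₂, (u : Ω) ∈ zTerm S 2 → (β₂ u : Ω) ∈ zTerm S 2 := fun u hu => by
    rw [hβ₂x ⟨u, hZ2N hu⟩ u rfl]
    exact hβ₁Z2 _ hu
  have hβ₂Z3 : ∀ u : N₂, (u : Ω) ∈ zTerm S 3 → (β₂ u : Ω) ∈ zTerm S 3 := by
    intro u hu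
    obtain ⟨i, w, hw, e⟩ := hN₂dec _ (β₂ u).2
    by_cases hi : (p : ℤ) ∣ i
    · obtain ⟨m, rfl⟩ := hi
      have hxp : (x : Ω) ^ p = 1 := by simpa using congrArg Subtype.val h.five.xp
      rw [e, zpow_mul, zpow_natCast, hxp, one_zpow, one_mul]
      exact hw
    · exfalso
      obtain ⟨r, hr, hr'⟩ := hSf.exists_layer (i := 2) (by omega) (by omega)
      obtain ⟨r₀, hr₀, hr₀e⟩ := exists_preimage β₂ (hZ2N.trans hNN₂) hβ₂Z2 hr
      have hc : Commute (β₂ u : Ω) r := by
        have h1 : u * r₀ = r₀ * u := Subtype.ext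
          (hSf.commute_zTerm (by omega) (i := 2) (j := 3) (by omega) (by omega) hr₀ hu).symm
        have h2 := congrArg (fun w : N₂ => (β₂ w : Ω)) h1
        simp only [map_mul, Subgroup.coe_mul] at h2
        rw [hr₀e] at h2
        exact h2
      have hwr : Commute w r :=
        (hSf.commute_zTerm (by omega) (i := 2) (j := 3) (by omega) (by omega) hr hw).symm
      rw [e] at hc
      have hxr : Commute ((x : Ω) ^ i) r := by simpa using hc.mul_left hwr.inv_left
      have hxr' : Commute (x : Ω) r := by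
        obtain ⟨m, l, hml⟩ : IsCoprime i (p : ℤ) :=
          ((Nat.prime_iff_prime_int.1 hp).coprime_iff_not_dvd.2 hi).symm
        have hxp : (x : Ω) ^ p = 1 := by simpa using congrArg Subtype.val h.five.xp
        have h2 : ((x : Ω) ^ i) ^ m = x := by
          rw [← zpow_mul, show i * m = 1 + (p : ℤ) * -l by linear_combination hml, zpow_add,
            zpow_one, zpow_mul, zpow_natCast, hxp, one_zpow, mul_one]
        exact h2 ▸ hxr.zpow_left m
      obtain ⟨hrS, hr2⟩ := mem_zTerm.1 hr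
      exact hr' (coe_mem_zTerm.2 (h.five.cent ⟨r, hrS⟩
        (Subgroup.upperCentralSeries_mono S (by omega) hr2) (Subtype.ext hxr'.eq)) :)
  have hN₂n : S ≤ Subgroup.normalizer (N₂ : Set Ω) := by
    refine le_normalizer_of_conj hN₂S fun s hs u hu => ?_
    rw [conj_eq_commutator_mul]
    exact mul_mem (hZ3N₂ (h.comm_mem_three hs (hN₂S hu))) hu
  have hN₂N : normalizerIn S N₂ = S := inf_eq_left.2 hN₂n
  let D2 : ℕ → Subgroup Ω := fun j => if j = 0 then N₂ else if j = 1 then zTerm S 3 else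
    if j = 2 then zTerm S 2 else if j = 3 then zTerm S 1 else ⊥
  obtain ⟨β₃, hβ₃, hβ₃x⟩ := exists_aut_extension h.isP h.sat
    (fullyNormalized_of_normal hN₂S hN₂n) D2 4 rfl rfl
    (fun j => by
      rcases j with _ | _ | _ | _ | j
      · exact le_rfl
      · exact hZ3N₂
      · exact hZ2N.trans hNN₂
      · exact (h.Z1_le.trans hEN).trans hNN₂
      · exact bot_le)
    (fun j => by
      rcases j with _ | _ | _ | _ | j
      · exact inf_le_right
      · exact (normalizerIn_le S N₂).trans (le_normalizer_zTerm 3)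
      · exact (normalizerIn_le S N₂).trans (le_normalizer_zTerm 2)
      · exact (normalizerIn_le S N₂).trans (le_normalizer_zTerm 1)
      · exact fun g _ => Subgroup.mem_normalizer_iff.2 fun w => by simp [D2])
    (fun g hg j hj u hu => by
      have e : u⁻¹ * (g * u * g⁻¹) = ⁅u⁻¹, g⁆ := by rw [commutatorElement_def]; group
      rw [e]
      interval_cases j
      · exact h.comm_mem_three (inv_mem (hN₂S (show u ∈ N₂ from hu))) hg.1
      · exact commutator_step (inv_mem (show u ∈ zTerm S 3 from hu)) hg.1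
      · exact commutator_step (inv_mem (show u ∈ zTerm S 2 from hu)) hg.1
      · have := commutator_step (i := 0) (inv_mem (show u ∈ zTerm S 1 from hu)) hg.1
        rw [zTerm_zero] at this
        exact this)
    hβ₂ (fun j u hu => by
      rcases j with _ | _ | _ | _ | j
      · exact (β₂ u).2
      · exact hβ₂Z3 u hu
      · exact hβ₂Z2 u hu
      · have hu' : (u : Ω) ∈ zTerm S 1 := hu
        show (β₂ u : Ω) ∈ zTerm S 1
        rw [hβ₂x ⟨u, hEN (h.Z1_le hu')⟩ u rfl, hβ₁c _ hu']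
        exact zpow_mem hu' a
      · have hu' : (u : Ω) ∈ (⊥ : Subgroup Ω) := hu
        rw [Subgroup.mem_bot] at hu'
        show (β₂ u : Ω) ∈ (⊥ : Subgroup Ω)
        rw [show u = 1 from Subtype.ext hu', map_one]
        exact one_mem _)
  obtain ⟨β, hβ, hβx⟩ := exists_aut_of_eq hN₂N hβ₃
  -- evaluation on `E`
  have heval : ∀ u : E, (β ⟨u, h.hES u.2⟩ : Ω) = α u := by
    intro u
    rw [hβx ⟨u, hN₂N.symm ▸ h.hES u.2⟩ _ rfl,
      hβ₃x ⟨u, hNN₂ (hEN u.2)⟩ _ rfl, hβ₂x ⟨u, hEN u.2⟩ _ rfl, hβ₁x u _ rfl]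
  refine ⟨β, (⟨z, h.hES z.2⟩ : S) ^ (a * t - b * t), hβ, zpow_mem (coe_mem_zTerm.1 hzZ) _, ?_,
    fun w hw => ?_⟩
  · have hc : Commute z' z := mul_comm' z' z
    have h1 : α ⟨x, h.x_mem⟩ = ⟨x, h.x_mem⟩ ^ b * z ^ (a * t - b * t) := by
      rw [hit, map_mul, map_zpow, map_zpow, hαz, hαz', (hc.zpow_zpow i t).mul_zpow, mul_assoc,
        ← zpow_mul, ← zpow_mul, ← zpow_mul, ← zpow_mul, ← zpow_add]
      congr 2 <;> ring
    refine Subtype.ext ?_
    have h2 := heval ⟨x, h.x_mem⟩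
    rw [h1] at h2
    simpa using h2
  · have hwE : (w : Ω) ∈ E := h.Z1_le (coe_mem_zTerm.2 hw)
    refine Subtype.ext ?_
    have h2 := heval ⟨w, hwE⟩
    rw [hαc _ (coe_mem_zTerm.2 hw)] at h2
    simpa using h2

end PearlCtx

end CfsgLib.FusionFive
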